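import Cfsg.Agent.A8ThreeLocal.CentTSylow
import Cfsg.Agent.SelfCentThree.Main
import Cfsg.Agent.OddLocal.Basic

/-!
The centraliser of a long involution lies in the subgroup.
-/

set_option autoImplicit false
set_option synthInstance.maxSize 2000
set_option synthInstance.maxHeartbeats 400000

namespace Cfsg.Agent.A8ThreeLocal

open Equiv Equiv.Perm Subgroup

theorem perm3_cube : ∀ σ : Perm (Fin 3), sign σ = 1 → σ ^ 3 = 1 := by decide +kernel

variable {G : Type*} [Group G] [Finite G]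

theorem coprime_pow_eq_one {g : G} {a b : ℕ} (ha : g ^ a = 1) (hb : g ^ b = 1) (h : a.Coprime b) : g = 1 := by
  rw [← orderOf_eq_one_iff]
  exact Nat.eq_one_of_dvd_coprimes h (orderOf_dvd_of_pow_eq_one ha) (orderOf_dvd_of_pow_eq_one hb)

namespace Frame

variable (F : Frame G)

/-- The centraliser of the long involution. -/
abbrev CI : Subgroup G := centralizer ({F.Φ iA} : Set G)

/-- The Sylow subgroup of that centraliser. -/
def SG : Subgroup G := SA.map F.Φ

theorem SG_card : Nat.card F.SG = 64 := by rw [SG, card_map_of_injective F.inj, SA_card]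

theorem SG_le : F.SG ≤ F.CI := by
  rintro _ ⟨m, hm, rfl⟩
  rw [mem_centralizer_singleton_iff, ← map_mul, ← map_mul, SL_comm m hm]

theorem SG_max (P : Subgroup G) (hP : IsPGroup 2 P) (hS : F.SG ≤ P) : P = F.SG := by
  classical
  by_contra hne
  have : Fact (Nat.Prime 2) := ⟨Nat.prime_two⟩
  have hlt : F.SG.subgroupOf P < ⊤ := lt_top_iff_ne_top.2 fun e => hne (le_antisymm (subgroupOf_eq_top.1 e) hS)
  have : Group.IsNilpotent P := hP.isNilpotent
  obtain ⟨q, hqN, hqS⟩ := SetLike.exists_of_lt (normalizerCondition_of_isNilpotent _ hlt)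
  have hq : ∀ x ∈ F.SG, (q : G) * x * (q : G)⁻¹ ∈ F.SG := fun x hx =>
    (Subgroup.mem_normalizer_iff.1 hqN ⟨x, hS hx⟩).1 hx
  obtain ⟨hs4, hs2, hswap, hsB4⟩ := S_facts
  have hT : F.h.IsT (F.Φ sA) := (F.isT_iff sA hs2 (by decide +kernel)).2 hs4
  obtain ⟨s, hs, hse⟩ := hq _ ⟨sA, S_mem.1, rfl⟩
  have hs1 : s ≠ 1 := fun e => (show sA ≠ 1 by decide +kernel)
    (F.inj ((conj_eq_one_iff.1 (hse.symm.trans (by rw [e, map_one]))).trans (map_one _).symm))
  have hss : s * s = 1 := F.inj (by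
    rw [map_mul, hse, show (q : G) * F.Φ sA * (q : G)⁻¹ * (q * F.Φ sA * (q : G)⁻¹) = q * (F.Φ sA * F.Φ sA) * (q : G)⁻¹ by group,
      ← map_mul, hs2, map_one]
    group)
  have h4 : Sup4 s := (F.isT_iff s hss hs1).1 (hse ▸ F.isT_conj hT q)
  have h32 : 32 ≤ (SL.filter fun m => m * s = s * m).toFinset.card := by
    rw [← sA_cent]
    have hc' : ∀ m ∈ SL, ∃ m' ∈ SL, F.Φ m' = (q : G) * F.Φ m * (q : G)⁻¹ := fun m hm => hq _ ⟨m, hm, rfl⟩
    choose f hf1 hf2 using hc'
    refine Finset.card_le_card_of_injOn (fun m => if hm : m ∈ SL then f m hm else 1) (fun m hm => ?_)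
      (fun a ha b hb hab => ?_)
    · simp only [Finset.mem_coe, List.mem_toFinset, List.mem_filter, decide_eq_true_eq] at hm ⊢
      rw [dif_pos hm.1]
      refine ⟨hf1 m hm.1, F.inj ?_⟩
      rw [map_mul, map_mul, hf2, hse,
        show (q : G) * F.Φ m * (q : G)⁻¹ * (q * F.Φ sA * (q : G)⁻¹) = q * (F.Φ m * F.Φ sA) * (q : G)⁻¹ by group,
        ← map_mul, hm.2, map_mul]
      group
    · simp only [Finset.mem_coe, List.mem_toFinset, List.mem_filter, decide_eq_true_eq] at ha hb
      simp only [dif_pos ha.1, dif_pos hb.1] at hab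
      have h1 := congrArg F.Φ hab
      rw [hf2, hf2] at h1
      exact F.inj (mul_left_cancel (mul_right_cancel h1))
  have fin : ∀ r ∈ P, r ∉ F.SG → r * F.Φ sA = F.Φ sA * r → False := by
    intro r hr hrS hrc
    set P1 := P ⊓ centralizer ({F.Φ sA} : Set G)
    have hle := F.card_le_of_isT hT P1 (hP.to_le inf_le_left)
      (fun x hx => mem_centralizer_singleton_iff.1 (mem_inf.1 hx).2)
    let E : Finset G := insert r ((SL.filter fun m => m * sA = sA * m).toFinset.image F.Φ)
    have hE : E.card = 33 := by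
      rw [Finset.card_insert_of_notMem, Finset.card_image_of_injective _ F.inj, sA_cent]
      intro hmem
      obtain ⟨m, hm, rfl⟩ := Finset.mem_image.1 hmem
      simp only [List.mem_toFinset, List.mem_filter, decide_eq_true_eq] at hm
      exact hrS ⟨m, hm.1, rfl⟩
    have hsub : ∀ x ∈ E, x ∈ P1 := by
      intro x hx
      rcases Finset.mem_insert.1 hx with rfl | hx
      · exact mem_inf.2 ⟨hr, mem_centralizer_singleton_iff.2 hrc⟩
      · obtain ⟨m, hm, rfl⟩ := Finset.mem_image.1 hx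
        simp only [List.mem_toFinset, List.mem_filter, decide_eq_true_eq] at hm
        exact mem_inf.2 ⟨hS ⟨m, hm.1, rfl⟩, mem_centralizer_singleton_iff.2 (by rw [← map_mul, hm.2, map_mul])⟩
    have h33 : E.card ≤ Nat.card P1 := by
      rw [← Nat.card_eq_finsetCard]
      exact Nat.card_le_card_of_injective (fun x : E => (⟨x.1, hsub _ x.2⟩ : P1))
        (fun a b e => Subtype.ext (congrArg (fun w : P1 => (w : G)) e))
    omega
  rcases S_short s hs h4 hss h32 with e | e
  · rw [e] at hse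
    exact fin q q.2 (fun hm => hqS (mem_subgroupOf.2 hm)) (mul_inv_eq_iff_eq_mul.1 hse.symm)
  · rw [e] at hse
    have hp : F.Φ pA ∈ F.SG := ⟨pA, S_mem.2.1, rfl⟩
    refine fin _ (mul_mem (hS hp) q.2) (fun hm => hqS (mem_subgroupOf.2 ((F.SG.mul_mem_cancel_left hp).1 hm)))
      (mul_inv_eq_iff_eq_mul.1 ?_)
    rw [mul_inv_rev, show F.Φ pA * (q : G) * F.Φ sA * ((q : G)⁻¹ * (F.Φ pA)⁻¹) =
      F.Φ pA * (q * F.Φ sA * (q : G)⁻¹) * (F.Φ pA)⁻¹ by group, ← hse, ← map_inv, ← map_mul, ← map_mul, hswap]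

/-- The centre generated by the long involution. -/
abbrev NI : Subgroup F.CI := zpowers ⟨F.Φ iA, mem_centralizer_singleton_iff.2 rfl⟩

theorem NI_normal : F.NI.Normal := ⟨fun x hx g => by
  obtain ⟨n, rfl⟩ := mem_zpowers_iff.1 hx
  have hc : Commute g (⟨F.Φ iA, mem_centralizer_singleton_iff.2 rfl⟩ : F.CI) :=
    Subtype.ext (mem_centralizer_singleton_iff.1 g.2)
  rw [(hc.zpow_right n).eq, mul_inv_cancel_right]
  exact zpow_mem (mem_zpowers _) n⟩

theorem iA_sq : F.Φ iA * F.Φ iA = 1 := by rw [← map_mul, y_facts.2.2.2.2.2.2.2.1, map_one]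

theorem mem_NI {g : F.CI} : g ∈ F.NI ↔ (g : G) = 1 ∨ (g : G) = F.Φ iA := by
  constructor
  · intro hg
    obtain ⟨n, rfl⟩ := mem_zpowers_iff.1 hg
    rw [SubgroupClass.coe_zpow]
    rcases Int.even_or_odd n with ⟨k, rfl⟩ | ⟨k, rfl⟩
    · left
      show F.Φ iA ^ (k + k) = 1
      rw [zpow_add]
      rw [show (F.Φ iA) ^ k * (F.Φ iA) ^ k = (F.Φ iA * F.Φ iA) ^ k from ((Commute.refl _).mul_zpow k).symm, F.iA_sq, one_zpow]
    · right
      rw [zpow_add, zpow_one, zpow_mul, zpow_two, F.iA_sq, one_zpow, one_mul]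
  · rintro (e | e)
    · rw [show g = 1 from Subtype.ext e]; exact one_mem _
    · rw [show g = ⟨F.Φ iA, mem_centralizer_singleton_iff.2 rfl⟩ from Subtype.ext e]; exact mem_zpowers _

theorem NI_card : Nat.card F.NI = 2 := by
  rw [Nat.card_zpowers, orderOf_mk]
  have : Fact (Nat.Prime 2) := ⟨Nat.prime_two⟩
  exact orderOf_eq_prime (by rw [pow_two, F.iA_sq])
    (fun e => y_facts.2.2.2.2.2.2.2.2.1 (F.inj (e.trans (map_one _).symm)))

theorem y_mem : F.Φ yA ∈ F.CI := mem_centralizer_singleton_iff.2 (by rw [← map_mul, ← map_mul, y_facts.1])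

theorem cent_y_CI {g : G} (h1 : g * F.Φ yA = F.Φ yA * g) (h2 : g * F.Φ iA = F.Φ iA * g) :
    ∃ n : ℤ, g = F.Φ yA ^ n ∨ g = F.Φ yA ^ n * F.Φ iA := by
  classical
  obtain ⟨m, hm⟩ := F.cent_y_le_H (mem_centralizer_singleton_iff.2 h1)
  have hall : m ∈ CY := by
    by_contra hne
    let E : Finset G := insert g (CY.toFinset.image F.Φ)
    have hE : E.card = 19 := by
      rw [Finset.card_insert_of_notMem, Finset.card_image_of_injective _ F.inj, CY_card]
      intro hmem
      obtain ⟨m', hm', e⟩ := Finset.mem_image.1 hmem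
      exact hne (F.inj (e.trans hm.symm) ▸ List.mem_toFinset.1 hm')
    have hsub : ∀ x ∈ E, x ∈ centralizer ({F.Φ yA} : Set G) := by
      intro x hx
      rcases Finset.mem_insert.1 hx with rfl | hx
      · exact mem_centralizer_singleton_iff.2 h1
      · obtain ⟨m', hm', rfl⟩ := Finset.mem_image.1 hx
        exact mem_centralizer_singleton_iff.2 (by rw [← map_mul, ← map_mul, CY_comm m' (List.mem_toFinset.1 hm')])
    have h19 : E.card ≤ Nat.card (centralizer ({F.Φ yA} : Set G)) := by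
      rw [← Nat.card_eq_finsetCard]
      exact Nat.card_le_card_of_injective (fun x : E => (⟨x.1, hsub _ x.2⟩ : centralizer ({F.Φ yA} : Set G)))
        (fun a b e => Subtype.ext (congrArg (fun w : centralizer ({F.Φ yA} : Set G) => (w : G)) e))
    rw [hE, F.cent_y_card] at h19
    omega
  have hmi : m * iA = iA * m := F.inj (by rw [map_mul, map_mul, hm]; exact h2)
  have := CY_iA m hall hmi
  simp only [List.mem_cons, List.not_mem_nil, or_false] at this
  rcases this with rfl | rfl | rfl | rfl | rfl | rfl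
  · exact ⟨0, Or.inl (by rw [← hm, map_one, zpow_zero])⟩
  · exact ⟨1, Or.inl (by rw [← hm, zpow_one])⟩
  · exact ⟨-1, Or.inl (by rw [← hm, map_inv, zpow_neg_one])⟩
  · exact ⟨0, Or.inr (by rw [← hm, zpow_zero, one_mul])⟩
  · exact ⟨1, Or.inr (by rw [← hm, map_mul, zpow_one])⟩
  · exact ⟨-1, Or.inr (by rw [← hm, map_mul, map_inv, zpow_neg_one])⟩

theorem CI_64 : 64 ∣ Nat.card F.CI := F.SG_card ▸ card_dvd_of_le F.SG_le

theorem CI_not_128 : ¬ 128 ∣ Nat.card F.CI := by
  intro hd
  have : Fact (Nat.Prime 2) := ⟨Nat.prime_two⟩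
  have hp : IsPGroup 2 F.SG := IsPGroup.of_card (n := 6) (by rw [F.SG_card]; norm_num)
  obtain ⟨S, hS⟩ := (hp.comap_subtype (K := F.CI)).exists_le_sylow
  have he := F.SG_max _ (S.2.map F.CI.subtype) (fun x hx => ⟨⟨x, F.SG_le hx⟩, hS hx, rfl⟩)
  have h1 : Nat.card (S : Subgroup F.CI) = 64 := by
    rw [← card_map_of_injective (f := F.CI.subtype) Subtype.val_injective, he, F.SG_card]
  have h2 := S.pow_dvd_card_of_pow_dvd_card (show 2 ^ 7 ∣ Nat.card F.CI by norm_num; exact hd)
  rw [h1] at h2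
  norm_num at h2

theorem cent_iA_le : F.CI ≤ F.H := by
  classical
  have hN := F.NI_normal
  have : Fact (Nat.Prime 3) := ⟨Nat.prime_three⟩
  have : Fact (Nat.Prime 2) := ⟨Nat.prime_two⟩
  let π : F.CI →* F.CI ⧸ F.NI := QuotientGroup.mk' F.NI
  have hker : ∀ g : F.CI, π g = 1 ↔ (g : G) = 1 ∨ (g : G) = F.Φ iA := fun g => by
    rw [← F.mem_NI]; exact QuotientGroup.eq_one_iff g
  set yC : F.CI := ⟨F.Φ yA, F.y_mem⟩ with hyC
  have hy3 : F.Φ yA ^ 3 = 1 := by rw [← map_pow, y_facts.2.2.2.1, map_one]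
  have hy1 : π yC ≠ 1 := fun e => by
    rcases (hker yC).1 e with e1 | e1
    · exact y_facts.2.2.2.2.1 (F.inj (e1.trans (map_one _).symm))
    · exact (show yA ≠ iA by decide +kernel) (F.inj e1)
  have hsc : SelfCentThree.Sc (π yC) := by
    refine ⟨by rw [← map_pow, show yC ^ 3 = 1 from Subtype.ext hy3, map_one], hy1,
      le_antisymm (fun x hx => ?_) (zpowers_le.2 (mem_centralizer_singleton_iff.2 rfl))⟩
    obtain ⟨g, rfl⟩ := QuotientGroup.mk'_surjective F.NI x
    change π g ∈ centralizer _ at hx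
    have h0 : π (g * yC * g⁻¹ * yC⁻¹) = 1 := by
      rw [map_mul, map_mul, map_mul, map_inv, map_inv, mem_centralizer_singleton_iff.1 hx]; group
    have hgc : (g : G) * F.Φ yA = F.Φ yA * g := by
      rcases (hker _).1 h0 with e | e
      · exact mul_inv_eq_iff_eq_mul.1 (mul_inv_eq_one.1 e)
      · exfalso
        have e2 : (g : G) * F.Φ yA * (g : G)⁻¹ = F.Φ iA * F.Φ yA := mul_inv_eq_iff_eq_mul.1 e
        have e3 := congrArg (· ^ 3) e2
        simp only [conj_pow, hy3, mul_one, mul_inv_cancel] at e3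
        rw [(show Commute (F.Φ iA) (F.Φ yA) by
          show _ = _
          rw [← map_mul, ← map_mul, y_facts.1]).mul_pow, hy3, mul_one, pow_succ, pow_two, F.iA_sq, one_mul] at e3
        exact y_facts.2.2.2.2.2.2.2.2.1 (F.inj (e3.symm.trans (map_one _).symm))
    obtain ⟨n, hn⟩ := F.cent_y_CI hgc (mem_centralizer_singleton_iff.1 g.2)
    refine mem_zpowers_iff.2 ⟨n, ?_⟩
    show π yC ^ n = π g
    rw [← map_zpow, eq_comm, ← mul_inv_eq_one, ← map_inv, ← map_mul]
    refine (hker _).2 ?_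
    rcases hn with e | e
    · left; show (g : G) * ((yC ^ n : F.CI) : G)⁻¹ = 1
      rw [SubgroupClass.coe_zpow, e, mul_inv_cancel]
    · right; show (g : G) * ((yC ^ n : F.CI) : G)⁻¹ = F.Φ iA
      have hc : Commute (F.Φ iA) (F.Φ yA ^ n) := (show Commute (F.Φ iA) (F.Φ yA) by
          show _ = _
          rw [← map_mul, ← map_mul, y_facts.1]).zpow_right n
      rw [SubgroupClass.coe_zpow, e, ← hc.eq, mul_inv_cancel_right]
  have hcard : Nat.card F.CI = Nat.card (F.CI ⧸ F.NI) * 2 := by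
    rw [card_eq_card_quotient_mul_card_subgroup F.NI, F.NI_card]
  have h32 : 32 ∣ Nat.card (F.CI ⧸ F.NI) := by have := F.CI_64; omega
  have h64 : ¬ 64 ∣ Nat.card (F.CI ⧸ F.NI) := fun hd => F.CI_not_128 (by omega)
  rcases SelfCentThree.concl _ _ rfl _ hsc with ⟨N, hNn, hnil, hN3, hq⟩ | ⟨N, hNn, -, hN2, ⟨e⟩⟩ | ⟨⟨e⟩⟩
  · obtain ⟨e⟩ : Nonempty ((F.CI ⧸ F.NI) ⧸ N ≃* Perm (Fin 3)) := by
      rcases hq with hq | hq
      · exfalso
        let ρ : F.CI →* (F.CI ⧸ F.NI) ⧸ N := (QuotientGroup.mk' N).comp π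
        have hcomm : ∀ a b : (F.CI ⧸ F.NI) ⧸ N, a * b = b * a := by
          have : IsCyclic ((F.CI ⧸ F.NI) ⧸ N) := isCyclic_of_prime_card hq
          exact fun a b => IsCyclic.commGroup.mul_comm a b
        let rC : F.CI := ⟨F.Φ rA, mem_centralizer_singleton_iff.2 (by rw [← map_mul, ← map_mul, y_facts.2.1])⟩
        have e1 : rC * yC * rC⁻¹ = yC⁻¹ := Subtype.ext (by
          show F.Φ rA * F.Φ yA * (F.Φ rA)⁻¹ = (F.Φ yA)⁻¹
          rw [← map_inv, ← map_inv, ← map_mul, ← map_mul, y_facts.2.2.1])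
        have e2 := congrArg ρ e1
        rw [map_mul, map_mul, map_inv, map_inv, hcomm (ρ rC) (ρ yC), mul_inv_cancel_right] at e2
        have e3 : ρ yC ^ 2 = 1 := by rw [pow_two]; nth_rw 1 [e2]; exact inv_mul_cancel _
        have e4 : ρ yC ^ 3 = 1 := by rw [← map_pow, show yC ^ 3 = 1 from Subtype.ext hy3, map_one]
        have e5 : π yC ∈ N := (QuotientGroup.eq_one_iff _).1 (coprime_pow_eq_one e3 e4 (by norm_num))
        have hd := _root_.orderOf_dvd_natCard (⟨π yC, e5⟩ : N)
        rw [← orderOf_coe, hsc.orderOf] at hd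
        exact absurd (Nat.eq_one_of_dvd_coprimes hN3 hd dvd_rfl) (by norm_num)
      · exact hq
    let ρ : F.CI →* Perm (Fin 3) := e.toMonoidHom.comp ((QuotientGroup.mk' N).comp π)
    have hρN : ∀ g, ρ g = 1 → π g ∈ N := fun g hg => by
      rw [← QuotientGroup.eq_one_iff]
      exact e.injective (hg.trans (map_one e).symm)
    have hLc : ∀ n : G, ∀ k : ℕ, n * F.Φ iA = F.Φ iA * n → n ^ k = 1 → k.Coprime 6 → ∀ c s1 s2 : A8,
        s1 * iA = iA * s1 → s2 * iA = iA * s2 → s1 * s2 * s1⁻¹ * s2⁻¹ = c → c * c = 1 →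
        n * F.Φ c = F.Φ c * n := by
      intro n k hn hk h6 c s1 s2 h1 h2 hc hc2
      let nC : F.CI := ⟨n, mem_centralizer_singleton_iff.2 hn⟩
      let a : F.CI := ⟨F.Φ s1, mem_centralizer_singleton_iff.2 (by rw [← map_mul, ← map_mul, h1])⟩
      let b : F.CI := ⟨F.Φ s2, mem_centralizer_singleton_iff.2 (by rw [← map_mul, ← map_mul, h2])⟩
      have hcc : (((a * b * a⁻¹ * b⁻¹ : F.CI)) : G) = F.Φ c := by
        rw [← hc]; simp [a, b, map_mul, map_inv]
      set cC := a * b * a⁻¹ * b⁻¹ with hcC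
      have hcsq : cC * cC = 1 := Subtype.ext (by
        show ((cC : F.CI) : G) * cC = 1
        rw [hcc, ← map_mul, hc2, map_one])
      have hnk : nC ^ k = 1 := Subtype.ext hk
      have m1 : π nC ∈ N := hρN _ (coprime_pow_eq_one (a := k) (b := 6)
        (by rw [← map_pow, hnk, map_one]) (by
          have := pow_card_eq_one' (x := ρ nC)
          rwa [Nat.card_perm, Nat.card_fin] at this) h6)
      have m2 : π cC ∈ N := hρN _ (coprime_pow_eq_one (a := 2) (b := 3)
        (by rw [← map_pow, pow_two, hcsq, map_one]) (perm3_cube _ (by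
          rw [hcC]
          simp only [map_mul, map_inv]
          exact mul_inv_eq_one.2 (by rw [mul_comm (sign (ρ a)), mul_inv_cancel_right]))) (by norm_num))
      have hco : (orderOf (⟨π nC, m1⟩ : N)).Coprime (orderOf (⟨π cC, m2⟩ : N)) := by
        rw [← orderOf_coe (⟨π nC, m1⟩ : N), ← orderOf_coe (⟨π cC, m2⟩ : N)]
        refine Nat.Coprime.coprime_dvd_left (orderOf_dvd_of_pow_eq_one (by rw [← map_pow, hnk, map_one]))
          (Nat.Coprime.coprime_dvd_right (orderOf_dvd_of_pow_eq_one (by rw [← map_pow, pow_two, hcsq, map_one])) ?_)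
        exact h6.coprime_dvd_right (by norm_num)
      have hcom := congrArg Subtype.val (OddLocal.commute_of_coprime_orderOf hnil hco).eq
      have h0 : π (nC * cC * nC⁻¹ * cC⁻¹) = 1 := by
        simp only [map_mul, map_inv]
        rw [show π nC * π cC = π cC * π nC from hcom]
        group
      rcases (hker _).1 h0 with e' | e'
      · rw [← hcc]
        exact mul_inv_eq_iff_eq_mul.1 (mul_inv_eq_one.1 e')
      · rw [← hcc]
        have e2 : n * (cC : G) * n⁻¹ = F.Φ iA * cC := mul_inv_eq_iff_eq_mul.1 e'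
        have e3 : Commute (n ^ 2) (cC : G) := by
          refine mul_inv_eq_iff_eq_mul.1 ?_
          calc n ^ 2 * (cC : G) * (n ^ 2)⁻¹ = n * (n * cC * n⁻¹) * n⁻¹ := by rw [pow_two]; group
            _ = n * (F.Φ iA * cC) * n⁻¹ := by rw [e2]
            _ = n * F.Φ iA * n⁻¹ * (n * cC * n⁻¹) := by group
            _ = cC := by rw [e2, hn, mul_inv_cancel_right, ← mul_assoc, F.iA_sq, one_mul]
        obtain ⟨j, hj⟩ : Odd k := by
          rcases Nat.even_or_odd k with ⟨j, hj⟩ | ho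
          · exact absurd (Nat.eq_one_of_dvd_coprimes h6 (show 2 ∣ k from ⟨j, by omega⟩) (by norm_num)) (by norm_num)
          · exact ho
        have e4 : n = (n ^ 2) ^ (j + 1) := by
          rw [← pow_mul, show 2 * (j + 1) = k + 1 by omega, pow_succ, hk, one_mul]
        rw [e4]
        exact (e3.pow_left _).eq
    have hnone : ∀ n : G, ∀ k : ℕ, n * F.Φ iA = F.Φ iA * n → n ^ k = 1 → k.Coprime 6 → n = 1 := by
      obtain ⟨-, ⟨a1', a2', ha1, ha2, hac⟩, ⟨d1, d2, hd1, hd2, hdc⟩, hac2, hdA2, hconj, hr⟩ := comm_facts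
      intro n k hn hk h6
      have c1 := hLc n k hn hk h6 ac a1' a2' ha1 ha2 hac hac2
      have c2 := hLc n k hn hk h6 dA d1 d2 hd1 hd2 hdc hdA2
      set g := F.Φ hA
      have c3 : (g⁻¹ * n * g) * F.Φ iA = F.Φ iA * (g⁻¹ * n * g) := by
        rw [← hconj, map_mul, map_mul, map_inv] at c2
        calc g⁻¹ * n * g * F.Φ iA = g⁻¹ * (n * (g * F.Φ iA * g⁻¹)) * g := by group
          _ = g⁻¹ * (g * F.Φ iA * g⁻¹ * n) * g := by rw [c2]
          _ = _ := by group
      have hk' : (g⁻¹ * n * g) ^ k = 1 := by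
        have := conj_pow (i := k) (a := g⁻¹) (b := n)
        rw [inv_inv] at this
        rw [this, hk]; group
      have c4 := hLc _ k c3 hk' h6 ac a1' a2' ha1 ha2 hac hac2
      have c5 : Commute n (F.Φ (ac * (hA * ac * hA⁻¹))) := by
        rw [map_mul]
        refine (show Commute n (F.Φ ac) from c1).mul_right ?_
        show n * F.Φ (hA * ac * hA⁻¹) = F.Φ (hA * ac * hA⁻¹) * n
        rw [map_mul, map_mul, map_inv]
        calc n * (g * F.Φ ac * g⁻¹) = g * (g⁻¹ * n * g * F.Φ ac) * g⁻¹ := by group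
          _ = g * (F.Φ ac * (g⁻¹ * n * g)) * g⁻¹ := by rw [c4]
          _ = _ := by simp only [g]; group
      set m := F.Φ mA
      have c6 : Commute (m * n * m⁻¹) (F.Φ yA) := by
        have c7 : Commute (m * n * m⁻¹) (F.Φ (mA * (ac * (hA * ac * hA⁻¹)) * mA⁻¹)) := by
          rw [map_mul, map_mul, map_inv]
          exact c5.conj m
        rcases hr with e' | e' <;> rw [e'] at c7
        · exact c7
        · rw [map_inv] at c7; exact Commute.inv_right_iff.1 c7
      have hk'' : (m * n * m⁻¹) ^ k = 1 := by rw [conj_pow, hk]; group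
      have h18 : (m * n * m⁻¹) ^ 18 = 1 := by
        have := pow_card_eq_one' (x := (⟨m * n * m⁻¹, mem_centralizer_singleton_iff.2 c6.eq⟩ :
          centralizer ({F.Φ yA} : Set G)))
        rw [F.cent_y_card] at this
        exact congrArg Subtype.val this
      refine conj_eq_one_iff.1 (coprime_pow_eq_one hk'' h18 ?_)
      rw [show (18 : ℕ) = 2 * 3 ^ 2 by norm_num]
      exact Nat.Coprime.mul_right (h6.coprime_dvd_right (by norm_num))
        ((h6.coprime_dvd_right (by norm_num : 3 ∣ 6)).pow_right 2)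
    -- every prime divisor is two or three
    have hprime : ∀ p : ℕ, p.Prime → p ∣ Nat.card F.CI → p = 2 ∨ p = 3 := by
      intro p hp hd
      by_contra hne
      push Not at hne
      have : Fact p.Prime := ⟨hp⟩
      obtain ⟨g, hg⟩ := exists_prime_orderOf_dvd_card' p hd
      have h1 := hnone (g : G) p (mem_centralizer_singleton_iff.1 g.2)
        (by rw [← hg, ← orderOf_coe, pow_orderOf_eq_one])
        ((Nat.Prime.coprime_iff_not_dvd hp).2 fun hd6 => by
          have := Nat.le_of_dvd (by norm_num) hd6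
          have h5 : p = 5 ∨ p = 4 ∨ p = 6 ∨ p ≤ 1 := by omega
          rcases h5 with rfl | rfl | rfl | h5
          · norm_num at hd6
          · norm_num at hp
          · norm_num at hp
          · exact absurd hp.two_le (by omega))
      rw [← orderOf_coe, h1, orderOf_one] at hg
      exact hp.ne_one hg.symm
    obtain ⟨c, hc⟩ := F.CI_64
    have hc2 : ¬ 2 ∣ c := fun ⟨d, hd⟩ => F.CI_not_128 ⟨d, by rw [hc, hd]; ring⟩
    have hc9 : ¬ 9 ∣ c := fun ⟨d, hd⟩ => hsc.not_nine_dvd
      (Nat.Coprime.dvd_of_dvd_mul_right (by norm_num : Nat.Coprime 9 2) (by rw [← hcard, hc, hd]; exact ⟨64 * d, by ring⟩))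
    have hc0 : c ≠ 0 := fun e => by rw [e, mul_zero] at hc; exact Nat.card_pos.ne' hc
    have hc3 : c ≤ 3 := by
      by_contra hlt
      by_cases h3 : 3 ∣ c
      · obtain ⟨d, rfl⟩ := h3
        obtain ⟨p, hp, hpd⟩ := Nat.exists_prime_and_dvd (show d ≠ 1 by omega)
        rcases hprime p hp (hc ▸ hpd.trans ⟨192, by ring⟩) with rfl | rfl
        · exact hc2 (Dvd.dvd.mul_left hpd 3)
        · exact hc9 (Nat.mul_dvd_mul_left 3 hpd)
      · obtain ⟨p, hp, hpd⟩ := Nat.exists_prime_and_dvd (show c ≠ 1 by omega)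
        rcases hprime p hp (hc ▸ hpd.trans ⟨64, by ring⟩) with rfl | rfl
        · exact hc2 hpd
        · exact h3 hpd
    set J := F.CI ⊓ F.H
    have hJS : 64 ∣ Nat.card J := F.SG_card ▸ card_dvd_of_le (le_inf F.SG_le (fun x ⟨m, _, e⟩ => e ▸ F.mem_H m))
    have hJy : 3 ∣ Nat.card J := by
      have hd := _root_.orderOf_dvd_natCard (⟨F.Φ yA, mem_inf.2 ⟨F.y_mem, F.mem_H _⟩⟩ : J)
      rwa [orderOf_mk, orderOf_eq_prime hy3 (fun e => y_facts.2.2.2.2.1 (F.inj (e.trans (map_one _).symm)))] at hd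
    have hJ : J = F.CI := eq_of_le_of_card_ge inf_le_left (by
      have h192 := Nat.le_of_dvd Nat.card_pos (Nat.Coprime.mul_dvd_of_dvd_of_dvd (by norm_num : Nat.Coprime 64 3) hJS hJy)
      rw [hc]
      calc 64 * c ≤ 64 * 3 := Nat.mul_le_mul_left 64 hc3
        _ ≤ _ := h192)
    exact hJ ▸ inf_le_right
  · exfalso
    have hE : IsPGroup 2 N := fun x => ⟨1, Subtype.ext (hN2 x.1 x.2)⟩
    obtain ⟨k, hk⟩ := IsPGroup.iff_card.1 hE
    have h60 : Nat.card (F.CI ⧸ F.NI) = 60 * 2 ^ k := by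
      rw [card_eq_card_quotient_mul_card_subgroup N, Nat.card_congr e.toEquiv, SelfCentThree.card_alt_five, hk]
    have hk3 : k = 3 := by
      rw [h60] at h32 h64
      rcases Nat.lt_or_ge k 3 with hlt | hge
      · interval_cases k <;> norm_num at h32
      · rcases eq_or_lt_of_le hge with e | hgt
        · exact e.symm
        · exact absurd ⟨15 * 2 ^ (k - 4), by
            rw [show k = k - 4 + 4 by omega, pow_add, Nat.add_sub_cancel]; ring⟩ h64
    subst hk3
    let Y := zpowers (π yC)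
    let act : MulAction Y N := MulAction.compHom N ((MulAut.conjNormal (H := N)).comp Y.subtype)
    have hY : IsPGroup 3 Y := IsPGroup.of_card (n := 1) (by rw [hsc.card_zpowers, pow_one])
    have hmod := @IsPGroup.card_modEq_card_fixedPoints 3 Y _ hY _ N act _
    have hfix : Nat.card (MulAction.fixedPoints Y N) = 1 := by
      rw [Nat.card_eq_one_iff_unique]
      refine ⟨⟨fun a b => Subtype.ext ?_⟩, ⟨⟨1, fun g => ?_⟩⟩⟩
      · have key : ∀ a : MulAction.fixedPoints Y N, (a : N) = 1 := by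
          intro a
          have h1 : π yC * ((a : N) : F.CI ⧸ F.NI) * (π yC)⁻¹ = ((a : N) : F.CI ⧸ F.NI) := by
            have := congrArg (fun w : N => (w : F.CI ⧸ F.NI)) (a.2 ⟨π yC, mem_zpowers _⟩)
            exact (MulAut.conjNormal_apply (π yC) (a : N)).symm.trans this
          have hz := hsc.mem_zpowers_of_commute (mul_inv_eq_iff_eq_mul.1 h1).symm
          have h3 : ((a : N) : F.CI ⧸ F.NI) ^ 3 = 1 := by
            obtain ⟨j, hj⟩ := mem_zpowers_iff.1 hz
            rw [← hj, ← zpow_natCast, ← zpow_mul, mul_comm, zpow_mul, zpow_natCast, hsc.cube, one_zpow]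
          exact Subtype.ext (coprime_pow_eq_one (hN2 _ (a : N).2) h3 (by norm_num))
        rw [key a, key b]
      · show MulAut.conjNormal (g : F.CI ⧸ F.NI) (1 : N) = 1
        exact map_one _
    rw [hk, hfix] at hmod
    exact absurd hmod (by decide)
  · exfalso
    rw [Nat.card_congr e.toEquiv, SelfCentThree.psl_seven.2] at h32
    norm_num at h32

end Frame

end Cfsg.Agent.A8ThreeLocal
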