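import Cfsg.Agent.A8ThreeLocal.CentI
import Cfsg.Agent.Invol.ZStar
import Cfsg.Agent.Invol.Isolated

/-!
The centraliser of a short involution lies in the subgroup.
-/

set_option autoImplicit false
set_option synthInstance.maxSize 2000
set_option synthInstance.maxHeartbeats 400000

namespace Cfsg.Agent.A8ThreeLocal

open Equiv Equiv.Perm Subgroup

theorem W_map (m : A8) (hm : m * tA = tA * m) (x : Fin 8) (hx : 3 ≤ x.val ∧ x.val ≤ 6) :
    3 ≤ ((m : Perm (Fin 8)) x).val ∧ ((m : Perm (Fin 8)) x).val ≤ 6 := by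
  rw [tA_moves] at hx ⊢
  have e : (tA : Perm (Fin 8)) ((m : Perm (Fin 8)) x) = (m : Perm (Fin 8)) ((tA : Perm (Fin 8)) x) :=
    (congrArg (fun w : A8 => (w : Perm (Fin 8)) x) hm).symm
  rw [e]
  exact fun h => hx ((m : Perm (Fin 8)).injective h)

/-- An element of odd order centralising `tA` fixes the moved points. -/
theorem odd_fix (m : A8) (hm : m * tA = tA * m) {k : ℕ} (hk : Odd k) (hmk : m ^ k = 1) :
    m * vA = vA * m := by
  have hiff : ∀ x : Fin 8, (3 ≤ ((m : Perm (Fin 8)) x).val ∧ ((m : Perm (Fin 8)) x).val ≤ 6) ↔ (3 ≤ x.val ∧ x.val ≤ 6) := by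
    intro x
    refine ⟨fun h => ?_, W_map m hm x⟩
    have hi : m⁻¹ * tA = tA * m⁻¹ := (Commute.inv_left hm).eq
    have := W_map m⁻¹ hi _ h
    rwa [Subgroup.coe_inv, ← Perm.mul_apply, inv_mul_cancel, Perm.one_apply] at this
  let p : Perm Mv := (m : Perm (Fin 8)).subtypePerm hiff
  have h8 : p ^ 8 = 1 := cent_Mv p fun x y hxy => by
    show (tA : Perm (Fin 8)) ((m : Perm (Fin 8)) x.1) = (m : Perm (Fin 8)) y.1
    rw [← hxy]
    exact (congrArg (fun w : A8 => (w : Perm (Fin 8)) x.1) hm).symm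
  have hpk : p ^ k = 1 := by
    rw [subtypePerm_pow]
    ext x
    simp [← SubgroupClass.coe_pow, hmk]
  have hp : p = 1 := by
    rw [← orderOf_eq_one_iff]
    exact Nat.eq_one_of_dvd_coprimes
      (show (8 : ℕ).Coprime k by
        rw [show (8 : ℕ) = 2 ^ 3 by norm_num]
        exact Nat.Coprime.pow_left 3 (Nat.coprime_two_left.2 hk))
      (orderOf_dvd_of_pow_eq_one h8) (orderOf_dvd_of_pow_eq_one hpk)
  have hfix : ∀ x : Fin 8, (3 ≤ x.val ∧ x.val ≤ 6) → (m : Perm (Fin 8)) x = x := fun x hx =>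
    congrArg Subtype.val (congrArg (fun q : Perm Mv => q ⟨x, hx⟩) hp)
  have hv : ∀ x : Fin 8, (3 ≤ x.val ∧ x.val ≤ 6 ∧ (3 ≤ ((vA : Perm (Fin 8)) x).val ∧ ((vA : Perm (Fin 8)) x).val ≤ 6)) ∨
      (¬ (3 ≤ x.val ∧ x.val ≤ 6) ∧ (vA : Perm (Fin 8)) x = x) := by decide +kernel
  refine Subtype.ext (Equiv.ext fun x => ?_)
  show (m : Perm (Fin 8)) ((vA : Perm (Fin 8)) x) = (vA : Perm (Fin 8)) ((m : Perm (Fin 8)) x)
  rcases hv x with ⟨h1, h2, h3⟩ | ⟨h1, h2⟩
  · rw [hfix _ h3, hfix x ⟨h1, h2⟩]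
  · rcases hv ((m : Perm (Fin 8)) x) with ⟨h3, h4, -⟩ | ⟨-, h4⟩
    · exact absurd ((hiff x).1 ⟨h3, h4⟩) h1
    · rw [h2, h4]

variable {G : Type*} [Group G] [Finite G]

namespace Frame

variable (F : Frame G)

theorem cent_long_le (m : A8) (h2 : m * m = 1) (h1 : m ≠ 1) (h4 : ¬ Sup4 m) :
    centralizer ({F.Φ m} : Set G) ≤ F.H := by
  have hc : IsConj iA m := (invol_class m h2 h1).resolve_left fun e => h4 ((F.isT_iff m h2 h1).1
    (by rw [Hyp.IsT, ← F.Φ_tA]; exact F.Φ.map_isConj e))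
  obtain ⟨c, hc⟩ := isConj_iff.1 hc
  intro g hg
  rw [mem_centralizer_singleton_iff, ← hc, map_mul, map_mul, map_inv] at hg
  have hg' : (F.Φ c)⁻¹ * g * F.Φ c ∈ centralizer ({F.Φ iA} : Set G) := by
    rw [mem_centralizer_singleton_iff]
    calc (F.Φ c)⁻¹ * g * F.Φ c * F.Φ iA = (F.Φ c)⁻¹ * (g * (F.Φ c * F.Φ iA * (F.Φ c)⁻¹)) * F.Φ c := by group
      _ = (F.Φ c)⁻¹ * (F.Φ c * F.Φ iA * (F.Φ c)⁻¹ * g) * F.Φ c := by rw [hg]
      _ = _ := by group
  have := mul_mem (mul_mem (F.mem_H c) (F.cent_iA_le hg')) (inv_mem (F.mem_H c))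
  simpa [mul_assoc] using this

/-- Fusion of `vA` inside the Sylow subgroup of the centraliser of `tA`. -/
theorem fused_T {g : G} (hg : g * F.Φ tA = F.Φ tA * g) (hm : g * F.Φ vA * g⁻¹ ∈ F.T) :
    g * F.Φ vA * g⁻¹ = F.Φ vA ∨ g * F.Φ vA * g⁻¹ = F.Φ (tA * vA) := by
  classical
  obtain ⟨u, hu, he⟩ := hm
  by_cases huW : u ∈ WL
  · rcases F.fused_W hg huW he.symm with e | e
    · exact Or.inl (mul_inv_eq_iff_eq_mul.2 e)
    · right
      have hx : F.Φ xA * F.Φ xA = 1 := by rw [← map_mul, T_facts.2.2.2.2.2.2.2.1, map_one]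
      calc g * F.Φ vA * g⁻¹ = F.Φ xA * F.Φ xA * g * F.Φ vA * g⁻¹ := by rw [hx, one_mul]
        _ = F.Φ xA * (F.Φ xA * g * F.Φ vA) * g⁻¹ := by group
        _ = F.Φ xA * (F.Φ vA * (F.Φ xA * g)) * g⁻¹ := by rw [e]
        _ = F.Φ xA * F.Φ vA * F.Φ xA := by group
        _ = F.Φ (tA * vA) := by rw [← map_mul, ← map_mul, T_facts.2.2.2.2.2.1]
  · exfalso
    have hinj : ∀ a b : G, g * a * g⁻¹ = g * b * g⁻¹ → a = b := fun a b e => mul_left_cancel (mul_right_cancel e)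
    have ht : g * F.Φ tA * g⁻¹ = F.Φ tA := mul_inv_eq_iff_eq_mul.2 hg
    have hu2 : u * u = 1 := F.inj (by
      rw [map_mul, he, map_one, show g * F.Φ vA * g⁻¹ * (g * F.Φ vA * g⁻¹) = g * (F.Φ vA * F.Φ vA) * g⁻¹ by group,
        ← map_mul, T_facts.2.2.2.2.1, map_one]
      group)
    have hu1 : u ≠ 1 := fun e => T_facts.2.2.1
      (F.inj ((conj_eq_one_iff.1 (he.symm.trans (by rw [e, map_one]))).trans (map_one _).symm))
    have h4 : Sup4 u := (F.isT_iff u hu2 hu1).1 (he ▸ F.isT_conj F.isT_v g)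
    have etu : F.Φ (tA * u) = g * F.Φ (tA * vA) * g⁻¹ := by
      rw [map_mul, map_mul, he, show g * (F.Φ tA * F.Φ vA) * g⁻¹ = g * F.Φ tA * g⁻¹ * (g * F.Φ vA * g⁻¹) by group, ht]
    have htu1 : tA * u ≠ 1 := fun e => tv_sq.2
      (F.inj ((conj_eq_one_iff.1 (etu.symm.trans (by rw [e, map_one]))).trans (map_one _).symm))
    have htu2 : tA * u * (tA * u) = 1 := F.inj (by
      rw [map_mul, etu, map_one, show g * F.Φ (tA * vA) * g⁻¹ * (g * F.Φ (tA * vA) * g⁻¹) =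
        g * (F.Φ (tA * vA) * F.Φ (tA * vA)) * g⁻¹ by group, ← map_mul, tv_sq.1, map_one]
      group)
    have h4' : Sup4 (tA * u) := (F.isT_iff _ htu2 htu1).1 (etu ▸ F.isT_conj F.isT_tv g)
    have key : ∀ s ∈ TL, s * s = 1 → s * u = u * s → Sup4 s → Sup4 (u * s) →
        ∃ s' ∈ WL, F.Φ s = g * F.Φ s' * g⁻¹ ∧ Sup4 s' ∧ Sup4 (vA * s') := by
      intro s hs hs2 hsu hs4 hsu4
      set r := g⁻¹ * F.Φ s * g
      have hst : F.Φ s * F.Φ tA = F.Φ tA * F.Φ s := F.T_cent ⟨s, hs, rfl⟩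
      have hr1 : r * F.Φ tA = F.Φ tA * r := by
        calc r * F.Φ tA = g⁻¹ * (F.Φ s * (g * F.Φ tA * g⁻¹)) * g := by simp only [r]; group
          _ = g⁻¹ * (g * F.Φ tA * g⁻¹ * F.Φ s) * g := by rw [ht, hst]
          _ = _ := by simp only [r]; group
      have hr2 : r * F.Φ vA = F.Φ vA * r := by
        calc r * F.Φ vA = g⁻¹ * (F.Φ s * (g * F.Φ vA * g⁻¹)) * g := by simp only [r]; group
          _ = g⁻¹ * (g * F.Φ vA * g⁻¹ * F.Φ s) * g := by rw [← he, ← map_mul, hsu, map_mul]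
          _ = _ := by simp only [r]; group
      obtain ⟨s', hs', he'⟩ := F.X_sub hr1 hr2
      have hes : F.Φ s = g * F.Φ s' * g⁻¹ := by rw [← he']; simp only [r]; group
      have hs'2 : s' * s' = 1 := F.inj (hinj _ _ (by
        rw [map_mul, show g * (F.Φ s' * F.Φ s') * g⁻¹ = g * F.Φ s' * g⁻¹ * (g * F.Φ s' * g⁻¹) by group, ← hes,
          ← map_mul, hs2, map_one]
        group))
      have hs1 : s ≠ 1 := fun e => by rw [e] at hs4; exact absurd hs4 (by decide +kernel)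
      have hs'1 : s' ≠ 1 := fun e => hs1 (F.inj (by rw [hes, e, map_one]; group))
      have hW := X_invol s' hs' hs'2
      have hes' : F.Φ (u * s) = g * F.Φ (vA * s') * g⁻¹ := by
        rw [map_mul, map_mul, he, hes]; group
      have hus1 : u * s ≠ 1 := fun e => by rw [e] at hsu4; exact absurd hsu4 (by decide +kernel)
      have hvs1 : vA * s' ≠ 1 := fun e => hus1 (F.inj (by rw [hes', e, map_one]; group))
      have hvs2 : vA * s' * (vA * s') = 1 := by
        rw [show vA * s' * (vA * s') = vA * (s' * vA) * s' by group, W_alg.2.1 s' hW vA T_mem.2.1,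
          show vA * (vA * s') * s' = (vA * vA) * (s' * s') by group, T_facts.2.2.2.2.1, hs'2, one_mul]
      have hus2 : u * s * (u * s) = 1 := by
        rw [show u * s * (u * s) = u * (s * u) * s by group, hsu,
          show u * (u * s) * s = (u * u) * (s * s) by group, hu2, hs2, one_mul]
      have t1 : F.h.IsT (g⁻¹ * F.Φ s * g⁻¹⁻¹) := F.isT_conj ((F.isT_iff s hs2 hs1).2 hs4) g⁻¹
      have t2 : F.h.IsT (g⁻¹ * F.Φ (u * s) * g⁻¹⁻¹) := F.isT_conj ((F.isT_iff _ hus2 hus1).2 hsu4) g⁻¹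
      refine ⟨s', hW, hes, (F.isT_iff s' hs'2 hs'1).1 ?_, (F.isT_iff _ hvs2 hvs1).1 ?_⟩
      · rw [hes] at t1; convert t1 using 1; group
      · rw [hes'] at t2; convert t2 using 1; group
    choose f hf1 hf2 hf3 hf4 using key
    have h3 := T_count u hu huW hu2 h4 h4'
    have hle : (TL.filter fun s => s * s = 1 ∧ s * u = u * s ∧ Sup4 s ∧ Sup4 (u * s)).toFinset.card ≤
        (WL.filter fun s => Sup4 s ∧ Sup4 (vA * s)).toFinset.card := by
      refine Finset.card_le_card_of_injOn (fun s => if hs : s ∈ TL ∧ s * s = 1 ∧ s * u = u * s ∧ Sup4 s ∧ Sup4 (u * s)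
        then f s hs.1 hs.2.1 hs.2.2.1 hs.2.2.2.1 hs.2.2.2.2 else 1) (fun s hs => ?_) (fun a ha b hb hab => ?_)
      · simp only [Finset.mem_coe, List.mem_toFinset, List.mem_filter, decide_eq_true_eq] at hs ⊢
        rw [dif_pos hs]
        exact ⟨hf1 .., hf3 .., hf4 ..⟩
      · simp only [Finset.mem_coe, List.mem_toFinset, List.mem_filter, decide_eq_true_eq] at ha hb
        simp only [dif_pos ha, dif_pos hb] at hab
        exact F.inj ((hf2 a _ _ _ _ _).trans ((congrArg (fun w => g * F.Φ w * g⁻¹) hab).trans (hf2 b _ _ _ _ _).symm))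
    have := W_count
    omega

theorem cent_tA_le : centralizer ({F.Φ tA} : Set G) ≤ F.H := by
  classical
  set K := centralizer ({F.Φ tA} : Set G) with hK
  have : Fact (Nat.Prime 2) := ⟨Nat.prime_two⟩
  have hmK : ∀ m ∈ TL, F.Φ m ∈ K := fun m hm => mem_centralizer_singleton_iff.2 (F.T_cent ⟨m, hm, rfl⟩)
  let tK : K := ⟨F.Φ tA, hmK tA T_mem.1⟩
  have hNn : (zpowers tK).Normal := ⟨fun x hx g => by
    obtain ⟨n, rfl⟩ := mem_zpowers_iff.1 hx
    have hc : Commute g tK := Subtype.ext (mem_centralizer_singleton_iff.1 g.2)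
    rw [(hc.zpow_right n).eq, mul_inv_cancel_right]
    exact zpow_mem (mem_zpowers _) n⟩
  let π : K →* K ⧸ zpowers tK := QuotientGroup.mk' _
  have ht2 : F.Φ tA * F.Φ tA = 1 := by rw [← map_mul, T_facts.1, map_one]
  have ht2o : orderOf (F.Φ tA) = 2 := orderOf_eq_prime (by rw [pow_two, ht2])
    (fun e => T_facts.2.1 (F.inj (e.trans (map_one _).symm)))
  have hker : ∀ x : K, π x = 1 ↔ (x : G) = 1 ∨ (x : G) = F.Φ tA := by
    intro x
    rw [QuotientGroup.mk'_apply, QuotientGroup.eq_one_iff, mem_zpowers_iff]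
    constructor
    · rintro ⟨n, rfl⟩
      rw [SubgroupClass.coe_zpow, ← zpow_mod_orderOf, ht2o]
      rcases Int.emod_two_eq n with e | e
      · left; push_cast; rw [e, zpow_zero]
      · right; push_cast; rw [e, zpow_one]
    · rintro (e | e)
      · exact ⟨0, Subtype.ext (by rw [e]; simp)⟩
      · exact ⟨1, Subtype.ext (by rw [e]; simp [tK])⟩
  obtain ⟨S, hS⟩ := F.exists_sylow
  let Sb : Sylow 2 (K ⧸ zpowers tK) := S.mapSurjective (QuotientGroup.mk'_surjective _)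
  let vK : K := ⟨F.Φ vA, hmK vA (WL_TL vA T_mem.2.1)⟩
  have hv1 : π vK ≠ 1 := fun e => by
    rcases (hker _).1 e with e1 | e1
    · exact T_facts.2.2.1 (F.inj (e1.trans (map_one _).symm))
    · exact T_facts.2.2.2.1 (F.inj e1)
  have hvo : orderOf (π vK) = 2 := orderOf_eq_prime (by
    rw [← map_pow, show vK ^ 2 = 1 from Subtype.ext (by
      show F.Φ vA ^ 2 = 1
      rw [pow_two, ← map_mul, T_facts.2.2.2.2.1, map_one]), map_one]) hv1
  have hiso : ∀ x : K ⧸ zpowers tK, x * π vK * x⁻¹ ∈ Sb → x * π vK * x⁻¹ = π vK := by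
    intro x hx
    obtain ⟨g, rfl⟩ := QuotientGroup.mk'_surjective _ x
    obtain ⟨s, hs, hse⟩ := hx
    change π s = π g * π vK * (π g)⁻¹ at hse
    rw [← map_inv, ← map_mul, ← map_mul] at hse
    have h0 : π (s⁻¹ * (g * vK * g⁻¹)) = 1 := by rw [map_mul, map_inv, hse, inv_mul_cancel]
    have hsT : (s : G) ∈ F.T := by
      have h1 : s ∈ (S : Subgroup K) := hs
      rw [hS] at h1
      exact h1
    have hgT : (g : G) * F.Φ vA * (g : G)⁻¹ ∈ F.T := by
      have e : (g : G) * F.Φ vA * (g : G)⁻¹ = (s : G) * ((s⁻¹ * (g * vK * g⁻¹) : K) : G) := by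
        simp [vK, mul_assoc]
      rw [e]
      refine mul_mem hsT ?_
      rcases (hker _).1 h0 with e' | e' <;> rw [e']
      · exact one_mem _
      · exact ⟨tA, T_mem.1, rfl⟩
    show π g * π vK * (π g)⁻¹ = π vK
    rw [← map_inv, ← map_mul, ← map_mul, eq_comm, ← mul_inv_eq_one, ← map_inv, ← map_mul]
    refine (hker _).2 ?_
    show F.Φ vA * ((g : G) * F.Φ vA * (g : G)⁻¹)⁻¹ = 1 ∨ F.Φ vA * ((g : G) * F.Φ vA * (g : G)⁻¹)⁻¹ = F.Φ tA
    rcases F.fused_T (mem_centralizer_singleton_iff.1 g.2) hgT with e | e <;> rw [e]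
    · left; rw [mul_inv_cancel]
    · right
      rw [← map_inv, ← map_mul]
      congr 1
      decide +kernel
  have hisol := Invol.isolated_of_sylow Sb hvo hiso
  -- the odd core is trivial
  set O := Cfsg.oddCore (K ⧸ zpowers tK) with hO
  have hOodd : Odd (Nat.card O) := Nat.odd_iff.2 (Nat.two_dvd_ne_zero.1 Core.not_dvd_card_pPrimeCore)
  have hrep : ∀ x ∈ O, ∃ n : K, π n = x ∧ (n : G) ^ Nat.card O = 1 := by
    intro x hx
    obtain ⟨n, rfl⟩ := QuotientGroup.mk'_surjective _ x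
    have hxc : π n ^ Nat.card O = 1 := congrArg Subtype.val (pow_card_eq_one' (x := (⟨π n, hx⟩ : O)))
    refine ⟨n ^ (Nat.card O + 1), by rw [map_pow, pow_succ, hxc, one_mul], ?_⟩
    obtain ⟨j, hj⟩ := hOodd
    rcases (hker (n ^ Nat.card O)).1 (by rw [map_pow, hxc]) with e | e <;>
      rw [SubgroupClass.coe_pow] at e <;> rw [SubgroupClass.coe_pow, ← pow_mul, mul_comm, pow_mul, e]
    · exact one_pow _
    · rw [show Nat.card O + 1 = 2 * (j + 1) by omega, pow_mul, pow_two, ht2, one_pow]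
  have hOnorm : O.Normal := inferInstance
  let dK : ∀ m ∈ TL, K := fun m hm => ⟨F.Φ m, hmK m hm⟩
  have hcentle : ∀ (m : A8) (hm : m ∈ TL), m * m = 1 → m ≠ 1 → ¬ Sup4 m →
      O ⊓ centralizer {π (dK m hm)} ≤ (F.H.subgroupOf K).map π := by
    intro m hm h2 h1 h4 x hx
    obtain ⟨hxO, hxc⟩ := mem_inf.1 hx
    obtain ⟨n, rfl, hnk⟩ := hrep x hxO
    refine ⟨n, F.cent_long_le m h2 h1 h4 (mem_centralizer_singleton_iff.2 ?_), rfl⟩
    have h0 : π (n * dK m hm * n⁻¹ * (dK m hm)⁻¹) = 1 := by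
      simp only [map_mul, map_inv]
      rw [mem_centralizer_singleton_iff.1 hxc]
      group
    rcases (hker _).1 h0 with e | e
    · exact mul_inv_eq_iff_eq_mul.1 (mul_inv_eq_one.1 e)
    · have e2 : (n : G) * F.Φ m * (n : G)⁻¹ = F.Φ tA * F.Φ m := mul_inv_eq_iff_eq_mul.1 e
      have hnt : (n : G) * F.Φ tA * (n : G)⁻¹ = F.Φ tA :=
        mul_inv_eq_iff_eq_mul.2 (mem_centralizer_singleton_iff.1 n.2)
      have e3 : Commute ((n : G) ^ 2) (F.Φ m) := by
        refine mul_inv_eq_iff_eq_mul.1 ?_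
        calc (n : G) ^ 2 * F.Φ m * ((n : G) ^ 2)⁻¹ = n * (n * F.Φ m * (n : G)⁻¹) * (n : G)⁻¹ := by rw [pow_two]; group
          _ = n * (F.Φ tA * F.Φ m) * (n : G)⁻¹ := by rw [e2]
          _ = n * F.Φ tA * (n : G)⁻¹ * (n * F.Φ m * (n : G)⁻¹) := by group
          _ = F.Φ m := by rw [hnt, e2, ← mul_assoc, ht2, one_mul]
      obtain ⟨j, hj⟩ := hOodd
      have e4 : (n : G) = ((n : G) ^ 2) ^ (j + 1) := by
        rw [← pow_mul, show 2 * (j + 1) = Nat.card O + 1 by omega, pow_succ, hnk, one_mul]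
      show Commute (n : G) (F.Φ m)
      rw [e4]
      exact e3.pow_left _
  obtain ⟨hd1, hd2, hb1⟩ := d_mem
  obtain ⟨s1, s2, s12, q1, q2, hcm, hne, n1, n2, -⟩ := d_facts
  have hd12 : dA1 * dA2 ∈ TL := TA.mul_mem hd1 hd2
  have hsq12 : dA1 * dA2 * (dA1 * dA2) = 1 := by
    rw [show dA1 * dA2 * (dA1 * dA2) = dA1 * (dA2 * dA1) * dA2 by group, ← hcm,
      show dA1 * (dA1 * dA2) * dA2 = (dA1 * dA1) * (dA2 * dA2) by group, q1, q2, one_mul]
  have hne12 : dA1 * dA2 ≠ 1 := fun e => hne (by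
    calc dA1 = dA1 * (dA2 * dA2) := by rw [q2, mul_one]
      _ = dA2 := by rw [← mul_assoc, e, one_mul])
  have hOH : O ≤ (F.H.subgroupOf K).map π := by
    set a := π (dK dA1 hd1)
    set b := π (dK dA2 hd2)
    have hab : Commute a b := (show Commute (dK dA1 hd1) (dK dA2 hd2) from Subtype.ext (by
      show F.Φ dA1 * F.Φ dA2 = F.Φ dA2 * F.Φ dA1
      rw [← map_mul, ← map_mul, hcm])).map π
    have hsq : ∀ (m : A8) (hm : m ∈ TL), m * m = 1 → π (dK m hm) ^ 2 = 1 := fun m hm h2 => by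
      rw [← map_pow, show dK m hm ^ 2 = 1 from Subtype.ext (by
        show F.Φ m ^ 2 = 1
        rw [pow_two, ← map_mul, h2, map_one]), map_one]
    refine Coprime.le_of_centralizers_le hab (normalizer_eq_top (H := O) ▸ mem_top _)
      (normalizer_eq_top (H := O) ▸ mem_top _) Nat.prime_two (by rw [hsq _ hd1 q1]; exact one_mem _)
      (by rw [hsq _ hd2 q2]; exact one_mem _) (Nat.coprime_two_left.2 hOodd) ?_ (hcentle _ hd1 q1 n1 s1) fun k => ?_
    · obtain ⟨e, he⟩ := IsPGroup.iff_card.1 (Sb.2.to_le (show closure {a, b} ≤ (Sb : Subgroup (K ⧸ zpowers tK)) by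
        rw [closure_le]
        rintro w (rfl | rfl)
        · exact ⟨dK dA1 hd1, by rw [hS]; exact ⟨dA1, hd1, rfl⟩, rfl⟩
        · exact ⟨dK dA2 hd2, by rw [hS]; exact ⟨dA2, hd2, rfl⟩, rfl⟩))
      rw [he]
      exact Nat.Coprime.pow_left e (Nat.coprime_two_left.2 hOodd)
    · rcases Nat.even_or_odd' k with ⟨j, rfl | rfl⟩
      · rw [pow_mul, hsq _ hd1 q1, one_pow, one_mul]
        exact hcentle _ hd2 q2 n2 s2
      · rw [pow_succ, pow_mul, hsq _ hd1 q1, one_pow, one_mul,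
          show a * b = π (dK (dA1 * dA2) hd12) by
            simp only [a, b]; rw [← map_mul]; congr 1; exact Subtype.ext (map_mul F.Φ _ _).symm]
        exact hcentle _ hd12 hsq12 hne12 s12
  have hObot : ∀ x ∈ O, x = 1 := by
    intro x hx
    obtain ⟨n, ⟨m, hm⟩, rfl⟩ := hOH hx
    obtain ⟨n', hn'e, hn'k⟩ := hrep (π n) hx
    rw [← hn'e]
    have hn'H : (n' : G) ∈ F.H := by
      rcases (hker (n'⁻¹ * n)).1 (by rw [map_mul, map_inv, hn'e, inv_mul_cancel]) with e | e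
      · have : (n' : G) = n := by simpa [inv_mul_eq_one] using e
        rw [this]; show K.subtype n ∈ F.H; rw [← hm]; exact F.mem_H m
      · have : (n' : G) = n * (F.Φ tA)⁻¹ := by
          rw [← e]; simp [mul_inv_rev]
        rw [this]; show K.subtype n * (F.Φ tA)⁻¹ ∈ F.H; rw [← hm]; exact mul_mem (F.mem_H m) (inv_mem (F.mem_H tA))
    obtain ⟨m', hm'⟩ := hn'H
    have hmt : m' * tA = tA * m' := F.inj (by
      rw [map_mul, map_mul, hm']; exact mem_centralizer_singleton_iff.1 n'.2)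
    have hmk : m' ^ Nat.card O = 1 := F.inj (by rw [map_pow, hm', hn'k, map_one])
    have hmv := odd_fix m' hmt hOodd hmk
    obtain ⟨w, hw, hwe⟩ := F.X_sub (x := F.Φ m') (by rw [← map_mul, ← map_mul, hmt]) (by rw [← map_mul, ← map_mul, hmv])
    rw [← F.inj hwe] at hw
    by_contra hne1
    have hm1 : m' ≠ 1 := fun e => hne1 (by
      rw [show n' = 1 from Subtype.ext (hm'.symm.trans (by rw [e, map_one]; rfl)), map_one])
    have hm3 : m' ^ 3 = 1 := by
      have hd : orderOf m' ∣ Nat.gcd (Nat.card O) 6 :=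
        Nat.dvd_gcd (orderOf_dvd_of_pow_eq_one hmk) (orderOf_dvd_of_pow_eq_one (X_prop m' hw).1)
      have hg : Nat.gcd (Nat.card O) 6 ∣ 3 := by
        rw [show (6 : ℕ) = 2 * 3 by norm_num,
          Nat.Coprime.gcd_mul_left_cancel_right 3 (Nat.coprime_two_left.2 hOodd)]
        exact Nat.gcd_dvd_right _ _
      exact orderOf_dvd_iff_pow_eq_one.1 (hd.trans hg)
    obtain ⟨c1, c2, c3⟩ := X_three m' hw hm3 hm1
    let bK := dK (iG b1) hb1
    have hc : π (bK * n' * bK⁻¹ * n'⁻¹) ∈ O := by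
      simp only [map_mul, map_inv]
      have hn'O : π n' ∈ O := hn'e ▸ hx
      exact mul_mem (hOnorm.conj_mem _ hn'O _) (inv_mem hn'O)
    have hval : ((bK * n' * bK⁻¹ * n'⁻¹ : K) : G) = F.Φ (iG b1 * m' * (iG b1)⁻¹ * m'⁻¹) := by
      simp [bK, dK, map_mul, map_inv, hm']
    have h2 : π (bK * n' * bK⁻¹ * n'⁻¹) ^ 2 = 1 := by
      rw [← map_pow, show (bK * n' * bK⁻¹ * n'⁻¹) ^ 2 = 1 from Subtype.ext (by
        rw [SubgroupClass.coe_pow, hval, ← map_pow, c3, map_one]; rfl), map_one]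
    have h1 : π (bK * n' * bK⁻¹ * n'⁻¹) = 1 := coprime_pow_eq_one h2
      (show π (bK * n' * bK⁻¹ * n'⁻¹) ^ Nat.card O = 1 from
        congrArg Subtype.val (pow_card_eq_one' (x := (⟨_, hc⟩ : O)))) (Nat.coprime_two_left.2 hOodd)
    rcases (hker _).1 h1 with e | e <;> rw [hval] at e
    · exact c1 (F.inj (e.trans (map_one _).symm))
    · exact c2 (F.inj e)
  intro g hg
  let gK : K := ⟨g, hg⟩
  have hz := hObot _ (Invol.zstar hisol (π gK))
  have h0 : π (vK * gK * vK⁻¹ * gK⁻¹) = 1 := by simp only [map_mul, map_inv]; exact hz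
  have hvinv : (F.Φ vA)⁻¹ = F.Φ vA := inv_eq_of_mul_eq_one_right (by rw [← map_mul, T_facts.2.2.2.2.1, map_one])
  rcases (hker _).1 h0 with e | e
  · refine F.X_le (mem_centralizer_singleton_iff.1 hg) ?_
    have e' : F.Φ vA * g * (F.Φ vA)⁻¹ = g := mul_inv_eq_one.1 e
    exact (mul_inv_eq_iff_eq_mul.1 e').symm
  · refine F.fused_W_mem (mem_centralizer_singleton_iff.1 hg) (w := tA * vA) ?_ ?_
    · rw [mem_iff_code WL_code]; decide +kernel
    · have e' : F.Φ vA * g * (F.Φ vA)⁻¹ * g⁻¹ = F.Φ tA := e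
      rw [hvinv] at e'
      rw [map_mul, ← e']
      calc g * F.Φ vA * g⁻¹ = 1 * g * F.Φ vA * g⁻¹ := by rw [one_mul]
        _ = F.Φ vA * (F.Φ vA * g * F.Φ vA * g⁻¹) := by
          rw [← show F.Φ vA * F.Φ vA = 1 by rw [← map_mul, T_facts.2.2.2.2.1, map_one]]; group
        _ = _ := by
          rw [e', ← map_mul, ← map_mul, T_facts.2.2.2.2.2.2.2.2.2.2.2]

end Frame

end Cfsg.Agent.A8ThreeLocal
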