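import Cfsg.Agent.A8ThreeLocal.Frame

/-!
A Sylow 2-subgroup of the centraliser of a short involution.
-/

set_option autoImplicit false
set_option synthInstance.maxSize 2000
set_option synthInstance.maxHeartbeats 400000

namespace Cfsg.Agent.A8ThreeLocal

open Equiv Equiv.Perm Subgroup

theorem W_alg : (∀ m ∈ WL, m * m = 1) ∧ (∀ m ∈ WL, ∀ n ∈ WL, m * n = n * m) ∧ WL.toFinset.card = 16 ∧
    xA ∈ TL := by
  refine ⟨?_, ?_, ?_, ?_⟩
  · have key : ∀ c ∈ WLc, cmp c c = idc := by decide +kernel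
    intro m hm
    exact enc_injective (by rw [enc_mul, key _ ((mem_iff_code WL_code).1 hm), codes.2.2.2.1])
  · have key : ∀ c ∈ WLc, ∀ d ∈ WLc, cmp c d = cmp d c := by decide +kernel
    intro m hm n hn
    exact comm_code.2 (key _ ((mem_iff_code WL_code).1 hm) _ ((mem_iff_code WL_code).1 hn))
  · rw [finset_card_code WL_code]; decide +kernel
  · rw [mem_iff_code TL_code]; decide +kernel

variable {G : Type*} [Group G] [Finite G]

namespace Frame

variable (F : Frame G)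

/-- The Sylow subgroup of the centraliser. -/
def T : Subgroup G := TA.map F.Φ

theorem mem_T {x : G} : x ∈ F.T ↔ ∃ m ∈ TL, F.Φ m = x := Iff.rfl

theorem T_cent {x : G} (hx : x ∈ F.T) : x * F.Φ tA = F.Φ tA * x := by
  obtain ⟨m, hm, rfl⟩ := hx
  rw [← map_mul, ← map_mul, (TL_prop m hm).1]

theorem T_card : Nat.card F.T = 32 := by rw [T, card_map_of_injective F.inj, TA_card]

theorem T_pgroup : IsPGroup 2 F.T := IsPGroup.of_card (n := 5) (by rw [F.T_card]; norm_num)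

theorem T_le_H : F.T ≤ F.H := by rintro _ ⟨m, -, rfl⟩; exact F.mem_H m

theorem isT_v : F.h.IsT (F.Φ vA) :=
  (F.isT_iff vA T_facts.2.2.2.2.1 T_facts.2.2.1).2 T_facts.2.2.2.2.2.2.2.2.2.1

theorem tv_sq : tA * vA * (tA * vA) = 1 ∧ tA * vA ≠ 1 := by decide +kernel

theorem isT_tv : F.h.IsT (F.Φ (tA * vA)) :=
  (F.isT_iff _ tv_sq.1 tv_sq.2).2 T_facts.2.2.2.2.2.2.2.2.2.2.1

theorem isT_conj {g : G} (hg : F.h.IsT g) (n : G) : F.h.IsT (n * g * n⁻¹) :=
  hg.trans (isConj_iff.2 ⟨n, rfl⟩)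

/-- An element fusing `vA` inside `W` lies in `H`, up to a fixed element. -/
theorem fused_W {n : G} (hn : n * F.Φ tA = F.Φ tA * n) {w : A8} (hw : w ∈ WL)
    (he : n * F.Φ vA * n⁻¹ = F.Φ w) : n * F.Φ vA = F.Φ vA * n ∨ F.Φ xA * n * F.Φ vA = F.Φ vA * (F.Φ xA * n) := by
  have ht : n * F.Φ tA * n⁻¹ = F.Φ tA := mul_inv_eq_iff_eq_mul.2 hn
  have hw1 : w ≠ 1 := fun e => T_facts.2.2.1 (F.inj ((conj_eq_one_iff.1 (he.trans (by rw [e, map_one]))).trans (map_one _).symm))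
  have h4 : Sup4 w := (F.isT_iff w (W_alg.1 w hw) hw1).1 (he ▸ F.isT_conj F.isT_v n)
  have etw : n * F.Φ (tA * vA) * n⁻¹ = F.Φ (tA * w) := by
    rw [map_mul, map_mul, show n * (F.Φ tA * F.Φ vA) * n⁻¹ = n * F.Φ tA * n⁻¹ * (n * F.Φ vA * n⁻¹) by group, ht, he]
  have h4' : Sup4 (tA * w) := by
    refine (F.isT_iff _ (F.inj ?_) ?_).1 (etw ▸ F.isT_conj F.isT_tv n)
    · rw [map_mul, ← etw, map_one, show n * F.Φ (tA * vA) * n⁻¹ * (n * F.Φ (tA * vA) * n⁻¹) =
        n * (F.Φ (tA * vA) * F.Φ (tA * vA)) * n⁻¹ by group, ← map_mul, tv_sq.1, map_one]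
      group
    · intro e
      refine tv_sq.2 (F.inj ((conj_eq_one_iff.1 (etw.trans (by rw [e, map_one]))).trans (map_one _).symm))
  rcases W_pairs w hw h4 h4' with e | e
  · exact Or.inl (mul_inv_eq_iff_eq_mul.1 (he.trans (by rw [e])))
  · refine Or.inr (mul_inv_eq_iff_eq_mul.1 ?_)
    have hx : (F.Φ xA)⁻¹ = F.Φ xA := inv_eq_of_mul_eq_one_right (by
      rw [← map_mul, T_facts.2.2.2.2.2.2.2.1, map_one])
    rw [mul_inv_rev, hx, show F.Φ xA * n * F.Φ vA * (n⁻¹ * F.Φ xA) = F.Φ xA * (n * F.Φ vA * n⁻¹) * F.Φ xA by group,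
      he, e, ← map_mul, ← map_mul,
      show xA * (tA * vA) * xA = (xA * tA * xA) * (xA * vA * xA) by
        rw [show xA * tA * xA * (xA * vA * xA) = xA * tA * (xA * xA) * vA * xA by group, T_facts.2.2.2.2.2.2.2.1]; group,
      T_facts.2.2.2.2.2.2.1, T_facts.2.2.2.2.2.1, ← mul_assoc, T_facts.1, one_mul]

theorem fused_W_mem {n : G} (hn : n * F.Φ tA = F.Φ tA * n) {w : A8} (hw : w ∈ WL)
    (he : n * F.Φ vA * n⁻¹ = F.Φ w) : n ∈ F.H := by
  rcases F.fused_W hn hw he with e | e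
  · exact F.X_le hn e
  · have h1 := F.X_le (x := F.Φ xA * n) (by
      have hx : F.Φ xA * F.Φ tA = F.Φ tA * F.Φ xA := F.T_cent ⟨xA, W_alg.2.2.2, rfl⟩
      exact ((show Commute _ _ from hx).mul_left hn).eq) e
    exact (F.H.mul_mem_cancel_left (F.mem_H xA)).1 h1

/-- `T` is not properly contained in a 2-subgroup of the centraliser. -/
theorem T_max (P : Subgroup G) (hP : IsPGroup 2 P) (hT : F.T ≤ P) (hc : ∀ x ∈ P, x * F.Φ tA = F.Φ tA * x) :
    P = F.T := by
  classical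
  by_contra hne
  have : Fact (Nat.Prime 2) := ⟨Nat.prime_two⟩
  have hlt : F.T.subgroupOf P < ⊤ := lt_top_iff_ne_top.2 fun e => hne (le_antisymm (subgroupOf_eq_top.1 e) hT)
  have : Group.IsNilpotent P := hP.isNilpotent
  obtain ⟨q, hqN, hqT⟩ := SetLike.exists_of_lt (normalizerCondition_of_isNilpotent _ hlt)
  have hq : ∀ x ∈ F.T, (q : G) * x * (q : G)⁻¹ ∈ F.T := fun x hx =>
    (Subgroup.mem_normalizer_iff.1 hqN ⟨x, hT hx⟩).1 hx
  have hW : ∀ w ∈ WL, ∃ w' ∈ WL, (q : G) * F.Φ w * (q : G)⁻¹ = F.Φ w' := by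
    intro w hw
    obtain ⟨e, he, hee⟩ := hq _ ⟨w, WL_TL w hw, rfl⟩
    refine ⟨e, ?_, hee.symm⟩
    by_contra hew
    have hc' : ∀ s ∈ WL, ∃ s' ∈ TL, F.Φ s' = (q : G) * F.Φ s * (q : G)⁻¹ := fun s hs => hq _ ⟨s, WL_TL s hs, rfl⟩
    choose f hf1 hf2 using hc'
    have hle : WL.toFinset.card ≤ (TL.filter fun s => s * s = 1 ∧ s * e = e * s).toFinset.card := by
      refine Finset.card_le_card_of_injOn (fun s => if hs : s ∈ WL then f s hs else 1) (fun s hs => ?_)
        (fun a ha b hb hab => ?_)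
      · simp only [Finset.mem_coe, List.mem_toFinset] at hs ⊢
        rw [dif_pos hs, List.mem_filter, decide_eq_true_eq]
        refine ⟨hf1 s hs, F.inj ?_, F.inj ?_⟩
        · rw [map_mul, hf2, show (q : G) * F.Φ s * (q : G)⁻¹ * (q * F.Φ s * (q : G)⁻¹) = q * (F.Φ s * F.Φ s) * (q : G)⁻¹ by group,
            ← map_mul, W_alg.1 s hs, map_one]
          group
        · rw [map_mul, map_mul, hf2, hee,
            show (q : G) * F.Φ s * (q : G)⁻¹ * (q * F.Φ w * (q : G)⁻¹) = q * (F.Φ s * F.Φ w) * (q : G)⁻¹ by group,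
            ← map_mul, W_alg.2.1 s hs w hw, map_mul]
          group
      · simp only [Finset.mem_coe, List.mem_toFinset] at ha hb
        simp only [dif_pos ha, dif_pos hb] at hab
        have h1 := congrArg F.Φ hab
        rw [hf2, hf2] at h1
        exact F.inj (mul_left_cancel (mul_right_cancel h1))
    have := W_unique e he hew
    rw [W_alg.2.2.1] at hle
    omega
  obtain ⟨w', hw', he⟩ := hW vA T_mem.2.1
  have key : ∀ r : G, r ∈ P → r * F.Φ vA = F.Φ vA * r → r ∈ F.T := by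
    intro r hr hrv
    obtain ⟨m, hm, rfl⟩ := F.X_sub (hc r hr) hrv
    obtain ⟨k, hk⟩ := hP ⟨_, hr⟩
    have hk' : m ^ (2 ^ k) = 1 := F.inj (by rw [map_pow, map_one]; exact congrArg Subtype.val hk)
    have h2 : m ^ 2 = 1 := by
      have hd : orderOf m ∣ Nat.gcd (2 ^ k) 6 :=
        Nat.dvd_gcd (orderOf_dvd_of_pow_eq_one hk') (orderOf_dvd_of_pow_eq_one (X_prop m hm).1)
      have hg : Nat.gcd (2 ^ k) 6 ∣ 2 := by
        have h1 : Nat.Coprime (2 ^ k) 3 := (by norm_num : Nat.Coprime 2 3).pow_left k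
        rw [show (6 : ℕ) = 2 * 3 by norm_num, Nat.Coprime.gcd_mul_right_cancel_right 2 h1.symm]
        exact Nat.gcd_dvd_right _ _
      exact orderOf_dvd_iff_pow_eq_one.1 (hd.trans hg)
    exact ⟨m, WL_TL m (X_invol m hm (by rw [← pow_two, h2])), rfl⟩
  rcases F.fused_W (hc q q.2) hw' he with e | e
  · exact hqT (mem_subgroupOf.2 (key q q.2 e))
  · have hxT : F.Φ xA ∈ F.T := ⟨xA, W_alg.2.2.2, rfl⟩
    have := key _ (mul_mem (hT hxT) q.2) e
    exact hqT (mem_subgroupOf.2 ((F.T.mul_mem_cancel_left hxT).1 this))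

theorem exists_sylow : ∃ S : Sylow 2 (centralizer ({F.Φ tA} : Set G)),
    (S : Subgroup (centralizer ({F.Φ tA} : Set G))) = F.T.subgroupOf (centralizer ({F.Φ tA} : Set G)) := by
  have hTK : F.T ≤ centralizer ({F.Φ tA} : Set G) := fun x hx => mem_centralizer_singleton_iff.2 (F.T_cent hx)
  obtain ⟨S, hS⟩ := (F.T_pgroup.comap_subtype (K := centralizer ({F.Φ tA} : Set G))).exists_le_sylow
  refine ⟨S, ?_⟩
  have := F.T_max ((S : Subgroup (centralizer ({F.Φ tA} : Set G))).map (centralizer ({F.Φ tA} : Set G)).subtype)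
    (S.2.map _) (by
      intro x hx
      exact ⟨⟨x, hTK hx⟩, hS hx, rfl⟩) (by
      rintro x ⟨y, -, rfl⟩
      exact mem_centralizer_singleton_iff.1 y.2)
  apply map_injective (Subgroup.subtype_injective _)
  rw [this, subgroupOf_map_subtype, inf_of_le_left hTK]

/-- Two-subgroups centralising a short involution have order at most thirty-two. -/
theorem card_le_of_isT {g : G} (hg : F.h.IsT g) (P : Subgroup G) (hP : IsPGroup 2 P)
    (hc : ∀ x ∈ P, x * g = g * x) : Nat.card P ≤ 32 := by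
  have : Fact (Nat.Prime 2) := ⟨Nat.prime_two⟩
  obtain ⟨k, hk⟩ := isConj_iff.1 hg
  rw [← F.Φ_tA] at hk
  set P' := P.map (MulAut.conj k⁻¹).toMonoidHom
  have hP' : P' ≤ centralizer ({F.Φ tA} : Set G) := by
    rintro _ ⟨x, hx, rfl⟩
    rw [mem_centralizer_singleton_iff]
    have e := hc x hx
    rw [← hk] at e
    simp only [MulEquiv.coe_toMonoidHom, MulAut.conj_apply, inv_inv]
    calc k⁻¹ * x * k * F.Φ tA = k⁻¹ * (x * (k * F.Φ tA * k⁻¹)) * k := by group
      _ = k⁻¹ * (k * F.Φ tA * k⁻¹ * x) * k := by rw [e]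
      _ = _ := by group
  obtain ⟨S, hS⟩ := F.exists_sylow
  obtain ⟨S', hS'⟩ := ((hP.map (MulAut.conj k⁻¹).toMonoidHom).comap_subtype (K := centralizer ({F.Φ tA} : Set G))).exists_le_sylow
  have h1 : Nat.card (P'.subgroupOf (centralizer ({F.Φ tA} : Set G))) ≤
      Nat.card (S' : Subgroup (centralizer ({F.Φ tA} : Set G))) := card_le_of_le hS'
  rw [Nat.card_congr (subgroupOfEquivOfLe hP').toEquiv, card_map_of_injective (MulAut.conj k⁻¹).injective,
    Nat.card_congr (S'.equiv S).toEquiv, hS,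
    Nat.card_congr (subgroupOfEquivOfLe (fun x hx => mem_centralizer_singleton_iff.2 (F.T_cent hx) :
      F.T ≤ centralizer ({F.Φ tA} : Set G))).toEquiv, F.T_card] at h1
  exact h1

end Frame

end Cfsg.Agent.A8ThreeLocal
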