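import Cfsg.Agent.A8ThreeLocal.Embed

/-!
Integer codes of permutations of eight points.
-/

set_option autoImplicit false

namespace Cfsg.Agent.A8ThreeLocal

open Equiv Equiv.Perm

/-- The `j`th octal digit. -/
def dig (c j : ℕ) : ℕ := c / 8 ^ j % 8

/-- The code of a permutation. -/
def enc (m : A8) : ℕ :=
  ((m : Perm (Fin 8)) 0).val + 8 * ((m : Perm (Fin 8)) 1).val + 64 * ((m : Perm (Fin 8)) 2).val +
    512 * ((m : Perm (Fin 8)) 3).val + 4096 * ((m : Perm (Fin 8)) 4).val +
    32768 * ((m : Perm (Fin 8)) 5).val + 262144 * ((m : Perm (Fin 8)) 6).val +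
    2097152 * ((m : Perm (Fin 8)) 7).val

/-- Composition of codes. -/
def cmp (a b : ℕ) : ℕ :=
  dig a (dig b 0) + 8 * dig a (dig b 1) + 64 * dig a (dig b 2) + 512 * dig a (dig b 3) +
    4096 * dig a (dig b 4) + 32768 * dig a (dig b 5) + 262144 * dig a (dig b 6) + 2097152 * dig a (dig b 7)

/-- The number of moved points. -/
def mov (c : ℕ) : ℕ :=
  (if dig c 0 = 0 then 0 else 1) + (if dig c 1 = 1 then 0 else 1) + (if dig c 2 = 2 then 0 else 1) +
    (if dig c 3 = 3 then 0 else 1) + (if dig c 4 = 4 then 0 else 1) + (if dig c 5 = 5 then 0 else 1) +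
    (if dig c 6 = 6 then 0 else 1) + (if dig c 7 = 7 then 0 else 1)

theorem dig_enc (m : A8) (i : Fin 8) : dig (enc m) i.val = ((m : Perm (Fin 8)) i).val := by
  have h0 := ((m : Perm (Fin 8)) 0).isLt
  have h1 := ((m : Perm (Fin 8)) 1).isLt
  have h2 := ((m : Perm (Fin 8)) 2).isLt
  have h3 := ((m : Perm (Fin 8)) 3).isLt
  have h4 := ((m : Perm (Fin 8)) 4).isLt
  have h5 := ((m : Perm (Fin 8)) 5).isLt
  have h6 := ((m : Perm (Fin 8)) 6).isLt
  have h7 := ((m : Perm (Fin 8)) 7).isLt
  unfold dig enc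
  match i with
  | ⟨0, _⟩ => show _ / 8 ^ 0 % 8 = ((m : Perm (Fin 8)) 0).val; norm_num; omega
  | ⟨1, _⟩ => show _ / 8 ^ 1 % 8 = ((m : Perm (Fin 8)) 1).val; norm_num; omega
  | ⟨2, _⟩ => show _ / 8 ^ 2 % 8 = ((m : Perm (Fin 8)) 2).val; norm_num; omega
  | ⟨3, _⟩ => show _ / 8 ^ 3 % 8 = ((m : Perm (Fin 8)) 3).val; norm_num; omega
  | ⟨4, _⟩ => show _ / 8 ^ 4 % 8 = ((m : Perm (Fin 8)) 4).val; norm_num; omega
  | ⟨5, _⟩ => show _ / 8 ^ 5 % 8 = ((m : Perm (Fin 8)) 5).val; norm_num; omega
  | ⟨6, _⟩ => show _ / 8 ^ 6 % 8 = ((m : Perm (Fin 8)) 6).val; norm_num; omega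
  | ⟨7, _⟩ => show _ / 8 ^ 7 % 8 = ((m : Perm (Fin 8)) 7).val; norm_num; omega

theorem enc_injective : Function.Injective enc := fun m n e => Subtype.ext (Equiv.ext fun i =>
  Fin.ext (by rw [← dig_enc, ← dig_enc, e]))

theorem enc_mul (m n : A8) : enc (m * n) = cmp (enc m) (enc n) := by
  have key : ∀ i : Fin 8, dig (enc m) (dig (enc n) i.val) = ((m * n : A8) : Perm (Fin 8)) i := by
    intro i
    rw [dig_enc n i, dig_enc m]
    rfl
  have k0 : dig (enc m) (dig (enc n) 0) = (((m * n : A8) : Perm (Fin 8)) 0).val := key 0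
  have k1 : dig (enc m) (dig (enc n) 1) = (((m * n : A8) : Perm (Fin 8)) 1).val := key 1
  have k2 : dig (enc m) (dig (enc n) 2) = (((m * n : A8) : Perm (Fin 8)) 2).val := key 2
  have k3 : dig (enc m) (dig (enc n) 3) = (((m * n : A8) : Perm (Fin 8)) 3).val := key 3
  have k4 : dig (enc m) (dig (enc n) 4) = (((m * n : A8) : Perm (Fin 8)) 4).val := key 4
  have k5 : dig (enc m) (dig (enc n) 5) = (((m * n : A8) : Perm (Fin 8)) 5).val := key 5
  have k6 : dig (enc m) (dig (enc n) 6) = (((m * n : A8) : Perm (Fin 8)) 6).val := key 6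
  have k7 : dig (enc m) (dig (enc n) 7) = (((m * n : A8) : Perm (Fin 8)) 7).val := key 7
  unfold cmp
  rw [k0, k1, k2, k3, k4, k5, k6, k7]
  rfl

theorem mov_enc (m : A8) : mov (enc m) = (m : Perm (Fin 8)).support.card := by
  have key : ∀ i : Fin 8, (if dig (enc m) i.val = i.val then 0 else 1) =
      if (m : Perm (Fin 8)) i ≠ i then 1 else 0 := by
    intro i
    rw [dig_enc]
    by_cases h : (m : Perm (Fin 8)) i = i
    · simp [h]
    · simp [h, Fin.val_inj]
  have hs : (m : Perm (Fin 8)).support.card = ∑ i : Fin 8, if (m : Perm (Fin 8)) i ≠ i then 1 else 0 := by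
    rw [Finset.sum_boole]; rfl
  rw [hs, Fin.sum_univ_eight, ← key 0, ← key 1, ← key 2, ← key 3, ← key 4, ← key 5, ← key 6, ← key 7]
  rfl

def WLc : List ℕ := [16434824, 5949377, 3851834, 1754711, 16201864, 5716417, 3618874, 1521751, 15854216, 5368769, 3271226, 1174103, 15621256, 5135809, 3038266, 941143]
def TLc : List ℕ := [16434824, 5949377, 3851834, 1754711, 16201864, 5716417, 3618874, 1521751, 15854216, 5368769, 3271226, 1174103, 15621256, 5135809, 3038266, 941143, 16205441, 5720008, 3622423, 1525370, 16431233, 5945800, 3848215, 1751162, 15624833, 5139400, 3041815, 944762, 15850625, 5365192, 3267607, 1170554]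
def XLc : List ℕ := [16434824, 5949377, 3851834, 1754711, 16201864, 5716417, 3618874, 1521751, 15854216, 5368769, 3271226, 1174103, 15621256, 5135809, 3038266, 941143, 16434705, 5949048, 3851911, 1755082, 16201745, 5716088, 3618951, 1522122, 15854097, 5368440, 3271303, 1174474, 15621137, 5135480, 3038343, 941514, 16434754, 5948943, 3852240, 1754809, 16201794, 5715983, 3619280, 1521849, 15854146, 5368335, 3271632, 1174201, 15621186, 5135375, 3038672, 941241]
def SLc : List ℕ := [16434824, 16431233, 11257736, 11254145, 8780338, 6453874, 8773142, 6446678, 16421027, 16417436, 11243939, 11240348, 3177202, 850738, 3170006, 843542, 16335179, 16320857, 5751179, 5736857, 8680693, 947317, 8662766, 929390, 14598283, 14583961, 11223499, 11209177, 8678138, 944762, 8674519, 941143, 16324448, 16331588, 5740448, 5747588, 3273781, 6354229, 3255854, 6336302, 14587552, 14594692, 11212768, 11219908, 3271226, 6351674, 3267607, 6348055, 14501704, 14498113, 5720008, 5716417, 8774717, 6448253, 8760367,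 6433903, 14487907, 14484316, 5706211, 5702620, 3171581, 845117, 3157231, 830767]
def CYc : List ℕ := [16434824, 14487907, 16373896, 14487788, 16398984, 14487837, 16434705, 14426979, 16373777, 14426860, 16398865, 14426909, 16434754, 14452067, 16373826, 14451948, 16398914, 14451997]
def idc : ℕ := 16434824
def tc : ℕ := 16201864
def vc : ℕ := 15621256
def xc : ℕ := 16205441
def ic : ℕ := 14487907
def yc : ℕ := 16373777

theorem mem_iff_code {L : List A8} {Lc : List ℕ} (hL : L.map enc = Lc) {m : A8} : m ∈ L ↔ enc m ∈ Lc := by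
  rw [← hL, List.mem_map]
  exact ⟨fun h => ⟨m, h, rfl⟩, fun ⟨n, hn, e⟩ => enc_injective e ▸ hn⟩

theorem mul_closed {L : List A8} {Lc : List ℕ} (hL : L.map enc = Lc)
    (hc : (Lc.all fun a => Lc.all fun b => Lc.contains (cmp a b)) = true) {a b : A8}
    (ha : a ∈ L) (hb : b ∈ L) : a * b ∈ L := by
  rw [mem_iff_code hL] at ha hb ⊢
  rw [List.all_eq_true] at hc
  have h1 := hc _ ha
  rw [List.all_eq_true] at h1
  simpa [← enc_mul] using h1 _ hb

theorem finset_card_code {L : List A8} {Lc : List ℕ} (hL : L.map enc = Lc) :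
    L.toFinset.card = Lc.toFinset.card := by
  rw [← hL, ← Finset.card_image_of_injective L.toFinset enc_injective]
  congr 1
  ext x
  simp

theorem filter_card_code {L : List A8} {Lc : List ℕ} (hL : L.map enc = Lc) (p : A8 → Bool) (pc : ℕ → Bool)
    (hp : ∀ m, p m = pc (enc m)) : (L.filter p).toFinset.card = (Lc.filter pc).toFinset.card := by
  refine finset_card_code ?_
  rw [← hL, List.filter_map]
  congr 1
  exact List.filter_congr fun m _ => hp m

end Cfsg.Agent.A8ThreeLocal
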