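import Cfsg.Agent.A8ThreeLocal.Klein

/-!
The centraliser of the four group `f V1` is not contained in the centraliser of `z`.
-/

set_option autoImplicit false
set_option synthInstance.maxSize 2000
set_option synthInstance.maxHeartbeats 400000

namespace Cfsg.Agent.A8ThreeLocal

open Equiv Equiv.Perm Subgroup

variable {G : Type*} [Group G]

/-- A permutation carrying `a1` to `t5`. -/
def s5 : A5 := ⟨swap 2 3 * swap 3 4, mem_alternatingGroup.2 (by decide)⟩
/-- The image of `a3`. -/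
def v5 : A5 := s5 * a3 * s5⁻¹

theorem s5_spec : s5 * a1 * s5⁻¹ = t5 ∧ u0 * inA v5 * u0 = inA (t5 * v5) ∧ v5 * v5 = 1 ∧ v5 ≠ 1 := by
  decide +kernel

theorem cent_K2 : ∀ p : A5, p * t5 = t5 * p → p * v5 = v5 * p →
    p = 1 ∨ p = t5 ∨ p = v5 ∨ p = t5 * v5 := by decide +kernel

/-- A dihedral subgroup of order eight. -/
def E8 : List KK := [1, inA t5, inA v5, inA (t5 * v5), u0, u0 * inA t5, u0 * inA v5, u0 * inA (t5 * v5)]

/-- The dihedral group as a subgroup. -/
def Q8 : Subgroup KK where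
  carrier := {k | k ∈ E8}
  one_mem' := by show (1 : KK) ∈ E8; decide +kernel
  mul_mem' {a b} := by
    have : ∀ a ∈ E8, ∀ b ∈ E8, a * b ∈ E8 := by decide +kernel
    exact fun ha hb => this a ha b hb
  inv_mem' {a} := by
    have : ∀ a ∈ E8, a⁻¹ ∈ E8 := by decide +kernel
    exact this a

theorem Q8_invol : ∀ e ∈ E8, e * e = 1 → e ≠ 1 →
    (∃ p ∈ [t5, v5, t5 * v5], e = inA p) ∨ sign e.1.1 = -1 := by decide +kernel

theorem E8_two : ∀ e ∈ E8, e ^ 4 = 1 := by decide +kernel

theorem E8_sq : ∀ e ∈ E8, e * e = 1 ∨ e * e = inA t5 := by decide +kernel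

theorem E8_order_four : (u0 * inA v5) * (u0 * inA v5) = inA t5 := by decide +kernel

theorem E8_four : ∀ e ∈ E8, e * e = 1 → e * inA t5 = inA t5 * e → e ≠ 1 → e ≠ inA t5 →
    e = inA v5 ∨ e = inA (t5 * v5) ∨ e = u0 ∨ e = u0 * inA t5 := by decide +kernel

theorem K2_two : ∀ p : A5, p = 1 ∨ p = t5 ∨ p = v5 ∨ p = t5 * v5 → inA p ∈ E8 := by decide +kernel

namespace Hyp

variable (h : Hyp G) [Finite G] (hdeg : ∀ x ∈ h.X, x * h.z = h.z * x)

include hdeg in
theorem cent_K2_le {x : G} (h1 : x * h.t = h.t * x) (h2 : x * h.f v5 = h.f v5 * x) : x * h.z = h.z * x := by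
  set y := (h.f s5)⁻¹ * x * h.f s5
  have conv : ∀ a : A5, x * h.f (s5 * a * s5⁻¹) = h.f (s5 * a * s5⁻¹) * x → y * h.f a = h.f a * y := by
    intro a ha
    rw [map_mul, map_mul, map_inv] at ha
    calc y * h.f a = (h.f s5)⁻¹ * (x * (h.f s5 * h.f a * (h.f s5)⁻¹)) * h.f s5 := by simp only [y]; group
      _ = (h.f s5)⁻¹ * (h.f s5 * h.f a * (h.f s5)⁻¹ * x) * h.f s5 := by rw [ha]
      _ = h.f a * y := by simp only [y]; group
  have hy : y ∈ h.X := h.mem_X.2 ⟨conv a1 (by rw [s5_spec.1]; exact h1), conv a3 h2⟩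
  have hc := hdeg y hy
  have e : x = h.f s5 * y * (h.f s5)⁻¹ := by simp only [y]; group
  rw [e]
  exact (((show Commute (h.f s5) h.z from (h.z_f s5).symm).mul_left hc).mul_left
    (show Commute (h.f s5) h.z from (h.z_f s5).symm).inv_left).eq

include hdeg in
theorem no_three {r : G} (hr : r ^ 3 = 1) (hr1 : r ≠ 1) (ht : r * h.t = h.t * r) (hu : r * h.u = h.u * r) :
    False := by
  obtain ⟨k, hk⟩ := h.exists_conj_mem hr
  obtain ⟨a, b, hab⟩ := h.mem_D hk
  have hcomm : ∀ x : G, r * x = x * r → (k * x * k⁻¹) * dd h.psi a b = dd h.psi a b * (k * x * k⁻¹) := by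
    intro x hx
    rw [← hab]
    calc k * x * k⁻¹ * (k * r * k⁻¹) = k * (x * r) * k⁻¹ := by group
      _ = k * (r * x) * k⁻¹ := by rw [hx]
      _ = _ := by group
  have hab1 : ¬ (a = 0 ∧ b = 0) := by
    rintro ⟨rfl, rfl⟩
    exact hr1 (conj_eq_one_iff.1 (hab.trans (by simp [dd])))
  by_cases hmix : a ≠ 0 ∧ b ≠ 0
  · obtain ⟨h18, -⟩ := h.mixed_cent hmix.1 hmix.2
    let E : List KK := [1, inA t5, u0, inA t5 * u0]
    let F : Subgroup KK :=
      { carrier := {e | e ∈ E}
        one_mem' := by show (1 : KK) ∈ E; simp [E]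
        mul_mem' := fun {x y} => by
          have : ∀ x ∈ E, ∀ y ∈ E, x * y ∈ E := by decide +kernel
          exact fun hx hy => this x hx y hy
        inv_mem' := fun {x} => by
          have : ∀ x ∈ E, x⁻¹ ∈ E := by decide +kernel
          exact this x }
    have hF4 : Nat.card F = 4 := by
      have e : Nat.card F = E.toFinset.card := Nat.subtype_card _ (fun x => List.mem_toFinset)
      rw [e]
      decide +kernel
    let c := (MulAut.conj k).toMonoidHom.comp h.psi
    have hle : F.map c ≤ centralizer ({dd h.psi a b} : Set G) := by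
      rintro _ ⟨e, he, rfl⟩
      rw [mem_centralizer_singleton_iff]
      refine hcomm (h.psi e) ?_
      have he' : e ∈ E := he
      simp only [E, List.mem_cons, List.not_mem_nil, or_false] at he'
      rcases he' with rfl | rfl | rfl | rfl
      · simp
      · exact ht
      · exact hu
      · rw [map_mul]; exact ((show Commute r _ from ht).mul_right hu).eq
    have hd := card_dvd_of_le hle
    rw [card_map_of_injective (f := c) ((MulAut.conj k).injective.comp h.psi_inj), hF4, h18] at hd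
    norm_num at hd
  -- otherwise `r` is conjugate to a power of `z`
  have hz' : ∃ m : G, (m * h.t * m⁻¹) * h.z = h.z * (m * h.t * m⁻¹) ∧ (m * h.u * m⁻¹) * h.z = h.z * (m * h.u * m⁻¹) := by
    have hpow : ∀ (x w : G) (n : Fin 3), n ≠ 0 → w ^ 3 = 1 → x * w ^ (n : ℕ) = w ^ (n : ℕ) * x → x * w = w * x := by
      intro x w n hn hw hx
      fin_cases n
      · exact absurd rfl hn
      · simpa using hx
      · have := (show Commute x (w ^ 2) from hx).pow_right 2
        rw [← pow_mul, pow_succ, hw, one_mul] at this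
        exact this
    rcases not_and_or.1 hmix with ha | hb
    · rw [not_not] at ha
      subst ha
      refine ⟨h.i * k, ?_⟩
      have key : ∀ x : G, r * x = x * r → h.i * k * x * (h.i * k)⁻¹ * h.z = h.z * (h.i * k * x * (h.i * k)⁻¹) := by
        intro x hx
        have e := hcomm x hx
        rw [h.dd_eq] at e
        simp only [Fin.val_zero, pow_zero, one_mul] at e
        have e' := hpow _ h.z' b (fun hb => hab1 ⟨rfl, hb⟩) (h.D_cube h.z'_mem) e
        rw [← h.i_z', mul_inv_rev, h.i_inv]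
        calc h.i * k * x * (k⁻¹ * h.i) * (h.i * h.z' * h.i) = h.i * (k * x * k⁻¹) * (h.i * h.i) * h.z' * h.i := by group
          _ = h.i * (k * x * k⁻¹ * h.z') * h.i := by rw [h.i_sq]; group
          _ = h.i * (h.z' * (k * x * k⁻¹)) * h.i := by rw [e']
          _ = h.i * h.z' * (h.i * h.i) * k * x * (k⁻¹ * h.i) := by rw [h.i_sq]; group
          _ = _ := by group
      exact ⟨key _ ht, key _ hu⟩
    · rw [not_not] at hb
      subst hb
      refine ⟨k, ?_⟩
      have key : ∀ x : G, r * x = x * r → k * x * k⁻¹ * h.z = h.z * (k * x * k⁻¹) := by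
        intro x hx
        have e := hcomm x hx
        rw [h.dd_eq] at e
        simp only [Fin.val_zero, pow_zero, mul_one] at e
        exact hpow _ _ a (fun ha => hab1 ⟨ha, rfl⟩) h.z_cube e
      exact ⟨key _ ht, key _ hu⟩
  obtain ⟨m, hmt, hmu⟩ := hz'
  have hu2 : h.u * h.u = 1 := by
    rw [u, ← map_mul, show u0 * u0 = 1 by decide +kernel, map_one]
  have ht2 : h.t * h.t = 1 := by
    rw [t, ← map_mul, show t5 * t5 = 1 by decide +kernel, map_one]
  have sq : ∀ x : G, x * x = 1 → (m * x * m⁻¹) ^ 2 = 1 := fun x hx => by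
    rw [conj_pow, pow_two, hx, mul_one, mul_inv_cancel]
  obtain ⟨p1, hp1⟩ := h.cent_cases_prime hmt (sq _ ht2) (by norm_num)
  obtain ⟨p2, hp2⟩ := h.cent_cases_prime hmu (sq _ hu2) (by norm_num)
  have ht1 : h.t ≠ 1 := fun e => (show t5 ≠ 1 by decide +kernel) (h.f_inj (e.trans (map_one _).symm))
  have hu1 : h.u ≠ 1 := fun e => (show u0 ≠ 1 by decide +kernel) (h.psi_inj (e.trans (map_one _).symm))
  have htu : h.t ≠ h.u := fun e => (show inA t5 ≠ u0 by decide +kernel) (h.psi_inj e)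
  have hct : h.t * h.u = h.u * h.t := by
    show h.psi (inA t5) * h.psi u0 = h.psi u0 * h.psi (inA t5)
    rw [← map_mul, ← map_mul, show inA t5 * u0 = u0 * inA t5 by decide +kernel]
  have hp1sq : p1 * p1 = 1 := h.f_inj (by rw [map_mul, map_one, ← hp1, ← pow_two, sq _ ht2])
  have hp11 : p1 ≠ 1 := fun e => ht1 (conj_eq_one_iff.1 (by rw [hp1, e, map_one]))
  obtain ⟨s, hs⟩ := invol_conj p1 hp1sq hp11
  set n := (h.f s)⁻¹ * m
  have hnt : n * h.t * n⁻¹ = h.f a1 := by
    calc n * h.t * n⁻¹ = (h.f s)⁻¹ * (m * h.t * m⁻¹) * h.f s := by simp only [n]; group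
      _ = h.f a1 := by rw [hp1, ← hs, map_mul, map_mul, map_inv]; group
  set q2 := s⁻¹ * p2 * s
  have hnu : n * h.u * n⁻¹ = h.f q2 := by
    calc n * h.u * n⁻¹ = (h.f s)⁻¹ * (m * h.u * m⁻¹) * h.f s := by simp only [n]; group
      _ = h.f q2 := by rw [hp2, map_mul, map_mul, map_inv]
  have hq2 : q2 = a2 ∨ q2 = a3 := by
    refine invol_commute q2 (h.f_inj ?_) (fun e => ?_) (fun e => ?_) (h.f_inj ?_)
    · rw [map_mul, map_one, ← hnu]
      calc n * h.u * n⁻¹ * (n * h.u * n⁻¹) = n * (h.u * h.u) * n⁻¹ := by group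
        _ = 1 := by rw [hu2]; group
    · exact hu1 (conj_eq_one_iff.1 (hnu.trans (by rw [e, map_one])))
    · exact htu (mul_left_cancel (a := n) (mul_right_cancel (b := n⁻¹) (by rw [hnt, hnu, e])))
    · rw [map_mul h.f q2 a1, map_mul h.f a1 q2, ← hnu, ← hnt]
      calc n * h.u * n⁻¹ * (n * h.t * n⁻¹) = n * (h.u * h.t) * n⁻¹ := by group
        _ = n * (h.t * h.u) * n⁻¹ := by rw [hct]
        _ = _ := by group
  -- the conjugate of `i`
  set j := n * h.i * n⁻¹ with hj
  have hj2 : j * j = 1 := by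
    calc j * j = n * (h.i * h.i) * n⁻¹ := by rw [hj]; group
      _ = 1 := by rw [h.i_sq]; group
  have hjinv : j⁻¹ = j := inv_eq_of_mul_eq_one_right hj2
  have hja : j * h.f a1 * j = h.f q2 := by
    rw [← hnt, ← hnu, ← h.i_t_eq, hj]
    group
  have hjq : j * h.f q2 * j = h.f a1 := by
    rw [← hja]
    calc j * (j * h.f a1 * j) * j = (j * j) * h.f a1 * (j * j) := by group
      _ = h.f a1 := by rw [hj2]; simp
  have hjz : j * h.z * j = h.z ∨ j * h.z * j = h.z⁻¹ := by
    set w := j * h.z * j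
    have hwc : ∀ p : A5, w * (j * h.f p * j) = (j * h.f p * j) * w := by
      intro p
      calc w * (j * h.f p * j) = j * h.z * (j * j) * h.f p * j := by simp only [w]; group
        _ = j * (h.z * h.f p) * j := by rw [hj2]; group
        _ = j * (h.f p * h.z) * j := by rw [h.z_f]
        _ = j * h.f p * (j * j) * h.z * j := by rw [hj2]; group
        _ = _ := by simp only [w]; group
    have c1 : w * h.f a1 = h.f a1 * w := by rw [← hjq]; exact hwc q2
    have cq : w * h.f q2 = h.f q2 * w := by rw [← hja]; exact hwc a1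
    have c3 : w * h.f a3 = h.f a3 * w := by
      rcases hq2 with e | e <;> rw [e] at cq
      · rw [show a3 = a1 * a2 by decide +kernel, map_mul]
        exact ((show Commute w _ from c1).mul_right cq).eq
      · exact cq
    have hwX : w ∈ h.X := h.mem_X.2 ⟨c1, c3⟩
    obtain ⟨p, hp, hwp⟩ := h.X_cent_z hwX (hdeg w hwX)
    have hw3 : w ^ 3 = 1 := by
      have e : w = j * h.z * j⁻¹ := by rw [hjinv]
      rw [e, conj_pow, h.z_cube, mul_one, mul_inv_cancel]
    have hp1' : p = 1 := klein_cube p hp (h.f_inj (by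
      rcases hwp with e | e | e <;> rw [e] at hw3
      · rw [map_pow, hw3, map_one]
      · rw [(show Commute _ _ from h.z_f p).mul_pow, h.z_cube, one_mul] at hw3; rw [map_pow, hw3, map_one]
      · rw [(show Commute _ _ from h.z_inv_f p).mul_pow, inv_pow, h.z_cube, inv_one, one_mul] at hw3
        rw [map_pow, hw3, map_one]))
    subst hp1'
    rw [map_one, mul_one, mul_one] at hwp
    rcases hwp with e | e | e
    · refine absurd ?_ h.z_ne
      calc h.z = j * (j * h.z * j) * j := by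
            rw [show j * (j * h.z * j) * j = (j * j) * h.z * (j * j) by group, hj2]; simp
        _ = 1 := by rw [show j * h.z * j = 1 from e, mul_one, hj2]
    · exact Or.inl e
    · exact Or.inr e
  obtain ⟨kj, hkj⟩ := h.norm_z j (by rw [hjinv]; exact hjz)
  have hkj2 : kj * kj = 1 := h.psi_inj (by rw [map_mul, hkj, hj2, map_one])
  have hkja : kj * inA a1 * kj⁻¹ = inA q2 := h.psi_inj (by
    rw [map_mul, map_mul, map_inv, hkj, hjinv]; exact hja)
  have hodd : sign kj.1.2 = -1 := klein_swap_odd _ (congrArg (fun x : KK => x.1.2) hkj2) (by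
    have e : kj.1.2 * (a1 : Perm (Fin 5)) * kj.1.2⁻¹ = (q2 : Perm (Fin 5)) := congrArg (fun x : KK => x.1.2) hkja
    rcases hq2 with e' | e' <;> rw [e'] at e
    · exact Or.inl e
    · exact Or.inr e)
  have hT : h.IsT j := hkj ▸ h.isT_psi hkj2 (by rw [mem_KK.1 kj.2]; exact hodd)
  exact h.i_not_isT (hT.trans (isConj_iff.2 ⟨n⁻¹, by rw [hj]; group⟩))

include hdeg in
theorem degenerate_false : False := by
  have : Fact (Nat.Prime 2) := ⟨Nat.prime_two⟩
  set Q := Q8.map h.psi with hQ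
  have hQp : IsPGroup 2 Q := fun ⟨x, hx⟩ => ⟨2, Subtype.ext (by
    obtain ⟨e, he, rfl⟩ := hx
    show h.psi e ^ (2 ^ 2) = 1
    rw [← map_pow, show (2 : ℕ) ^ 2 = 4 by norm_num, E8_two e he, map_one])⟩
  obtain ⟨P, hP⟩ := hQp.exists_le_sylow
  have hPQ : (P : Subgroup G) = Q := by
    by_contra hne
    have hlt : Q.subgroupOf P < ⊤ := lt_top_iff_ne_top.2 fun e => hne (le_antisymm (subgroupOf_eq_top.1 e) hP)
    have : Group.IsNilpotent (P : Subgroup G) := P.2.isNilpotent
    obtain ⟨q, hqN, hqQ⟩ := SetLike.exists_of_lt (normalizerCondition_of_isNilpotent _ hlt)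
    have hq : ∀ x ∈ Q, (q : G) * x * (q : G)⁻¹ ∈ Q := fun x hx => by
      have := (Subgroup.mem_normalizer_iff.1 hqN ⟨x, hP hx⟩).1 hx
      exact this
    -- the centre is fixed
    have hqt : (q : G) * h.t * (q : G)⁻¹ = h.t := by
      obtain ⟨e, he, hee⟩ := hq (h.psi (u0 * inA v5)) ⟨_, by show _ ∈ E8; simp [E8], rfl⟩
      have hsq : (q : G) * h.t * (q : G)⁻¹ = h.psi (e * e) := by
        rw [map_mul, hee, show h.t = h.psi ((u0 * inA v5) * (u0 * inA v5)) by rw [E8_order_four]; rfl, map_mul]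
        group
      rcases E8_sq e he with e1 | e1 <;> rw [e1] at hsq
      · rw [map_one] at hsq
        exact absurd (conj_eq_one_iff.1 hsq) fun e2 =>
          (show t5 ≠ 1 by decide +kernel) (h.f_inj (e2.trans (map_one _).symm))
      · exact hsq
    have hv : h.f v5 ∈ Q := ⟨inA v5, by show _ ∈ E8; simp [E8], rfl⟩
    obtain ⟨e, he, hev⟩ := hq _ hv
    have hzq : ∀ x : G, x * h.z = h.z * x → (q : G) * x * (q : G)⁻¹ * ((q : G) * h.z * (q : G)⁻¹) =
        (q : G) * h.z * (q : G)⁻¹ * ((q : G) * x * (q : G)⁻¹) := fun x hx => by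
      calc (q : G) * x * (q : G)⁻¹ * ((q : G) * h.z * (q : G)⁻¹) = q * (x * h.z) * (q : G)⁻¹ := by group
        _ = q * (h.z * x) * (q : G)⁻¹ := by rw [hx]
        _ = _ := by group
    have hinj := fun x y (e' : (q : G) * x * (q : G)⁻¹ = q * y * (q : G)⁻¹) =>
      mul_left_cancel (mul_right_cancel e')
    have hcases := E8_four e he
      (h.psi_inj (by
        rw [map_mul, hev, map_one, show (q : G) * h.f v5 * (q : G)⁻¹ * (q * h.f v5 * (q : G)⁻¹) = q * (h.f v5 * h.f v5) * (q : G)⁻¹ by group,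
          ← map_mul, s5_spec.2.2.1, map_one]
        group))
      (h.psi_inj (by
        rw [map_mul, map_mul, hev]
        show _ * h.t = h.t * _
        nth_rw 1 [← hqt]
        nth_rw 2 [← hqt]
        rw [show (q : G) * h.f v5 * (q : G)⁻¹ * (q * h.t * (q : G)⁻¹) = q * (h.f v5 * h.t) * (q : G)⁻¹ by group,
          show (q : G) * h.t * (q : G)⁻¹ * (q * h.f v5 * (q : G)⁻¹) = q * (h.t * h.f v5) * (q : G)⁻¹ by group]
        rw [t, ← map_mul, ← map_mul, show v5 * t5 = t5 * v5 by decide +kernel]))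
      (fun e1 => s5_spec.2.2.2 (h.f_inj (by
        rw [e1, map_one] at hev
        rw [map_one]
        exact conj_eq_one_iff.1 hev.symm)))
      (fun e1 => (show v5 ≠ t5 by decide +kernel) (h.f_inj (hinj _ _ (by
        rw [← hev, e1]; exact hqt.symm))))
    have bad : (q : G) * h.f v5 * (q : G)⁻¹ = h.u ∨ (q : G) * h.f v5 * (q : G)⁻¹ = h.u * h.t → False := by
      intro hb
      have c1 := hzq h.t (h.z_f t5).symm
      rw [hqt] at c1
      have c2 := hzq (h.f v5) (h.z_f v5).symm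
      refine h.no_three hdeg (r := (q : G) * h.z * (q : G)⁻¹) ?_ ?_ c1.symm ?_
      · rw [conj_pow, h.z_cube, mul_one, mul_inv_cancel]
      · exact fun e => h.z_ne (conj_eq_one_iff.1 e)
      · rcases hb with e' | e' <;> rw [e'] at c2
        · exact c2.symm
        · have : Commute ((q : G) * h.z * (q : G)⁻¹) (h.u * h.t * h.t) := (show Commute _ (h.u * h.t) from c2.symm).mul_right c1.symm
          rwa [mul_assoc h.u, show h.t * h.t = 1 by rw [t, ← map_mul, show t5 * t5 = 1 by decide +kernel, map_one], mul_one] at this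
    -- adjust by `u`
    have fin : ∀ q' ∈ (P : Subgroup G), q' * h.t * q'⁻¹ = h.t → q' * h.f v5 * q'⁻¹ = h.f v5 → q' ∈ Q := by
      intro q' hq' e1 e2
      have hc := h.cent_K2_le hdeg (mul_inv_eq_iff_eq_mul.1 e1) (mul_inv_eq_iff_eq_mul.1 e2)
      obtain ⟨m, hm⟩ := P.2 ⟨q', hq'⟩
      have hm' : q' ^ (2 ^ m) = 1 := by simpa using congrArg Subtype.val hm
      obtain ⟨p, rfl⟩ := h.cent_cases_prime hc hm' (fun hd => by
        have := Nat.Prime.dvd_of_dvd_pow Nat.prime_three hd
        norm_num at this)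
      refine ⟨inA p, K2_two p (cent_K2 p (h.f_inj ?_) (h.f_inj ?_)), rfl⟩ <;> rw [map_mul, map_mul]
      · exact mul_inv_eq_iff_eq_mul.1 e1
      · exact mul_inv_eq_iff_eq_mul.1 e2
    rcases hcases with rfl | rfl | rfl | rfl
    · exact hqQ (fin q q.2 hqt hev.symm)
    · have huQ : h.u ∈ Q := ⟨u0, by show _ ∈ E8; simp [E8], rfl⟩
      have hu2 : h.u * h.u = 1 := by rw [u, ← map_mul, show u0 * u0 = 1 by decide +kernel, map_one]
      have huinv : h.u⁻¹ = h.u := inv_eq_of_mul_eq_one_right hu2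
      have e1 : h.u * q * h.t * (h.u * (q : G))⁻¹ = h.t := by
        rw [mul_inv_rev, huinv, show h.u * (q : G) * h.t * ((q : G)⁻¹ * h.u) = h.u * (q * h.t * (q : G)⁻¹) * h.u by group, hqt, t, h.u_f]
        rw [show tauHom t5 = t5 by decide +kernel]
      have e2 : h.u * q * h.f v5 * (h.u * (q : G))⁻¹ = h.f v5 := by
        rw [mul_inv_rev, huinv, show h.u * (q : G) * h.f v5 * ((q : G)⁻¹ * h.u) = h.u * (q * h.f v5 * (q : G)⁻¹) * h.u by group, ← hev]
        show h.u * h.f (t5 * v5) * h.u = h.f v5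
        rw [h.u_f, show tauHom (t5 * v5) = v5 by decide +kernel]
      have := fin _ (mul_mem (hP huQ) q.2) e1 e2
      exact hqQ ((Q.mul_mem_cancel_left huQ).1 this)
    · exact bad (Or.inl hev.symm)
    · exact bad (Or.inr (hev.symm.trans (map_mul _ _ _)))
  obtain ⟨S, hS⟩ := (IsPGroup.of_card (p := 2) (n := 1) (G := zpowers h.i) (by
    rw [Nat.card_zpowers, pow_one]
    exact orderOf_eq_prime (by rw [pow_two, h.i_sq]) h.i_ne)).exists_le_sylow
  obtain ⟨k, hk⟩ := MulAction.exists_smul_eq G S P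
  have hmem : k * h.i * k⁻¹ ∈ Q := by
    rw [← hPQ, ← hk]
    exact ⟨h.i, hS (mem_zpowers _), rfl⟩
  obtain ⟨e, he, hek⟩ := hmem
  have h2 : e * e = 1 := h.psi_inj (by
    rw [map_mul, hek, map_one, show k * h.i * k⁻¹ * (k * h.i * k⁻¹) = k * (h.i * h.i) * k⁻¹ by group, h.i_sq]
    group)
  have h1 : e ≠ 1 := fun e1 => h.i_ne (conj_eq_one_iff.1 (hek.symm.trans (by rw [e1, map_one])))
  have hT : h.IsT (k * h.i * k⁻¹) := by
    rw [← hek]
    rcases Q8_invol e he h2 h1 with ⟨p, -, rfl⟩ | hs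
    · exact h.isT_f (inA_injective (by rw [map_mul, h2, map_one])) (fun e1 => h1 (by rw [e1, map_one]))
    · exact h.isT_psi h2 hs
  exact h.i_not_isT (hT.trans (isConj_iff.2 ⟨k⁻¹, by group⟩))

end Hyp

end Cfsg.Agent.A8ThreeLocal
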