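import Cfsg.Agent.A8ThreeLocal.Degenerate
import Cfsg.Agent.LyLocal.AltCover

/-!
A subgroup isomorphic to the alternating group of degree eight.
-/

set_option autoImplicit false
set_option synthInstance.maxSize 2000
set_option synthInstance.maxHeartbeats 400000

namespace Cfsg.Agent.A8ThreeLocal

open Equiv Equiv.Perm Subgroup
open Cfsg.Agent.ShortPres Cfsg.Agent.AltMult

abbrev A8 := alternatingGroup (Fin 8)

/-- The points `3, …, 7`. -/
def eF : Fin 5 ≃ {x : Fin 8 // 3 ≤ x.val} where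
  toFun a := ⟨⟨a.val + 3, by omega⟩, by simp⟩
  invFun x := ⟨x.1.val - 3, by omega⟩
  left_inv a := by apply Fin.ext; simp
  right_inv x := by apply Subtype.ext; apply Fin.ext; simp; omega

/-- The points `0, 1, 2, 6, 7`. -/
def eG : Fin 5 ≃ {x : Fin 8 // x.val < 3 ∨ 6 ≤ x.val} where
  toFun a := ⟨⟨if a.val < 3 then a.val else a.val + 3, by split <;> omega⟩, by dsimp only; split <;> omega⟩
  invFun x := ⟨if x.1.val < 3 then x.1.val else x.1.val - 3, by
    have := x.2
    split <;> omega⟩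
  left_inv := by decide
  right_inv := by decide

/-- The embedding on the points `3, …, 7`. -/
def iF : A5 →* A8 :=
  ((extendDomainHom eF).comp (alternatingGroup (Fin 5)).subtype).codRestrict (alternatingGroup (Fin 8))
    fun p => mem_alternatingGroup.2 ((sign_extendDomain p.1 eF).trans (mem_alternatingGroup.1 p.2))

/-- The embedding on the points `0, 1, 2, 6, 7`. -/
def iG : A5 →* A8 :=
  ((extendDomainHom eG).comp (alternatingGroup (Fin 5)).subtype).codRestrict (alternatingGroup (Fin 8))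
    fun p => mem_alternatingGroup.2 ((sign_extendDomain p.1 eG).trans (mem_alternatingGroup.1 p.2))

/-- The generator `(3 4 j)`. -/
def xg (j : Fin 3) : A5 := cycA 3 4 (j.castLE (by norm_num)) (by decide) (by revert j; decide)

theorem xg_eq : xg 0 = x0 ∧ xg 1 = x1 ∧ xg 2 = x2 := by decide +kernel

theorem xg_rot : ∀ j : Fin 3, c5 * xg j * c5⁻¹ = xg (j + 1) := by decide +kernel

theorem iG_xg : ∀ j : Fin 3, ((iG (xg j) : A8) : Perm (Fin 8)) = cyc 6 7 (j.castLE (by norm_num)) := by
  decide +kernel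

theorem iF_xg : ∀ j : Fin 3, ((iF (xg j) : A8) : Perm (Fin 8)) =
    cyc 6 7 ⟨j.val + 3, by omega⟩ := by decide +kernel

theorem xg_closure : Subgroup.closure (Set.range xg) = ⊤ := by
  refine closure_cycA_eq_top (u := (3 : Fin 5)) (v := 4) (by decide) _ fun i hiu hiv => subset_closure ?_
  refine ⟨⟨i.val, ?_⟩, Subtype.ext ?_⟩
  · have h3 : i.val ≠ 3 := fun e => hiu (Fin.ext e)
    have h4 : i.val ≠ 4 := fun e => hiv (Fin.ext e)
    omega
  · rfl

theorem rel_perm : x0 = a3 * e5 ∧ e5 = c5 * t5 * c5⁻¹ ∧ e5 * tauHom a3 * e5 = a3 ∧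
    e5 * e5 = 1 ∧ tauHom e5 = e5 ∧ tauHom b1 * e5 * b1 = x0 ∧ b1 * b1 = 1 ∧ a3 * a3 = 1 ∧ InV1 a3 ∧ InV2 b1 := by
  decide +kernel

theorem xg_cube : ∀ j : Fin 3, xg j ^ 3 = 1 := by decide +kernel

theorem xg_sq : ∀ j k : Fin 3, j ≠ k → (xg j * xg k) ^ 2 = 1 := by decide +kernel

variable {G : Type*} [Group G] [Finite G]

/-- The splitting data. -/
structure Split (h : Hyp G) where
  g : A5 →* G
  g_inj : Function.Injective g
  g_c5 : g c5 = h.z
  g_t5 : g t5 = h.u
  g_z' : ∀ p, g p * h.z' = h.z' * g p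
  t_g : ∀ p, h.t * g p * h.t = g (tauHom p)
  comm : ∀ p q, InV1 p → InV2 q → h.f p * g q = g q * h.f p
  X_eq : ∀ x ∈ h.X, ∃ p q : A5, ∃ n : ℤ, InV1 p ∧ InV2 q ∧ x = h.f p * g q * h.z ^ n
  g_form : (∀ p, g p = h.i * h.f p * h.i) ∨ ∀ p, g p = h.i * h.f (tauHom p) * h.i

theorem Hyp.exists_split (h : Hyp G) : Nonempty (Split h) := by
  rcases h.klein_split with hd | ⟨g, h1, h2, h3, h4, h5, h6, h7, h8⟩
  · exact (h.degenerate_false hd).elim
  · exact ⟨⟨g, h1, h2, h3, h4, h5, h6, h7, h8⟩⟩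

namespace Split

variable {h : Hyp G} (S : Split h)

theorem rel00 : (h.f x0 * S.g x0) ^ 2 = 1 := by
  obtain ⟨r1, r2, r3', r4, r5, r6, r7, r8, ha, hb⟩ := rel_perm
  set T := h.f e5
  set U := S.g e5
  set a := h.f a3
  set w := S.g b1
  have hT2 : T * T = 1 := by rw [← map_mul, r4, map_one]
  have hU2 : U * U = 1 := by rw [← map_mul, r4, map_one]
  have hw2 : w * w = 1 := by rw [← map_mul, r7, map_one]
  have ha2 : a * a = 1 := by rw [← map_mul, r8, map_one]
  have hTg : ∀ p, T * S.g p * T = S.g (tauHom p) := by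
    intro p
    have hz : Commute h.z' (S.g p) := (show Commute (S.g p) h.z' from S.g_z' p).symm
    have hz' : Commute h.z' (S.g (tauHom p)) := (show Commute (S.g (tauHom p)) h.z' from S.g_z' _).symm
    have ht : h.f t5 = h.t := rfl
    have hc : h.f c5 = h.z' := rfl
    simp only [T, r2, map_mul, map_inv, ht, hc]
    calc h.z' * h.t * h.z'⁻¹ * S.g p * (h.z' * h.t * h.z'⁻¹)
        = h.z' * h.t * (h.z'⁻¹ * S.g p * h.z') * h.t * h.z'⁻¹ := by group
      _ = h.z' * (h.t * S.g p * h.t) * h.z'⁻¹ := by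
        rw [show h.z'⁻¹ * S.g p * h.z' = S.g p by rw [mul_assoc, ← hz.eq, inv_mul_cancel_left]]; group
      _ = S.g (tauHom p) := by rw [S.t_g, hz'.eq, mul_inv_cancel_right]
  have hUf : ∀ p, U * h.f p * U = h.f (tauHom p) := by
    intro p
    have hz : Commute h.z (h.f p) := h.z_f p
    have hz' : Commute h.z (h.f (tauHom p)) := h.z_f _
    simp only [U, r2, map_mul, map_inv, S.g_t5, S.g_c5]
    calc h.z * h.u * h.z⁻¹ * h.f p * (h.z * h.u * h.z⁻¹)
        = h.z * h.u * (h.z⁻¹ * h.f p * h.z) * h.u * h.z⁻¹ := by group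
      _ = h.z * (h.u * h.f p * h.u) * h.z⁻¹ := by
        rw [show h.z⁻¹ * h.f p * h.z = h.f p by rw [mul_assoc, ← hz.eq, inv_mul_cancel_left]]; group
      _ = h.f (tauHom p) := by rw [h.u_f, hz'.eq, mul_inv_cancel_right]
  set s := T * U with hs
  have hTU : T * U * T = U := by rw [hTg, r5]
  have hs2 : s * s = 1 := by
    calc s * s = (T * U * T) * U := by rw [hs]; group
      _ = 1 := by rw [hTU, hU2]
  have has : s * a * s = a := by
    calc s * a * s = T * (U * a * (T * U)) := by rw [hs]; group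
      _ = T * (U * a * (T * U * T) * T⁻¹) := by group
      _ = T * (U * a * U) * T⁻¹ := by rw [hTU]; group
      _ = a := by
        rw [hUf, inv_eq_of_mul_eq_one_right hT2, ← map_mul, ← map_mul, r3']
  have hsinv : s⁻¹ = s := inv_eq_of_mul_eq_one_right hs2
  have hca : Commute a s := by
    show a * s = s * a
    calc a * s = s * a * s * s := by rw [has]
      _ = s * a := by rw [mul_assoc _ s s, hs2, mul_one]
  have hcw : Commute a w := S.comm a3 b1 ha hb
  set v := w * s * w
  have hv2 : v * v = 1 := by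
    calc v * v = w * s * (w * w) * s * w := by simp only [v]; group
      _ = w * (s * s) * w := by rw [hw2]; group
      _ = 1 := by rw [hs2, mul_one, hw2]
  have hcv : Commute a v := (hcw.mul_right hca).mul_right hcw
  have key : h.f x0 * S.g x0 = a * v := by
    have e1 : v = T * (S.g (tauHom b1) * U * w) := by
      calc v = T⁻¹⁻¹ * (T⁻¹ * w * T) * U * w := by simp only [v, hs]; group
        _ = T * (S.g (tauHom b1) * U * w) := by
          rw [inv_eq_of_mul_eq_one_right hT2, inv_eq_of_mul_eq_one_right hT2, hTg]; group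
    rw [e1, ← map_mul, ← map_mul, r6, ← mul_assoc, ← map_mul, ← r1]
  rw [key, hcv.mul_pow, pow_two, pow_two, ha2, hv2, mul_one]

theorem rel : ∀ j k : Fin 3, (h.f (xg j) * S.g (xg k)) ^ 2 = 1 := by
  have step1 : ∀ j k, (h.f (xg j) * S.g (xg k)) ^ 2 = 1 → (h.f (xg (j + 1)) * S.g (xg k)) ^ 2 = 1 := by
    intro j k e
    have hc : h.f (xg (j + 1)) * S.g (xg k) = h.z' * (h.f (xg j) * S.g (xg k)) * h.z'⁻¹ := by
      rw [← xg_rot, map_mul, map_mul, map_inv]
      show h.z' * h.f (xg j) * h.z'⁻¹ * S.g (xg k) = h.z' * (h.f (xg j) * S.g (xg k)) * h.z'⁻¹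
      rw [show h.z' * (h.f (xg j) * S.g (xg k)) * h.z'⁻¹ = h.z' * h.f (xg j) * (S.g (xg k) * h.z'⁻¹) by group,
        (Commute.inv_right (S.g_z' (xg k))).eq]
      group
    rw [hc, conj_pow, e, mul_one, mul_inv_cancel]
  have step2 : ∀ j k, (h.f (xg j) * S.g (xg k)) ^ 2 = 1 → (h.f (xg j) * S.g (xg (k + 1))) ^ 2 = 1 := by
    intro j k e
    have hc : h.f (xg j) * S.g (xg (k + 1)) = h.z * (h.f (xg j) * S.g (xg k)) * h.z⁻¹ := by
      rw [← xg_rot, map_mul, map_mul, map_inv, S.g_c5,
        show h.z * (h.f (xg j) * S.g (xg k)) * h.z⁻¹ = h.z * h.f (xg j) * (S.g (xg k) * h.z⁻¹) by group,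
        h.z_f]
      group
    rw [hc, conj_pow, e, mul_one, mul_inv_cancel]
  have base : (h.f (xg 0) * S.g (xg 0)) ^ 2 = 1 := by rw [xg_eq.1]; exact S.rel00
  have row : ∀ k, (h.f (xg 0) * S.g (xg k)) ^ 2 = 1 := by
    intro k
    fin_cases k
    · exact base
    · exact step2 _ _ base
    · exact step2 _ _ (step2 _ _ base)
  intro j k
  fin_cases j
  · exact row k
  · exact step1 _ _ (row k)
  · exact step1 _ _ (step1 _ _ (row k))

/-- The Carmichael generators in `G`. -/
def gen (x : Rest (6 : Fin 8) 7) : G :=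
  if hx : x.1.val < 3 then S.g (xg ⟨x.1.val, hx⟩)
  else h.f (xg ⟨x.1.val - 3, by
    have h6 : x.1.val ≠ 6 := fun e => x.2.1 (Fin.ext e)
    have h7 : x.1.val ≠ 7 := fun e => x.2.2 (Fin.ext e)
    omega⟩)

theorem exists_embedding : ∃ Φ : A8 →* G, Function.Injective Φ ∧ (∀ p, Φ (iF p) = h.f p) ∧
    (∀ p, Φ (iG p) = S.g p) := by
  classical
  have huv : (6 : Fin 8) ≠ 7 := by decide
  obtain ⟨e, he⟩ := Cfsg.Agent.LyLocal.carm_iso (β := Fin 8) huv
  have hrels : ∀ r ∈ Cfsg.Agent.LyLocal.carmRels (6 : Fin 8) 7, FreeGroup.lift S.gen r = 1 := by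
    rintro r (⟨x, rfl⟩ | ⟨x, y, hxy, rfl⟩)
    · rw [map_pow, FreeGroup.lift_apply_of]
      unfold gen
      split <;> rw [← map_pow, xg_cube, map_one]
    · rw [map_pow, map_mul, FreeGroup.lift_apply_of, FreeGroup.lift_apply_of]
      have hne : x.1.val ≠ y.1.val := fun e => hxy (Subtype.ext (Fin.ext e))
      unfold gen
      split <;> split
      · rw [← map_mul, ← map_pow, xg_sq _ _ (fun e => hne (by simpa [Fin.ext_iff] using e)), map_one]
      · exact sq_flip (S.rel _ _)
      · exact S.rel _ _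
      · rw [← map_mul, ← map_pow, xg_sq _ _ (fun e => by
          have := congrArg Fin.val e
          simp only at this
          omega), map_one]
  let Φ : A8 →* G := (PresentedGroup.toGroup hrels).comp e.symm.toMonoidHom
  have hΦ : ∀ x : Rest (6 : Fin 8) 7, Φ (cycR huv x) = S.gen x := by
    intro x
    show PresentedGroup.toGroup hrels (e.symm (cycR huv x)) = S.gen x
    rw [← he x, e.symm_apply_apply]
    exact PresentedGroup.toGroup.of hrels
  have hF : ∀ p, Φ (iF p) = h.f p := by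
    have : Φ.comp iF = h.f := MonoidHom.eq_of_eqOn_dense xg_closure (by
      rintro _ ⟨j, rfl⟩
      let x : Rest (6 : Fin 8) 7 := ⟨⟨j.val + 3, by omega⟩,
        fun e => by have := congrArg Fin.val e; simp at this; omega,
        fun e => by have := congrArg Fin.val e; simp at this; omega⟩
      have e1 : iF (xg j) = cycR huv x := Subtype.ext (iF_xg j)
      show Φ (iF (xg j)) = h.f (xg j)
      rw [e1, hΦ, gen, dif_neg (by simp [x])]
      congr 2)
    exact fun p => DFunLike.congr_fun this p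
  have hG : ∀ p, Φ (iG p) = S.g p := by
    have : Φ.comp iG = S.g := MonoidHom.eq_of_eqOn_dense xg_closure (by
      rintro _ ⟨j, rfl⟩
      let x : Rest (6 : Fin 8) 7 := ⟨j.castLE (by norm_num),
        fun e => by have := congrArg Fin.val e; simp at this; omega,
        fun e => by have := congrArg Fin.val e; simp at this; omega⟩
      have e1 : iG (xg j) = cycR huv x := Subtype.ext (iG_xg j)
      show Φ (iG (xg j)) = S.g (xg j)
      rw [e1, hΦ, gen, dif_pos (show (x : Fin 8).val < 3 from j.isLt)]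
      rfl)
    exact fun p => DFunLike.congr_fun this p
  refine ⟨Φ, ?_, hF, hG⟩
  have : IsSimpleGroup A8 := alternatingGroup.isSimpleGroup (by simp)
  rcases (MonoidHom.normal_ker Φ).eq_bot_or_eq_top with hk | hk
  · exact (MonoidHom.ker_eq_bot_iff Φ).1 hk
  · have h1 : h.f c5 = 1 := by
      rw [← hF]; exact MonoidHom.mem_ker.1 (hk ▸ mem_top _)
    exact absurd (h.f_inj (h1.trans (map_one _).symm)) (by decide +kernel)

end Split

end Cfsg.Agent.A8ThreeLocal
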