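import Cfsg.Agent.A8ThreeLocal.SetupProof
import Cfsg.Agent.Coprime.Generation

/-!
First consequences of the normal form.
-/

set_option autoImplicit false
set_option synthInstance.maxSize 2000
set_option synthInstance.maxHeartbeats 400000

namespace Cfsg.Agent.A8ThreeLocal

open Equiv Equiv.Perm Subgroup

variable {G : Type*} [Group G]

/-- Conjugation by the transposition `(3 4)`. -/
def tauHom : A5 →* A5 where
  toFun p := ⟨tau * p.1 * tau, mem_alternatingGroup.2 (by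
    rw [map_mul, map_mul, mem_alternatingGroup.1 p.2, mul_one, ← map_mul, tau_sq, map_one])⟩
  map_one' := Subtype.ext (by simp [tau_sq])
  map_mul' p q := Subtype.ext (by
    show tau * (p.1 * q.1) * tau = tau * p.1 * tau * (tau * q.1 * tau)
    rw [show tau * p.1 * tau * (tau * q.1 * tau) = tau * p.1 * (tau * tau) * q.1 * tau by group, tau_sq]
    group)

theorem tauHom_sq (p : A5) : tauHom (tauHom p) = p := Subtype.ext (by
  show tau * (tau * p.1 * tau) * tau = p.1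
  rw [show tau * (tau * p.1 * tau) * tau = tau * tau * p.1 * (tau * tau) by group, tau_sq]
  simp)

theorem u0_inA (p : A5) : u0 * inA p * u0 = inA (tauHom p) :=
  Subtype.ext (Prod.ext (show s3 * 1 * s3 = 1 by rw [mul_one, s3_sq]) rfl)

theorem invol_odd_conj (k : KK) (h2 : k * k = 1) (hs : sign k.1.1 = -1) :
    ∃ m : KK, m * u0 * m⁻¹ = k := by
  obtain ⟨a, ha, he⟩ := odd_three k.1.1 hs
  obtain ⟨b, hb, he'⟩ := odd_transp k.1.2 (congrArg (fun x : KK => x.1.2) h2) (by rw [← mem_KK.1 k.2, hs])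
  exact ⟨mk' a b (ha.trans hb.symm), Subtype.ext (Prod.ext he he')⟩

theorem mixed_norm : ∀ a b : Fin 3, a ≠ 0 → b ≠ 0 → ∃ k : KK, k * (z0 * inA c5) * k⁻¹ = z0 ^ (a : ℕ) * inA c5 ^ (b : ℕ) ∧
    (k * z0 * k⁻¹ = z0 ∨ k * z0 * k⁻¹ = z0⁻¹) ∧ (k * inA c5 * k⁻¹ = inA c5 ∨ k * inA c5 * k⁻¹ = (inA c5)⁻¹) := by
  intro a b ha hb
  obtain ⟨k, -, h1, h2, h3⟩ := mixed_conj a b ha hb
  refine ⟨k⁻¹, by rw [← h1]; group, ?_, ?_⟩
  · simp only [List.mem_cons, List.not_mem_nil, or_false] at h2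
    rcases h2 with e | e
    · exact Or.inl (by nth_rw 1 [← e]; group)
    · refine Or.inr ?_
      calc k⁻¹ * z0 * k⁻¹⁻¹ = (k⁻¹ * (k * z0 * k⁻¹) * k)⁻¹ := by rw [e]; group
        _ = z0⁻¹ := by group
  · simp only [List.mem_cons, List.not_mem_nil, or_false] at h3
    rcases h3 with e | e
    · exact Or.inl (by nth_rw 1 [← e]; group)
    · refine Or.inr ?_
      calc k⁻¹ * inA c5 * k⁻¹⁻¹ = (k⁻¹ * (k * inA c5 * k⁻¹) * k)⁻¹ := by rw [e]; group
        _ = (inA c5)⁻¹ := by group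

theorem cube_dd : ∀ a b : Fin 3, (z0 ^ (a : ℕ) * inA c5 ^ (b : ℕ)) ^ 3 = 1 := by decide +kernel

namespace Hyp

variable (h : Hyp G)

/-- The given element of order three. -/
def z : G := h.psi z0
/-- The alternating group of degree five centralising `z`. -/
def f : A5 →* G := h.psi.comp inA
/-- The partner of `z`. -/
def z' : G := h.f c5
/-- An involution centralising `z` and inverting its partner. -/
def t : G := h.f t5
/-- Its image under `i`. -/
def u : G := h.psi u0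

theorem f_inj : Function.Injective h.f := h.psi_inj.comp inA_injective

theorem i_inv : h.i⁻¹ = h.i := inv_eq_of_mul_eq_one_right h.i_sq

theorem i_i (x : G) : h.i * (h.i * x * h.i) * h.i = x := by
  calc h.i * (h.i * x * h.i) * h.i = (h.i * h.i) * x * (h.i * h.i) := by group
    _ = x := by rw [h.i_sq, one_mul, mul_one]

theorem i_mul (x y : G) : h.i * (x * y) * h.i = (h.i * x * h.i) * (h.i * y * h.i) := by
  calc h.i * (x * y) * h.i = h.i * x * 1 * y * h.i := by group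
    _ = h.i * x * (h.i * h.i) * y * h.i := by rw [h.i_sq]
    _ = _ := by group

theorem i_z_eq : h.i * h.z * h.i = h.z' := h.i_z
theorem i_t_eq : h.i * h.t * h.i = h.u := h.i_t

theorem i_z' : h.i * h.z' * h.i = h.z := by rw [← h.i_z_eq, h.i_i]

theorem z_f (p : A5) : h.z * h.f p = h.f p * h.z := by
  show h.psi z0 * h.psi (inA p) = h.psi (inA p) * h.psi z0
  rw [← map_mul, ← map_mul, inA_z0]

theorem u_f (p : A5) : h.u * h.f p * h.u = h.f (tauHom p) := by
  show h.psi u0 * h.psi (inA p) * h.psi u0 = h.psi (inA (tauHom p))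
  rw [← map_mul, ← map_mul, u0_inA]

theorem z_cube : h.z ^ 3 = 1 := by rw [z, ← map_pow, z0_cube, map_one]

theorem z_ne : h.z ≠ 1 := fun e =>
  (show z0 ≠ (1 : KK) by decide +kernel) (h.psi_inj (e.trans (map_one h.psi).symm))

theorem order_z : orderOf h.z = 3 :=
  haveI : Fact (Nat.Prime 3) := ⟨Nat.prime_three⟩
  orderOf_eq_prime h.z_cube h.z_ne

theorem cent_cases {g : G} (hg : g * h.z = h.z * g) :
    ∃ p : A5, g = h.f p ∨ g = h.z * h.f p ∨ g = h.z⁻¹ * h.f p := by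
  obtain ⟨k, rfl⟩ := h.norm_z g (Or.inl (show g * h.z * g⁻¹ = h.z by rw [hg, mul_inv_cancel_right]))
  have hk : k * z0 = z0 * k := h.psi_inj (by rw [map_mul, map_mul]; exact hg)
  obtain ⟨p, hp⟩ := cent_z0 k hk
  refine ⟨p, ?_⟩
  rcases hp with e | e | e <;> rw [e]
  · exact Or.inl rfl
  · exact Or.inr (Or.inl (map_mul _ _ _))
  · exact Or.inr (Or.inr (by rw [map_mul, map_inv]; rfl))

/-- Elements centralising `z` of order prime to three lie in the second factor. -/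
theorem cent_cases_prime {g : G} (hg : g * h.z = h.z * g) {m : ℕ} (hm : g ^ m = 1) (h3 : ¬ 3 ∣ m) :
    ∃ p : A5, g = h.f p := by
  obtain ⟨p, hp⟩ := h.cent_cases hg
  refine ⟨p, ?_⟩
  have key : ∀ z1 : KK, z1.1.1 ^ 3 = 1 → z1.1.1 ≠ 1 → g ≠ h.psi (z1 * inA p) := by
    intro z1 hc hne e
    have h1 : (z1 * inA p) ^ m = 1 := h.psi_inj (by rw [map_pow, ← e, hm, map_one])
    have h2 : (z1.1.1 * 1) ^ m = (1 : Perm (Fin 3)) := congrArg (fun x : KK => x.1.1) h1
    rw [mul_one] at h2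
    have ho : orderOf z1.1.1 = 3 := by
      have : Fact (Nat.Prime 3) := ⟨Nat.prime_three⟩
      exact orderOf_eq_prime hc hne
    exact h3 (ho ▸ orderOf_dvd_of_pow_eq_one h2)
  rcases hp with e | e | e
  · exact e
  · exact absurd (e.trans (map_mul h.psi z0 (inA p)).symm) (key z0 r3_cube (by decide +kernel))
  · exact absurd (e.trans (by rw [map_mul, map_inv]; rfl)) (key z0⁻¹ (by decide +kernel) (by decide +kernel))

theorem dd_mem (a b : Fin 3) : dd h.psi a b ∈ h.D := by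
  rw [dd, map_mul, map_pow, map_pow]
  exact mul_mem (pow_mem h.z_mem _) (pow_mem h.z'_mem _)

theorem dd_eq (a b : Fin 3) : dd h.psi a b = h.z ^ (a : ℕ) * h.z' ^ (b : ℕ) := by
  rw [dd, map_mul, map_pow, map_pow]; rfl

variable [Finite G]

theorem mem_D {x : G} (hx : x ∈ h.D) : ∃ a b : Fin 3, x = dd h.psi a b := by
  have hbij : Function.Bijective (fun p : Fin 3 × Fin 3 => (⟨dd h.psi p.1 p.2, h.dd_mem _ _⟩ : h.D)) := by
    rw [Nat.bijective_iff_injective_and_card]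
    refine ⟨fun p q e => ?_, by simp [h.card_D]⟩
    exact dd_inj (h.psi_inj (congrArg Subtype.val e))
  obtain ⟨p, hp⟩ := hbij.2 ⟨x, hx⟩
  exact ⟨p.1, p.2, (congrArg Subtype.val hp).symm⟩

theorem D_cube {x : G} (hx : x ∈ h.D) : x ^ 3 = 1 := by
  obtain ⟨a, b, rfl⟩ := h.mem_D hx
  rw [dd, ← map_pow, cube_dd a b, map_one]

theorem psi_mem_norm {k : KK} (h1 : h.psi k * h.z * (h.psi k)⁻¹ ∈ h.D) (h2 : h.psi k * h.z' * (h.psi k)⁻¹ ∈ h.D) :
    h.psi k ∈ normalizer (h.D : Set G) := by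
  have hle : h.D.map (MulAut.conj (h.psi k)).toMonoidHom ≤ h.D := by
    rintro _ ⟨x, hx, rfl⟩
    obtain ⟨a, b, rfl⟩ := h.mem_D hx
    simp only [MulEquiv.coe_toMonoidHom, MulAut.conj_apply, h.dd_eq]
    rw [show h.psi k * (h.z ^ (a : ℕ) * h.z' ^ (b : ℕ)) * (h.psi k)⁻¹ =
      (h.psi k * h.z * (h.psi k)⁻¹) ^ (a : ℕ) * (h.psi k * h.z' * (h.psi k)⁻¹) ^ (b : ℕ) by
        rw [conj_pow, conj_pow]; group]
    exact mul_mem (pow_mem h1 _) (pow_mem h2 _)
  have heq := eq_of_le_of_card_ge hle (card_map_of_injective (MulAut.conj (h.psi k)).injective).ge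
  rw [Subgroup.mem_normalizer_iff]
  intro x
  refine ⟨fun hx => hle ⟨x, hx, rfl⟩, fun hx => ?_⟩
  obtain ⟨w, hw, e⟩ : h.psi k * x * (h.psi k)⁻¹ ∈ h.D.map (MulAut.conj (h.psi k)).toMonoidHom := heq.symm ▸ hx
  exact (MulAut.conj (h.psi k)).injective e ▸ hw

/-- A mixed element of `D` has a small centraliser. -/
theorem mixed_cent {a b : Fin 3} (ha : a ≠ 0) (hb : b ≠ 0) :
    Nat.card (centralizer ({dd h.psi a b} : Set G)) = 18 ∧
      centralizer ({dd h.psi a b} : Set G) ≤ normalizer (h.D : Set G) := by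
  obtain ⟨k, hk, hkz, hkc⟩ := mixed_norm a b ha hb
  have hkN : h.psi k ∈ normalizer (h.D : Set G) := by
    refine h.psi_mem_norm ?_ ?_
    · show h.psi k * h.psi z0 * (h.psi k)⁻¹ ∈ h.D
      rw [← map_inv, ← map_mul, ← map_mul]
      rcases hkz with e | e <;> rw [e]
      · exact h.z_mem
      · rw [map_inv]; exact inv_mem h.z_mem
    · show h.psi k * h.psi (inA c5) * (h.psi k)⁻¹ ∈ h.D
      rw [← map_inv, ← map_mul, ← map_mul]
      rcases hkc with e | e <;> rw [e]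
      · exact h.z'_mem
      · rw [map_inv]; exact inv_mem h.z'_mem
  have e : dd h.psi a b = h.psi k * (h.psi z0 * h.psi (inA c5)) * (h.psi k)⁻¹ := by
    rw [dd, ← hk, map_mul, map_mul, map_mul, map_inv]
  refine ⟨by rw [e, centralizer_card_conj, h.cent_y], fun g hg => ?_⟩
  rw [mem_centralizer_singleton_iff, e] at hg
  have hg' : (h.psi k)⁻¹ * g * h.psi k ∈ centralizer ({h.psi z0 * h.psi (inA c5)} : Set G) := by
    rw [mem_centralizer_singleton_iff]
    calc (h.psi k)⁻¹ * g * h.psi k * (h.psi z0 * h.psi (inA c5))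
        = (h.psi k)⁻¹ * (g * (h.psi k * (h.psi z0 * h.psi (inA c5)) * (h.psi k)⁻¹)) * h.psi k := by group
      _ = (h.psi k)⁻¹ * (h.psi k * (h.psi z0 * h.psi (inA c5)) * (h.psi k)⁻¹ * g) * h.psi k := by rw [hg]
      _ = _ := by group
  have := mul_mem (mul_mem hkN (h.cent_y_le hg')) (inv_mem hkN)
  simpa [mul_assoc] using this

include h in
theorem nine_dvd : 9 ∣ Nat.card G := h.card_D ▸ card_subgroup_dvd_card h.D

/-- Every element of order three is conjugate into `D`. -/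
theorem exists_conj_mem {r : G} (hr : r ^ 3 = 1) : ∃ k : G, k * r * k⁻¹ ∈ h.D := by
  have : Fact (Nat.Prime 3) := ⟨Nat.prime_three⟩
  have hp : IsPGroup 3 (zpowers r) := fun ⟨x, hx⟩ => ⟨1, Subtype.ext (by
    obtain ⟨n, rfl⟩ := mem_zpowers_iff.1 hx
    show (r ^ n) ^ (3 ^ 1) = 1
    rw [pow_one, ← zpow_natCast, ← zpow_mul, mul_comm, zpow_mul, zpow_natCast, hr, one_zpow])⟩
  obtain ⟨S, hS⟩ := hp.exists_le_sylow
  have hcard : Nat.card (S : Subgroup G) = 9 := by
    obtain ⟨n, hn⟩ := IsPGroup.iff_card.1 S.2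
    have h1 : 3 ^ 2 ∣ Nat.card (S : Subgroup G) := S.pow_dvd_card_of_pow_dvd_card h.nine_dvd
    have h2 := card_subgroup_dvd_card (S : Subgroup G)
    rw [hn] at h1 h2 ⊢
    have h1' := (Nat.pow_dvd_pow_iff_le_right (by norm_num : 1 < 3)).1 h1
    have h3 : n ≤ 2 := by
      by_contra hlt
      exact h.not_27 ((pow_dvd_pow 3 (show 3 ≤ n by omega)).trans h2)
    rw [show n = 2 by omega]; norm_num
  obtain ⟨k, hk⟩ := h.conj_D S hcard
  exact ⟨k, hk r (hS (mem_zpowers r))⟩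

/-- The class of the involutions centralising a conjugate of `z`. -/
def IsT (g : G) : Prop := IsConj (h.f a1) g

theorem isT_f {p : A5} (h2 : p * p = 1) (h1 : p ≠ 1) : h.IsT (h.f p) := by
  obtain ⟨s, hs⟩ := invol_conj p h2 h1
  exact isConj_iff.2 ⟨h.f s, by rw [← map_inv, ← map_mul, ← map_mul, hs]⟩

theorem isT_u : h.IsT h.u :=
  (h.isT_f (p := t5) (by decide +kernel) (by decide +kernel)).trans
    (isConj_iff.2 ⟨h.i, by rw [h.i_inv]; exact h.i_t_eq⟩)

theorem isT_psi {k : KK} (h2 : k * k = 1) (hs : sign k.1.1 = -1) : h.IsT (h.psi k) := by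
  obtain ⟨m, rfl⟩ := invol_odd_conj k h2 hs
  exact h.isT_u.trans (isConj_iff.2 ⟨h.psi m, by rw [u, ← map_inv, ← map_mul, ← map_mul]⟩)

theorem nine_not_dvd_cent_a1 : ¬ 9 ∣ Nat.card (centralizer ({h.f a1} : Set G)) := by
  intro h9
  have : Fact (Nat.Prime 3) := ⟨Nat.prime_three⟩
  obtain ⟨Q, hQ⟩ := Sylow.exists_subgroup_card_pow_prime 3
    (show 3 ^ 2 ∣ Nat.card (centralizer ({h.f a1} : Set G)) by simpa using h9)
  have hQ' : Nat.card (Q.map (centralizer ({h.f a1} : Set G)).subtype) = 9 := by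
    rw [card_map_of_injective Subtype.val_injective, hQ]; norm_num
  obtain ⟨k, hk⟩ := h.conj_D _ hQ'
  have hsurj : ∀ d ∈ h.D, ∃ q ∈ Q.map (centralizer ({h.f a1} : Set G)).subtype, k * q * k⁻¹ = d := by
    intro d hd
    have hle : (Q.map (centralizer ({h.f a1} : Set G)).subtype).map (MulAut.conj k).toMonoidHom ≤ h.D := by
      rintro _ ⟨q, hq, rfl⟩; exact hk q hq
    have heq := eq_of_le_of_card_ge hle (by
      rw [card_map_of_injective (MulAut.conj k).injective, hQ', h.card_D])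
    rw [← heq] at hd
    obtain ⟨q, hq, rfl⟩ := hd
    exact ⟨q, hq, rfl⟩
  set w := k * h.f a1 * k⁻¹ with hw
  have hcomm : ∀ d ∈ h.D, w * d = d * w := by
    intro d hd
    obtain ⟨q, ⟨⟨q', hq'⟩, -, rfl⟩, rfl⟩ := hsurj d hd
    have e := mem_centralizer_singleton_iff.1 hq'
    show k * h.f a1 * k⁻¹ * (k * q' * k⁻¹) = k * q' * k⁻¹ * (k * h.f a1 * k⁻¹)
    calc k * h.f a1 * k⁻¹ * (k * q' * k⁻¹) = k * (h.f a1 * q') * k⁻¹ := by group
      _ = k * (q' * h.f a1) * k⁻¹ := by rw [e]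
      _ = _ := by group
  have hwD : w ∈ h.D := h.cent_D w (hcomm _ h.z_mem) (hcomm _ h.z'_mem)
  have h3 := h.D_cube hwD
  rw [hw, conj_pow, ← map_pow] at h3
  have h4 := conj_eq_one_iff.1 h3
  rw [← map_one h.f] at h4
  exact absurd (h.f_inj h4) (by decide +kernel)

theorem i_not_isT : ¬ h.IsT h.i := by
  intro hT
  have : Fact (Nat.Prime 3) := ⟨Nat.prime_three⟩
  obtain ⟨k, hk⟩ := isConj_iff.1 hT
  set C := centralizer ({h.f a1} : Set G)
  have hzC : h.z ∈ C := mem_centralizer_singleton_iff.2 (h.z_f a1)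
  set y := h.psi z0 * h.psi (inA c5) with hy
  have hiy : h.i * y = y * h.i := by
    have e : h.i * y * h.i = y := by
      rw [hy, h.i_mul]
      show (h.i * h.z * h.i) * (h.i * h.z' * h.i) = h.z * h.z'
      rw [h.i_z_eq, h.i_z']
      exact h.D_comm _ h.z'_mem _ h.z_mem
    calc h.i * y = h.i * y * h.i * h.i := by rw [mul_assoc _ h.i, h.i_sq, mul_one]
      _ = y * h.i := by rw [e]
  have hyC : k⁻¹ * y * k ∈ C := by
    rw [mem_centralizer_singleton_iff, show h.f a1 = k⁻¹ * h.i * k by rw [← hk]; group]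
    calc k⁻¹ * y * k * (k⁻¹ * h.i * k) = k⁻¹ * (y * h.i) * k := by group
      _ = k⁻¹ * (h.i * y) * k := by rw [hiy]
      _ = _ := by group
  have hy3 : y ^ 3 = 1 := h.D_cube (mul_mem h.z_mem h.z'_mem)
  have hy1 : y ≠ 1 := fun e => by
    rw [hy, ← map_mul, ← map_one h.psi] at e
    exact absurd (h.psi_inj e) (by decide +kernel)
  have hyo : orderOf (k⁻¹ * y * k) = 3 := orderOf_eq_prime
    (by have := conj_pow (i := 3) (a := k⁻¹) (b := y); rw [inv_inv] at this; rw [this, hy3]; group)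
    (fun e => hy1 (by have e' := congrArg (fun x => k * x * k⁻¹) e; simpa [mul_assoc] using e'))
  have h9 : ¬ 9 ∣ Nat.card C := h.nine_not_dvd_cent_a1
  have hsyl : ∀ c : C, orderOf c = 3 → ∃ S : Sylow 3 C, (S : Subgroup C) = zpowers c := by
    intro c hc
    obtain ⟨S, hS⟩ := (IsPGroup.of_card (p := 3) (n := 1) (G := zpowers c)
      (by rw [Nat.card_zpowers, hc, pow_one])).exists_le_sylow
    refine ⟨S, (eq_of_le_of_card_ge hS ?_).symm⟩
    obtain ⟨n, hn⟩ := IsPGroup.iff_card.1 S.2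
    rw [Nat.card_zpowers, hc, hn]
    rcases Nat.lt_or_ge n 2 with hlt | hge
    · exact Nat.pow_le_pow_right (by norm_num : 0 < 3) (show n ≤ 1 by omega)
    · exact absurd (((pow_dvd_pow 3 hge).trans (hn ▸ card_subgroup_dvd_card (S : Subgroup C)))) (by simpa using h9)
  obtain ⟨S1, hS1⟩ := hsyl ⟨h.z, hzC⟩ (by rw [orderOf_mk]; exact h.order_z)
  obtain ⟨S2, hS2⟩ := hsyl ⟨_, hyC⟩ (by rw [orderOf_mk]; exact hyo)
  obtain ⟨m, hm⟩ := MulAction.exists_smul_eq C S1 S2
  have hmem : m * ⟨h.z, hzC⟩ * m⁻¹ ∈ (S2 : Subgroup C) := by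
    rw [← hm]; exact ⟨⟨h.z, hzC⟩, hS1 ▸ mem_zpowers _, rfl⟩
  rw [hS2] at hmem
  have hv : (m : G) * h.z * (m : G)⁻¹ ∈ zpowers (k⁻¹ * y * k) := by
    obtain ⟨n, hn⟩ := mem_zpowers_iff.1 hmem
    exact mem_zpowers_iff.2 ⟨n, by simpa using congrArg Subtype.val hn⟩
  have hcz : Nat.card (centralizer ({(m : G) * h.z * (m : G)⁻¹} : Set G)) = 180 := by
    rw [centralizer_card_conj]; exact h.card_cz
  have hcy : Nat.card (centralizer ({k⁻¹ * y * k} : Set G)) = 18 := by
    have := centralizer_card_conj k⁻¹ y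
    rw [inv_inv] at this
    rw [this, hy, h.cent_y]
  have hinv : centralizer ({(k⁻¹ * y * k)⁻¹} : Set G) = centralizer ({k⁻¹ * y * k} : Set G) := by
    ext g
    simp only [mem_centralizer_singleton_iff]
    exact ⟨fun e => Commute.inv_right_iff.1 e, fun e => Commute.inv_right e⟩
  rcases cases_pow_three (by rw [← hyo, pow_orderOf_eq_one]) hv with e | e | e
  · exact h.z_ne (conj_eq_one_iff.1 e)
  · rw [e, hcy] at hcz; omega
  · rw [e, hinv, hcy] at hcz; omega

end Hyp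

end Cfsg.Agent.A8ThreeLocal
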