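import Cfsg.Agent.A8ThreeLocal.CentT
import Cfsg.Agent.S0223
import Cfsg.Agent.Invol.SEPairs

/-!
The subgroup is the whole group.
-/

set_option autoImplicit false

namespace Cfsg.Agent.A8ThreeLocal

open Equiv Equiv.Perm Subgroup

variable {G : Type*} [Group G] [Finite G]

theorem Frame.H_top (F : Frame G) : F.H = ⊤ := by
  by_contra hne
  have : Fact (Nat.Prime 2) := ⟨Nat.prime_two⟩
  obtain ⟨t1, t2, -⟩ := T_facts
  have hto : orderOf (F.Φ tA) = 2 := orderOf_eq_prime (by rw [pow_two, ← map_mul, t1, map_one])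
    (fun e => t2 (F.inj (e.trans (map_one _).symm)))
  have hio : orderOf (F.Φ iA) = 2 := orderOf_eq_prime (by rw [pow_two, F.iA_sq])
    (fun e => y_facts.2.2.2.2.2.2.2.2.1 (F.inj (e.trans (map_one _).symm)))
  have heven : Even (Nat.card F.H) := by
    rw [even_iff_two_dvd, ← hto]
    have := _root_.orderOf_dvd_natCard (⟨F.Φ tA, F.mem_H tA⟩ : F.H)
    rwa [orderOf_mk] at this
  have hinv : ∀ g ∈ F.H, orderOf g = 2 → ∃ m : A8, F.Φ m = g ∧ m * m = 1 ∧ m ≠ 1 := by
    rintro _ ⟨m, rfl⟩ hg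
    rw [orderOf_injective F.Φ F.inj] at hg
    exact ⟨m, rfl, by rw [← pow_two, ← hg, pow_orderOf_eq_one],
      fun e => by rw [e, orderOf_one] at hg; omega⟩
  have hse : Cfsg.IsStronglyEmbedded F.H := (Cfsg.Agent.S0223.result F.H hne heven).2
    ⟨fun g hgH hg2 => by
      obtain ⟨m, rfl, h2, h1⟩ := hinv g hgH hg2
      by_cases h4 : Sup4 m
      · have hc : IsConj tA m := (invol_class m h2 h1).resolve_right fun e => F.long_not_isT
          (((F.isT_iff m h2 h1).2 h4).trans (F.Φ.map_isConj e).symm)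
        obtain ⟨c, rfl⟩ := isConj_iff.1 hc
        intro x hx
        rw [mem_centralizer_singleton_iff, map_mul, map_mul, map_inv] at hx
        have hx' : (F.Φ c)⁻¹ * x * F.Φ c ∈ centralizer ({F.Φ tA} : Set G) := by
          rw [mem_centralizer_singleton_iff]
          calc (F.Φ c)⁻¹ * x * F.Φ c * F.Φ tA = (F.Φ c)⁻¹ * (x * (F.Φ c * F.Φ tA * (F.Φ c)⁻¹)) * F.Φ c := by group
            _ = (F.Φ c)⁻¹ * (F.Φ c * F.Φ tA * (F.Φ c)⁻¹ * x) * F.Φ c := by rw [hx]
            _ = _ := by group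
        have := mul_mem (mul_mem (F.mem_H c) (F.cent_tA_le hx')) (inv_mem (F.mem_H c))
        simpa [mul_assoc] using this
      · exact F.cent_long_le m h2 h1 h4,
    fun g hgH g' hg'H hg2 hg'2 hconj => by
      obtain ⟨m, rfl, h2, h1⟩ := hinv g hgH hg2
      obtain ⟨m', rfl, h2', h1'⟩ := hinv g' hg'H hg'2
      have hmm : IsConj m m' := by
        rcases invol_class m h2 h1 with e | e <;> rcases invol_class m' h2' h1' with e' | e'
        · exact e.symm.trans e'
        · exact absurd (show F.h.IsT (F.Φ iA) by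
            rw [Hyp.IsT, ← F.Φ_tA]
            exact ((F.Φ.map_isConj e).trans hconj).trans (F.Φ.map_isConj e').symm) F.long_not_isT
        · exact absurd (show F.h.IsT (F.Φ iA) by
            rw [Hyp.IsT, ← F.Φ_tA]
            exact ((F.Φ.map_isConj e').trans hconj.symm).trans (F.Φ.map_isConj e).symm) F.long_not_isT
        · exact e.symm.trans e'
      obtain ⟨c, hc⟩ := isConj_iff.1 hmm
      exact ⟨F.Φ c, F.mem_H c, by rw [← map_inv, ← map_mul, ← map_mul, hc]⟩⟩
  have h := Cfsg.Agent.Invol.se_isConj_all hse hto hio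
  exact F.long_not_isT (by rw [Hyp.IsT, ← F.Φ_tA]; exact h)

theorem Hyp.nonempty_iso (h : Hyp G) : Nonempty (G ≃* A8) := by
  obtain ⟨F⟩ := h.exists_frame
  exact ⟨(MulEquiv.ofBijective F.Φ ⟨F.inj, MonoidHom.range_eq_top.1 F.H_top⟩).symm⟩

end Cfsg.Agent.A8ThreeLocal
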