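import Cfsg.Agent.A8ThreeLocal.Model

/-!
The local subgroups lying inside the subgroup isomorphic to the alternating group of degree eight.
-/

set_option autoImplicit false
set_option synthInstance.maxSize 2000
set_option synthInstance.maxHeartbeats 400000

namespace Cfsg.Agent.A8ThreeLocal

open Equiv Equiv.Perm Subgroup

/-- The data together with the embedding of the alternating group of degree eight. -/
structure Frame (G : Type*) [Group G] [Finite G] where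
  h : Hyp G
  S : Split h
  Φ : A8 →* G
  inj : Function.Injective Φ
  hF : ∀ p, Φ (iF p) = h.f p
  hG : ∀ p, Φ (iG p) = S.g p

variable {G : Type*} [Group G] [Finite G]

theorem Hyp.exists_frame (h : Hyp G) : Nonempty (Frame G) := by
  obtain ⟨S⟩ := h.exists_split
  obtain ⟨Φ, h1, h2, h3⟩ := S.exists_embedding
  exact ⟨⟨h, S, Φ, h1, h2, h3⟩⟩

/-- An involution of the alternating group of degree eight is short or long. -/
theorem invol_class (m : A8) (h2 : m * m = 1) (h1 : m ≠ 1) : IsConj tA m ∨ IsConj iA m := by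
  have : Fact (Nat.Prime 2) := ⟨Nat.prime_two⟩
  have ho : orderOf (m : Perm (Fin 8)) = 2 := orderOf_eq_prime
    (by rw [pow_two]; exact congrArg Subtype.val h2) (fun e => h1 (Subtype.ext e))
  obtain ⟨n, hn⟩ := cycleType_prime_order (ho ▸ Nat.prime_two : (orderOf (m : Perm (Fin 8))).Prime)
  rw [ho] at hn
  have hsum : (m : Perm (Fin 8)).support.card = 2 * (n + 1) := by
    rw [← sum_cycleType, hn, Multiset.sum_replicate]; simp [mul_comm]
  have hle : (m : Perm (Fin 8)).support.card ≤ 8 := (Finset.card_le_univ _).trans (by simp)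
  have hsign := mem_alternatingGroup.1 m.2
  rw [sign_of_cycleType, hn, Multiset.sum_replicate, Multiset.card_replicate, smul_eq_mul] at hsign
  have hn' : n = 1 ∨ n = 3 := by
    rcases (show n = 0 ∨ n = 1 ∨ n = 2 ∨ n = 3 by omega) with e | e | e | e <;> subst e
    · exact absurd hsign (by decide)
    · exact Or.inl rfl
    · exact absurd hsign (by decide)
    · exact Or.inr rfl
  rcases hn' with rfl | rfl
  · left
    refine (alternatingGroup.isConj_of (isConj_iff_cycleType_eq.2 ?_) ?_)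
    · rw [hn]; decide +kernel
    · decide +kernel
  · right
    obtain ⟨c, hc⟩ := isConj_iff.1 (isConj_iff_cycleType_eq.2 (hn.trans (by decide +kernel) :
      (m : Perm (Fin 8)).cycleType = (iA : Perm (Fin 8)).cycleType)).symm
    rcases Int.units_eq_one_or (sign c) with e | e
    · exact isConj_iff.2 ⟨⟨c, mem_alternatingGroup.2 e⟩, Subtype.ext hc⟩
    · refine isConj_iff.2 ⟨⟨c * swap 0 3, mem_alternatingGroup.2 ?_⟩, Subtype.ext ?_⟩
      · rw [map_mul, e, sign_swap (by decide)]; decide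
      · show c * swap 0 3 * (iA : Perm (Fin 8)) * (c * swap 0 3)⁻¹ = (m : Perm (Fin 8))
        rw [← hc, show c * swap 0 3 * (iA : Perm (Fin 8)) * (c * swap 0 3)⁻¹ =
          c * (swap 0 3 * (iA : Perm (Fin 8)) * (swap 0 3)⁻¹) * c⁻¹ by group,
          show swap (0 : Fin 8) 3 * (iA : Perm (Fin 8)) * (swap (0 : Fin 8) 3)⁻¹ = (iA : Perm (Fin 8)) by decide +kernel]

namespace Frame

variable (F : Frame G)

/-- The subgroup in question. -/
def H : Subgroup G := F.Φ.range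

theorem mem_H (m : A8) : F.Φ m ∈ F.H := ⟨m, rfl⟩

theorem Φ_zA : F.Φ zA = F.h.z := by rw [zA, F.hG, F.S.g_c5]
theorem Φ_zB : F.Φ zB = F.h.z' := F.hF c5
theorem Φ_tA : F.Φ tA = F.h.f a1 := F.hF a1
theorem Φ_vA : F.Φ vA = F.h.f a3 := F.hF a3

theorem Φ_yA : F.Φ yA = F.h.psi z0 * F.h.psi (inA c5) := by
  rw [yA, map_mul, F.Φ_zA, F.Φ_zB]; rfl

theorem D_le : F.h.D ≤ F.H := fun x hx => by
  obtain ⟨a, b, rfl⟩ := F.h.mem_D hx
  rw [F.h.dd_eq, ← F.Φ_zA, ← F.Φ_zB]
  exact mul_mem (pow_mem (F.mem_H _) _) (pow_mem (F.mem_H _) _)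

theorem conj_i_split (x : G) : F.h.i * F.Φ iA * x * (F.h.i * F.Φ iA)⁻¹ = F.h.i * (F.Φ iA * x * F.Φ iA) * F.h.i := by
  have e : (F.Φ iA)⁻¹ = F.Φ iA := inv_eq_of_mul_eq_one_right (by
    rw [← map_mul, y_facts.2.2.2.2.2.2.2.1, map_one])
  rw [mul_inv_rev, e, F.h.i_inv]
  group

theorem q_mem : F.h.i * F.Φ iA ∈ F.h.D := by
  refine F.h.cent_D _ ?_ ?_
  · show F.h.i * F.Φ iA * F.h.z = F.h.z * (F.h.i * F.Φ iA)
    rw [← mul_inv_eq_iff_eq_mul, F.conj_i_split, ← F.Φ_zA, ← map_mul, ← map_mul, y_facts.2.2.2.2.2.1, F.Φ_zB,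
      F.h.i_z', F.Φ_zA]
  · show F.h.i * F.Φ iA * F.h.z' = F.h.z' * (F.h.i * F.Φ iA)
    rw [← mul_inv_eq_iff_eq_mul, F.conj_i_split, ← F.Φ_zB, ← map_mul, ← map_mul, y_facts.2.2.2.2.2.2.1, F.Φ_zA,
      F.h.i_z_eq, F.Φ_zB]

theorem i_mem : F.h.i ∈ F.H := by
  have h1 := mul_mem (F.D_le F.q_mem) (inv_mem (F.mem_H iA))
  rwa [mul_inv_cancel_right] at h1

theorem f_mem (p : A5) : F.h.f p ∈ F.H := F.hF p ▸ F.mem_H _
theorem z_mem : F.h.z ∈ F.H := F.Φ_zA ▸ F.mem_H _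
theorem u_mem : F.h.u ∈ F.H := by
  rw [← F.S.g_t5, ← F.hG]; exact F.mem_H _

theorem psi_mem (k : KK) : F.h.psi k ∈ F.H := by
  have key : ∀ k : KK, sign k.1.1 = 1 → F.h.psi k ∈ F.H := by
    intro k hk
    have hc : k * z0 = z0 * k := Subtype.ext (Prod.ext (even_r3 _ hk) (show k.1.2 * 1 = 1 * k.1.2 by simp))
    obtain ⟨p, e | e | e⟩ := cent_z0 k hc <;> rw [e]
    · exact F.f_mem p
    · rw [map_mul]; exact mul_mem F.z_mem (F.f_mem p)
    · rw [map_mul, map_inv]; exact mul_mem (inv_mem F.z_mem) (F.f_mem p)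
  rcases Int.units_eq_one_or (sign k.1.1) with e | e
  · exact key k e
  · have h2 := key (k * u0) (by
      show sign (k.1.1 * s3) = 1
      rw [map_mul, e]; decide)
    have h3 := mul_mem h2 (inv_mem F.u_mem)
    rw [map_mul] at h3
    rwa [Hyp.u, mul_inv_cancel_right] at h3

theorem cent_z_le : centralizer ({F.h.z} : Set G) ≤ F.H := fun g hg => by
  obtain ⟨k, rfl⟩ := F.h.norm_z g (Or.inl (mul_inv_eq_iff_eq_mul.2 (mem_centralizer_singleton_iff.1 hg)))
  exact F.psi_mem k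

theorem norm_D_le : normalizer (F.h.D : Set G) ≤ F.H := by
  intro n hn
  obtain ⟨a, b, hab⟩ := F.h.mem_D ((Subgroup.mem_normalizer_iff.1 hn F.h.z).1 F.h.z_mem)
  have hpos : a = 0 ∨ b = 0 := by
    by_contra hne
    push Not at hne
    have h18 := (F.h.mixed_cent hne.1 hne.2).1
    rw [← hab, centralizer_card_conj] at h18
    exact absurd (F.h.card_cz.symm.trans h18) (by norm_num)
  have hcube : F.h.z' ^ 3 = 1 := F.h.D_cube F.h.z'_mem
  rcases hpos with rfl | rfl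
  · have e : F.h.i * n * F.h.z * (F.h.i * n)⁻¹ = F.h.z ^ (b : ℕ) := by
      rw [mul_inv_rev, F.h.i_inv, show F.h.i * n * F.h.z * (n⁻¹ * F.h.i) = F.h.i * (n * F.h.z * n⁻¹) * F.h.i by group,
        hab, F.h.dd_eq, ← F.h.i_z']
      simp only [Fin.val_zero, pow_zero, one_mul]
      conv_rhs => rw [show F.h.i * F.h.z' * F.h.i = F.h.i * F.h.z' * F.h.i⁻¹ by rw [F.h.i_inv], conj_pow, F.h.i_inv]
    have hr : F.h.i * n ∈ F.h.psi.range := by
      refine F.h.norm_z _ ?_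
      show F.h.i * n * F.h.z * (F.h.i * n)⁻¹ = F.h.z ∨ _ = F.h.z⁻¹
      fin_cases b
      · exact absurd (conj_eq_one_iff.1 (e.trans (pow_zero _))) F.h.z_ne
      · exact Or.inl (e.trans (pow_one _))
      · exact Or.inr (e.trans (eq_inv_of_mul_eq_one_left (by
          show F.h.z ^ 2 * F.h.z = 1
          rw [← pow_succ, F.h.z_cube])))
    obtain ⟨k, hk⟩ := hr
    have h1 : F.h.i * n ∈ F.H := hk ▸ F.psi_mem k
    exact (F.H.mul_mem_cancel_left F.i_mem).1 h1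
  · have hr : n ∈ F.h.psi.range := by
      refine F.h.norm_z _ ?_
      show n * F.h.z * n⁻¹ = F.h.z ∨ n * F.h.z * n⁻¹ = F.h.z⁻¹
      rw [hab, F.h.dd_eq]
      fin_cases a
      · exact absurd (conj_eq_one_iff.1 (hab.trans (by rw [F.h.dd_eq]; simp))) F.h.z_ne
      · exact Or.inl (by simp)
      · refine Or.inr ?_
        show F.h.z ^ 2 * F.h.z' ^ 0 = F.h.z⁻¹
        rw [pow_zero, mul_one]
        exact eq_inv_of_mul_eq_one_left (by rw [← pow_succ, F.h.z_cube])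
    obtain ⟨k, hk⟩ := hr
    exact hk ▸ F.psi_mem k

theorem cent_y_card : Nat.card (centralizer ({F.Φ yA} : Set G)) = 18 := by
  rw [F.Φ_yA]; exact F.h.cent_y

theorem cent_y_le_H : centralizer ({F.Φ yA} : Set G) ≤ F.H := by
  rw [F.Φ_yA]; exact F.h.cent_y_le.trans F.norm_D_le

theorem i_form : F.h.i ∈ F.H ∧ ∃ m : A8, F.Φ m = F.h.i ∧ m * m = 1 ∧ m ≠ 1 ∧ IsConj iA m := by
  refine ⟨F.i_mem, ?_⟩
  obtain ⟨m, hm⟩ := F.i_mem
  have h2 : m * m = 1 := F.inj (by rw [map_mul, hm, F.h.i_sq, map_one])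
  have h1 : m ≠ 1 := fun e => F.h.i_ne (by rw [← hm, e, map_one])
  refine ⟨m, hm, h2, h1, ?_⟩
  rcases invol_class m h2 h1 with e | e
  · exact absurd (show F.h.IsT F.h.i by rw [← hm]; rw [Hyp.IsT, ← F.Φ_tA]; exact F.Φ.map_isConj e) F.h.i_not_isT
  · exact e

theorem long_not_isT : ¬ F.h.IsT (F.Φ iA) := fun hT => by
  obtain ⟨m, hm, -, -, hc⟩ := F.i_form.2
  exact F.h.i_not_isT (hT.trans (hm ▸ F.Φ.map_isConj hc))

theorem isT_iff (m : A8) (h2 : m * m = 1) (h1 : m ≠ 1) : F.h.IsT (F.Φ m) ↔ Sup4 m := by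
  have hc : ∀ a b : A8, IsConj a b → (a : Perm (Fin 8)).support.card = (b : Perm (Fin 8)).support.card := by
    intro a b hab
    have e := (isConj_iff_cycleType_eq.1 ((alternatingGroup (Fin 8)).subtype.map_isConj hab))
    rw [← sum_cycleType, ← sum_cycleType]
    exact congrArg Multiset.sum e
  rcases invol_class m h2 h1 with e | e
  · refine iff_of_true ?_ ?_
    · rw [Hyp.IsT, ← F.Φ_tA]; exact F.Φ.map_isConj e
    · rw [Sup4, ← hc _ _ e]; exact T_facts.2.2.2.2.2.2.2.2.1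
  · refine iff_of_false (fun hT => F.long_not_isT (hT.trans (F.Φ.map_isConj e).symm)) ?_
    rw [Sup4, ← hc _ _ e]; exact y_facts.2.2.2.2.2.2.2.2.2

theorem X_sub {x : G} (h1 : x * F.Φ tA = F.Φ tA * x) (h2 : x * F.Φ vA = F.Φ vA * x) :
    ∃ m ∈ XL, x = F.Φ m := by
  rw [F.Φ_tA] at h1
  rw [F.Φ_vA] at h2
  obtain ⟨p, q, n, hp, hq, rfl⟩ := F.S.X_eq x (F.h.mem_X.2 ⟨h1, h2⟩)
  have hw : iF p * iG q ∈ WL := by
    simp only [WL, List.mem_flatMap, List.mem_map]
    refine ⟨iF p, ?_, iG q, ?_, rfl⟩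
    · rcases hp with e | e | e | e <;> rw [e] <;> simp
    · rcases hq with e | e | e | e <;> rw [e] <;> simp
  have hmem : F.h.z ^ n ∈ zpowers F.h.z := zpow_mem (mem_zpowers _) n
  rcases cases_pow_three F.h.z_cube hmem with e | e | e
  · exact ⟨iF p * iG q, by simp only [XL, List.mem_append]; exact Or.inl (Or.inl hw),
      by rw [map_mul, F.hF, F.hG, e, mul_one]⟩
  · refine ⟨iF p * iG q * zA, ?_, by rw [map_mul, map_mul, F.hF, F.hG, F.Φ_zA, e]⟩
    simp only [XL, List.mem_append, List.mem_map]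
    exact Or.inl (Or.inr ⟨_, hw, rfl⟩)
  · refine ⟨iF p * iG q * zA⁻¹, ?_, by rw [map_mul, map_mul, map_inv, F.hF, F.hG, F.Φ_zA, e]⟩
    simp only [XL, List.mem_append, List.mem_map]
    exact Or.inr ⟨_, hw, rfl⟩

theorem X_le {x : G} (h1 : x * F.Φ tA = F.Φ tA * x) (h2 : x * F.Φ vA = F.Φ vA * x) : x ∈ F.H := by
  obtain ⟨m, -, rfl⟩ := F.X_sub h1 h2
  exact F.mem_H m

end Frame

end Cfsg.Agent.A8ThreeLocal
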