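import Cfsg.Agent.A8ThreeLocal.Facts

/-!
The centraliser of a four group in the second factor of the centraliser of `z`.
-/

set_option autoImplicit false
set_option synthInstance.maxSize 2000
set_option synthInstance.maxHeartbeats 400000

namespace Cfsg.Agent.A8ThreeLocal

open Equiv Equiv.Perm Subgroup
open scoped Pointwise

variable {G : Type*} [Group G]

theorem even_r3 : ∀ σ : Perm (Fin 3), sign σ = 1 → σ * r3 = r3 * σ := by decide +kernel

theorem klein_cube : ∀ p : A5, InV1 p → p ^ 3 = 1 → p = 1 := by decide +kernel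

theorem c5_klein : ∀ p : A5, InV1 p → InV1 (c5 * p * c5⁻¹) := by decide +kernel

theorem a1_inV1 : InV1 a1 ∧ InV1 a3 ∧ a1 * a3 = a2 := by decide +kernel

theorem klein_gen : (c5 * a1 * c5⁻¹ = a2 ∨ c5 * a1 * c5⁻¹ = a3) ∧ (c5 * a3 * c5⁻¹ = a1 ∨ c5 * a3 * c5⁻¹ = a2) := by decide +kernel

theorem orbit_V1 : ∀ p : A5, InV1 p → p ≠ 1 →
    a1 = p ∨ a1 = c5 * p * c5⁻¹ ∨ a1 = c5 * (c5 * p * c5⁻¹) * c5⁻¹ := by decide +kernel

theorem orbit_V2 : ∀ p : A5, InV2 p → p ≠ 1 →
    b1 = p ∨ b1 = c5 * p * c5⁻¹ ∨ b1 = c5 * (c5 * p * c5⁻¹) * c5⁻¹ := by decide +kernel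

theorem tau_V : ∀ p : A5, (InV1 p → InV2 (tauHom p)) ∧ (InV2 p → InV1 (tauHom p)) := by decide +kernel

theorem tau_values : tauHom c5 = c5 ∧ tauHom t5 = t5 ∧ tauHom b1 = a1 ∧ tauHom a1 = b1 := by decide +kernel

/-- The second four group as a subgroup. -/
def V2 : Subgroup A5 where
  carrier := {p | InV2 p}
  one_mem' := Or.inl rfl
  mul_mem' {a b} := by
    have : ∀ a b : A5, InV2 a → InV2 b → InV2 (a * b) := by decide +kernel
    exact this a b
  inv_mem' {a} := by
    have : ∀ a : A5, InV2 a → InV2 a⁻¹ := by decide +kernel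
    exact this a

/-- The first four group as a subgroup. -/
def V1 : Subgroup A5 where
  carrier := {p | InV1 p}
  one_mem' := Or.inl rfl
  mul_mem' {a b} := by
    have : ∀ a b : A5, InV1 a → InV1 b → InV1 (a * b) := by decide +kernel
    exact this a b
  inv_mem' {a} := by
    have : ∀ a : A5, InV1 a → InV1 a⁻¹ := by decide +kernel
    exact this a

namespace Hyp

variable (h : Hyp G)

/-- The centraliser of the four group `f V1`. -/
def X : Subgroup G := centralizer ({h.f a1, h.f a3} : Set G)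

theorem mem_X {x : G} : x ∈ h.X ↔ x * h.f a1 = h.f a1 * x ∧ x * h.f a3 = h.f a3 * x := by
  rw [X, mem_centralizer_iff]
  simp [eq_comm]

theorem z_X : h.z ∈ h.X := h.mem_X.2 ⟨h.z_f a1, h.z_f a3⟩

theorem z_inv_f (p : A5) : h.z⁻¹ * h.f p = h.f p * h.z⁻¹ := (Commute.inv_left (h.z_f p)).eq

theorem X_cent_z {x : G} (hx : x ∈ h.X) (hz : x * h.z = h.z * x) :
    ∃ p : A5, InV1 p ∧ (x = h.f p ∨ x = h.z * h.f p ∨ x = h.z⁻¹ * h.f p) := by
  obtain ⟨p, hp⟩ := h.cent_cases hz
  refine ⟨p, ?_, hp⟩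
  obtain ⟨h1, h3⟩ := h.mem_X.1 hx
  have key : ∀ q, x * h.f q = h.f q * x → h.f p * h.f q = h.f q * h.f p := by
    intro q hq
    rcases hp with e | e | e <;> rw [e] at hq
    · exact hq
    · exact mul_left_cancel (a := h.z) (by rw [← mul_assoc, hq, ← mul_assoc (h.f q), ← h.z_f q, mul_assoc])
    · exact mul_left_cancel (a := h.z⁻¹) (by rw [← mul_assoc, hq, ← mul_assoc (h.f q), ← h.z_inv_f q, mul_assoc])
  refine cent_klein p (h.f_inj ?_) (h.f_inj ?_) <;> rw [map_mul, map_mul]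
  · exact key a1 h1
  · exact key a3 h3

variable [Finite G]

theorem exists_complement : ∃ W : Subgroup G, W ≤ h.X ∧ ¬ 3 ∣ Nat.card W ∧
    (∀ x ∈ h.X, ∀ w ∈ W, x * w * x⁻¹ ∈ W) ∧
    (∀ x ∈ h.X, ∃ w ∈ W, ∃ n : ℤ, x = w * h.z ^ n) ∧
    (∀ x ∈ h.X, ∀ m : ℕ, x ^ m = 1 → ¬ 3 ∣ m → x ∈ W) := by
  have : Fact (Nat.Prime 3) := ⟨Nat.prime_three⟩
  let zX : h.X := ⟨h.z, h.z_X⟩
  have hzo : orderOf zX = 3 := by rw [orderOf_mk]; exact h.order_z
  obtain ⟨P, hP⟩ := (IsPGroup.of_card (p := 3) (n := 1) (G := zpowers zX)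
    (by rw [Nat.card_zpowers, hzo, pow_one])).exists_le_sylow
  obtain ⟨n, hn⟩ := IsPGroup.iff_card.1 P.2
  have hn2 : n ≤ 2 := by
    by_contra hlt
    exact h.not_27 ((pow_dvd_pow 3 (show 3 ≤ n by omega)).trans (hn ▸ (card_subgroup_dvd_card _).trans (card_subgroup_dvd_card h.X)))
  have hn1 : n ≤ 1 := by
    by_contra hlt
    have hn9 : Nat.card ((P : Subgroup h.X).map h.X.subtype) = 9 := by
      rw [card_map_of_injective Subtype.val_injective, hn, show n = 2 by omega]; norm_num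
    obtain ⟨k, hk⟩ := h.conj_D _ hn9
    have hsub : ∀ x ∈ (P : Subgroup h.X), x ∈ zpowers zX := by
      intro x hx
      have hc := h.D_comm _ (hk x ⟨x, hx, rfl⟩) _ (hk h.z ⟨zX, hP (mem_zpowers zX), rfl⟩)
      have hxz : (x : G) * h.z = h.z * x := by
        have e := congrArg (fun w => k⁻¹ * w * k) hc
        simpa [mul_assoc] using e
      have hx3 : (x : G) ^ 3 = 1 := by
        have e := h.D_cube (hk x ⟨x, hx, rfl⟩)
        rw [conj_pow] at e
        exact conj_eq_one_iff.1 e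
      obtain ⟨p, hp, hxp⟩ := h.X_cent_z x.2 hxz
      have hp1 : p = 1 := klein_cube p hp (h.f_inj (by
        rcases hxp with e | e | e <;> rw [e] at hx3
        · rw [map_pow, hx3, map_one]
        · rw [(show Commute _ _ from h.z_f p).mul_pow, h.z_cube, one_mul] at hx3; rw [map_pow, hx3, map_one]
        · rw [(show Commute _ _ from h.z_inv_f p).mul_pow, inv_pow, h.z_cube, inv_one, one_mul] at hx3
          rw [map_pow, hx3, map_one]))
      subst hp1
      rw [map_one, mul_one, mul_one] at hxp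
      rcases hxp with e | e | e
      · rw [show x = 1 from Subtype.ext e]; exact one_mem _
      · rw [show x = zX from Subtype.ext e]; exact mem_zpowers _
      · rw [show x = zX⁻¹ from Subtype.ext e]; exact inv_mem (mem_zpowers _)
    have := Subgroup.card_le_of_le (show (P : Subgroup h.X) ≤ zpowers zX from hsub)
    rw [hn, Nat.card_zpowers, hzo, show n = 2 by omega] at this
    norm_num at this
  have hPz : (P : Subgroup h.X) = zpowers zX := (eq_of_le_of_card_ge hP (by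
    rw [Nat.card_zpowers, hzo, hn]
    exact Nat.pow_le_pow_right (by norm_num : 0 < 3) hn1)).symm
  have hNC : normalizer ((P : Subgroup h.X) : Set h.X) ≤ centralizer ((P : Subgroup h.X) : Set h.X) := by
    intro x hx
    have hz' : x * zX * x⁻¹ ∈ zpowers zX := by
      rw [← hPz]
      exact (Subgroup.mem_normalizer_iff.1 hx zX).1 (hPz ▸ mem_zpowers zX)
    have hxz : x * zX = zX * x := by
      have hnorm : (x : G) * h.z * (x : G)⁻¹ = h.z ∨ (x : G) * h.z * (x : G)⁻¹ = h.z⁻¹ := by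
        rcases cases_pow_three (by rw [← hzo, pow_orderOf_eq_one]) hz' with e | e | e
        · exact absurd (conj_eq_one_iff.1 (congrArg Subtype.val e)) h.z_ne
        · exact Or.inl (congrArg Subtype.val e)
        · exact Or.inr (congrArg Subtype.val e)
      obtain ⟨k, hk⟩ := h.norm_z _ hnorm
      obtain ⟨h1, h3⟩ := h.mem_X.1 x.2
      have e1 : k * inA a1 = inA a1 * k := h.psi_inj (by rw [map_mul, map_mul, hk]; exact h1)
      have e3 : k * inA a3 = inA a3 * k := h.psi_inj (by rw [map_mul, map_mul, hk]; exact h3)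
      have hev := cent_klein_even _ (congrArg (fun y : KK => y.1.2) e1) (congrArg (fun y : KK => y.1.2) e3)
      have hr : k * z0 = z0 * k := by
        refine Subtype.ext (Prod.ext (even_r3 _ (by rw [mem_KK.1 k.2, hev])) ?_)
        show k.1.2 * 1 = 1 * k.1.2
        simp
      refine Subtype.ext ?_
      show (x : G) * h.z = h.z * x
      rw [← hk, z, ← map_mul, ← map_mul, hr]
    rw [mem_centralizer_iff]
    intro y hy
    rw [hPz] at hy
    obtain ⟨j, rfl⟩ := mem_zpowers_iff.1 hy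
    exact (Commute.zpow_right (show Commute x zX from hxz) j).eq.symm
  set φ := MonoidHom.transferSylow P hNC
  have hcompl := MonoidHom.ker_transferSylow_isComplement' P hNC
  refine ⟨φ.ker.map h.X.subtype, map_subtype_le _, ?_, ?_, ?_, ?_⟩
  · rw [card_map_of_injective Subtype.val_injective]
    exact MonoidHom.not_dvd_card_ker_transferSylow P hNC
  · rintro x hx _ ⟨w, hw, rfl⟩
    have hn := Subgroup.Normal.conj_mem (MonoidHom.normal_ker φ) w hw (⟨x, hx⟩ : h.X)
    exact ⟨(⟨x, hx⟩ : h.X) * w * (⟨x, hx⟩ : h.X)⁻¹, hn, by simp⟩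
  · intro x hx
    obtain ⟨⟨⟨w, hw⟩, ⟨q, hq⟩⟩, e⟩ := hcompl.2 ⟨x, hx⟩
    have hq' : q ∈ zpowers zX := hPz ▸ hq
    obtain ⟨j, rfl⟩ := mem_zpowers_iff.1 hq'
    exact ⟨w, ⟨w, hw, rfl⟩, j, by simpa [zX] using (congrArg Subtype.val e).symm⟩
  · intro x hx m hm h3
    refine ⟨⟨x, hx⟩, ?_, rfl⟩
    rw [SetLike.mem_coe, MonoidHom.mem_ker, ← orderOf_eq_one_iff]
    have d1 : orderOf (φ ⟨x, hx⟩) ∣ m := orderOf_dvd_of_pow_eq_one (by
      rw [← map_pow, show (⟨x, hx⟩ : h.X) ^ m = 1 from Subtype.ext hm, map_one])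
    have d2 : orderOf (φ ⟨x, hx⟩) ∣ 3 := by
      have := _root_.orderOf_dvd_natCard (φ ⟨x, hx⟩)
      rwa [Nat.card_congr (MulEquiv.subgroupCongr hPz).toEquiv, Nat.card_zpowers, hzo] at this
    rcases (Nat.dvd_prime Nat.prime_three).1 d2 with e | e
    · exact e
    · exact absurd (e ▸ d1) h3

theorem z'_X {x : G} (hx : x ∈ h.X) : h.z' * x * h.z'⁻¹ ∈ h.X := by
  obtain ⟨h1, h3⟩ := h.mem_X.1 hx
  have h2 : x * h.f a2 = h.f a2 * x := by
    rw [← a1_inV1.2.2, map_mul]
    exact ((show Commute x _ from h1).mul_right h3).eq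
  have key : ∀ p q : A5, x * h.f p = h.f p * x → c5 * p * c5⁻¹ = q →
      h.z' * x * h.z'⁻¹ * h.f q = h.f q * (h.z' * x * h.z'⁻¹) := by
    intro p q hp e
    rw [← e, map_mul, map_mul, map_inv]
    show h.z' * x * h.z'⁻¹ * (h.z' * h.f p * h.z'⁻¹) = h.z' * h.f p * h.z'⁻¹ * (h.z' * x * h.z'⁻¹)
    calc h.z' * x * h.z'⁻¹ * (h.z' * h.f p * h.z'⁻¹) = h.z' * (x * h.f p) * h.z'⁻¹ := by group
      _ = h.z' * (h.f p * x) * h.z'⁻¹ := by rw [hp]
      _ = _ := by group
  have hpre : ∀ q : A5, InV1 q → ∃ p, InV1 p ∧ c5 * p * c5⁻¹ = q := fun q hq =>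
    ⟨c5 * (c5 * q * c5⁻¹) * c5⁻¹, c5_klein _ (c5_klein _ hq), by
      have e : c5 * c5 * c5 = 1 := by decide +kernel
      calc c5 * (c5 * (c5 * q * c5⁻¹) * c5⁻¹) * c5⁻¹ = (c5 * c5 * c5) * q * (c5 * c5 * c5)⁻¹ := by group
        _ = q := by rw [e]; simp⟩
  have hall : ∀ p, InV1 p → x * h.f p = h.f p * x := by
    rintro p (rfl | rfl | rfl | rfl)
    · simp
    · exact h1
    · exact h2
    · exact h3
  refine h.mem_X.2 ⟨?_, ?_⟩
  · obtain ⟨p, hp, e⟩ := hpre a1 a1_inV1.1; exact key p _ (hall p hp) e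
  · obtain ⟨p, hp, e⟩ := hpre a3 a1_inV1.2.1; exact key p _ (hall p hp) e

theorem D_not_cyclic : ¬ IsCyclic h.D := by
  intro hc
  obtain ⟨g, hg⟩ := IsCyclic.exists_ofOrder_eq_natCard (α := h.D)
  have h3 : orderOf g ∣ 3 := orderOf_dvd_of_pow_eq_one (Subtype.ext (h.D_cube g.2))
  rw [hg, h.card_D] at h3
  norm_num at h3

/-- The centraliser of `f V1`, split by the image of a four group of the other factor. -/
theorem klein_split : (∀ x ∈ h.X, x * h.z = h.z * x) ∨
    ∃ g : A5 →* G, Function.Injective g ∧ g c5 = h.z ∧ g t5 = h.u ∧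
      (∀ p, g p * h.z' = h.z' * g p) ∧ (∀ p, h.t * g p * h.t = g (tauHom p)) ∧
      (∀ p q, InV1 p → InV2 q → h.f p * g q = g q * h.f p) ∧
      (∀ x ∈ h.X, ∃ p q : A5, ∃ n : ℤ, InV1 p ∧ InV2 q ∧ x = h.f p * g q * h.z ^ n) ∧
      ((∀ p, g p = h.i * h.f p * h.i) ∨ ∀ p, g p = h.i * h.f (tauHom p) * h.i) := by
  classical
  obtain ⟨W, hWX, hW3, hWn, hWz, hWm⟩ := h.exists_complement
  have hWz' : ∀ w ∈ W, h.z' * w * h.z'⁻¹ ∈ W := fun w hw =>
    hWm _ (h.z'_X (hWX hw)) (Nat.card W) (by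
      rw [conj_pow]
      have : w ^ Nat.card W = 1 := congrArg Subtype.val (pow_card_eq_one' (x := (⟨w, hw⟩ : W)))
      rw [this, mul_one, mul_inv_cancel]) hW3
  have hDW : h.D ≤ normalizer (W : Set G) := by
    have gen : ∀ d : G, (∀ w ∈ W, d * w * d⁻¹ ∈ W) → d ∈ normalizer (W : Set G) := by
      intro d hd
      have hle : W.map (MulAut.conj d).toMonoidHom ≤ W := by rintro _ ⟨w, hw, rfl⟩; exact hd w hw
      have heq := eq_of_le_of_card_ge hle (card_map_of_injective (MulAut.conj d).injective).ge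
      rw [Subgroup.mem_normalizer_iff]
      intro x
      refine ⟨hd x, fun hx => ?_⟩
      obtain ⟨w, hw, e⟩ : d * x * d⁻¹ ∈ W.map (MulAut.conj d).toMonoidHom := heq.symm ▸ hx
      exact (MulAut.conj d).injective e ▸ hw
    intro d hd
    obtain ⟨a, b, rfl⟩ := h.mem_D hd
    rw [h.dd_eq]
    exact mul_mem (pow_mem (gen _ (hWn _ h.z_X)) _) (pow_mem (gen _ hWz') _)
  let B : Subgroup A5 := W.comap ((MulAut.conj h.i).toMonoidHom.comp h.f)
  have hBmem : ∀ p, p ∈ B ↔ h.i * h.f p * h.i ∈ W := fun p => by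
    show h.i * h.f p * h.i⁻¹ ∈ W ↔ _
    rw [h.i_inv]
  have hBc : ∀ p ∈ B, c5 * p * c5⁻¹ ∈ B := by
    intro p hp
    rw [hBmem] at hp ⊢
    have e := hWn _ h.z_X _ hp
    convert e using 1
    rw [map_mul, map_mul, map_inv]
    show h.i * (h.z' * h.f p * h.z'⁻¹) * h.i = h.z * (h.i * h.f p * h.i) * h.z⁻¹
    rw [← h.i_z', mul_inv_rev, mul_inv_rev, h.i_inv]
    calc h.i * (h.z' * h.f p * h.z'⁻¹) * h.i = h.i * h.z' * 1 * h.f p * 1 * h.z'⁻¹ * h.i := by group
      _ = h.i * h.z' * (h.i * h.i) * h.f p * (h.i * h.i) * h.z'⁻¹ * h.i := by rw [h.i_sq]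
      _ = _ := by group
  have hB3 : ∀ p ∈ B, ¬ O3 p := by
    rintro p hp ⟨h1, h3⟩
    rw [hBmem] at hp
    have : Fact (Nat.Prime 3) := ⟨Nat.prime_three⟩
    have ho : orderOf (h.i * h.f p * h.i) = 3 := by
      have e : h.i * h.f p * h.i = MulAut.conj h.i (h.f p) := by simp [h.i_inv]
      rw [e, MulEquiv.orderOf_eq, orderOf_injective h.f h.f_inj]
      exact orderOf_eq_prime h3 h1
    have hd := _root_.orderOf_dvd_natCard (⟨_, hp⟩ : W)
    rw [← orderOf_coe, ho] at hd
    exact hW3 hd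
  have hB12 : ∀ p ∈ B, InV1 p ∨ InV2 p := by
    intro p hp
    have hk := hBc p hp
    have hl := hBc _ hk
    rcases three_word p with e | e | e | e
    · exact Or.inl e
    · exact Or.inr e
    · exact absurd e (hB3 _ (mul_mem (mul_mem (mul_mem hp hk) hp) (inv_mem hk)))
    · exact absurd e (hB3 _ (mul_mem (mul_mem (mul_mem hp hk) hp) hl))
  -- generation by the centralisers of the elements of `D`
  have hgen : ∀ S : Subgroup G, (∀ p, InV1 p → h.f p ∈ S) → (∀ p ∈ B, h.i * h.f p * h.i ∈ S) → W ≤ S := by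
    intro S h1 h2
    have hcop : (Nat.card h.D).Coprime (Nat.card W) := by
      rw [h.card_D, show 9 = 3 ^ 2 by norm_num]
      exact Nat.Coprime.pow_left 2 ((Nat.prime_three.coprime_iff_not_dvd).2 hW3)
    have : IsMulCommutative h.D := ⟨⟨fun a b => Subtype.ext (h.D_comm _ a.2 _ b.2)⟩⟩
    rw [← Coprime.iSup_centralizer_eq h.D_not_cyclic hDW hcop]
    refine iSup₂_le fun d hd w hw => ?_
    obtain ⟨hdD, hd1⟩ := hd
    obtain ⟨hwW, hwd⟩ := mem_inf.1 hw
    rw [mem_centralizer_singleton_iff] at hwd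
    have hwm : w ^ Nat.card W = 1 := congrArg Subtype.val (pow_card_eq_one' (x := (⟨w, hwW⟩ : W)))
    obtain ⟨a, b, rfl⟩ := h.mem_D hdD
    have hz'c : h.z' ^ 3 = 1 := h.D_cube h.z'_mem
    by_cases hb : b = 0
    · subst hb
      have hwz : w * h.z = h.z * w := by
        fin_cases a
        · exact absurd (by simp [dd]) hd1
        · simpa [h.dd_eq] using hwd
        · have hc : Commute w (h.z ^ 2) := (by simpa [h.dd_eq] using hwd : w * h.z ^ 2 = h.z ^ 2 * w)
          have := hc.pow_right 2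
          rw [← pow_mul, pow_succ, h.z_cube, one_mul] at this
          exact this
      obtain ⟨p, hp⟩ := h.cent_cases_prime hwz hwm hW3
      obtain ⟨q, hq, hq'⟩ := h.X_cent_z (hWX hwW) hwz
      obtain ⟨e1, e3⟩ := h.mem_X.1 (hWX hwW)
      rw [hp] at e1 e3 ⊢
      rw [← map_mul, ← map_mul] at e1 e3
      exact h1 p (cent_klein p (h.f_inj e1) (h.f_inj e3))
    · by_cases ha : a = 0
      · subst ha
        have hwz : w * h.z' = h.z' * w := by
          fin_cases b
          · exact absurd rfl hb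
          · simpa [h.dd_eq] using hwd
          · have hc : Commute w (h.z' ^ 2) := (by simpa [h.dd_eq] using hwd : w * h.z' ^ 2 = h.z' ^ 2 * w)
            have := hc.pow_right 2
            rw [← pow_mul, pow_succ, hz'c, one_mul] at this
            exact this
        have hwz2 : (h.i * w * h.i) * h.z = h.z * (h.i * w * h.i) := by
          rw [← h.i_z', ← h.i_mul, ← h.i_mul, hwz]
        have hm2 : (h.i * w * h.i) ^ Nat.card W = 1 := by
          have e : h.i * w * h.i = MulAut.conj h.i w := by simp [h.i_inv]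
          rw [e, ← map_pow, hwm, map_one]
        obtain ⟨p, hp⟩ := h.cent_cases_prime hwz2 hm2 hW3
        have e : w = h.i * h.f p * h.i := by rw [← hp, h.i_i]
        rw [e]
        exact h2 p ((hBmem p).2 (e ▸ hwW))
      · have hwN : w ∈ normalizer (h.D : Set G) := (h.mixed_cent ha hb).2 (mem_centralizer_singleton_iff.2 hwd)
        have key : ∀ d ∈ h.D, w * d = d * w := by
          intro d hd
          have m1 : w * d * w⁻¹ * d⁻¹ ∈ h.D := mul_mem ((Subgroup.mem_normalizer_iff.1 hwN d).1 hd) (inv_mem hd)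
          have m2 : w * d * w⁻¹ * d⁻¹ ∈ W := by
            have := mul_mem hwW ((Subgroup.mem_normalizer_iff.1 (hDW hd) w⁻¹).1 (inv_mem hwW))
            simpa [mul_assoc] using this
          have e1 : w * d * w⁻¹ * d⁻¹ = 1 := by
            have d3 : orderOf (w * d * w⁻¹ * d⁻¹) ∣ 3 := orderOf_dvd_of_pow_eq_one (h.D_cube m1)
            rcases (Nat.dvd_prime Nat.prime_three).1 d3 with e | e
            · exact orderOf_eq_one_iff.1 e
            · have := _root_.orderOf_dvd_natCard (⟨_, m2⟩ : W)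
              rw [← orderOf_coe, e] at this
              exact absurd this hW3
          exact mul_inv_eq_iff_eq_mul.1 (mul_inv_eq_one.1 e1)
        have hwD : w ∈ h.D := h.cent_D w (key _ h.z_mem) (key _ h.z'_mem)
        have d3 : orderOf w ∣ 3 := orderOf_dvd_of_pow_eq_one (h.D_cube hwD)
        rcases (Nat.dvd_prime Nat.prime_three).1 d3 with e | e
        · rw [orderOf_eq_one_iff.1 e]; exact one_mem _
        · exact absurd (e ▸ orderOf_dvd_of_pow_eq_one hwm) hW3
  by_cases hBbot : ∀ p ∈ B, p = 1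
  · refine Or.inl fun x hx => ?_
    have hWc : W ≤ centralizer ({h.z} : Set G) := hgen _
      (fun p _ => mem_centralizer_singleton_iff.2 (h.z_f p).symm) fun p hp => by
        rw [hBbot p hp, map_one, mul_one, h.i_sq]; exact one_mem _
    obtain ⟨w, hw, n, rfl⟩ := hWz x hx
    exact ((show Commute w h.z from mem_centralizer_singleton_iff.1 (hWc hw)).mul_left ((Commute.refl h.z).zpow_left n)).eq
  push Not at hBbot
  obtain ⟨p0, hp0, hp01⟩ := hBbot
  refine Or.inr ?_
  -- the choice of the embedding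
  have main : ∀ θ : A5 →* A5, (∀ p, θ (θ p) = p) → θ c5 = c5 → θ t5 = t5 → (∀ p, θ (tauHom p) = tauHom (θ p)) →
      (∀ q, InV2 q → θ q ∈ B) → (∀ p ∈ B, InV2 (θ p)) →
      ∃ g : A5 →* G, (∀ p, g p = h.i * h.f (θ p) * h.i) ∧ Function.Injective g ∧ g c5 = h.z ∧ g t5 = h.u ∧
      (∀ p, g p * h.z' = h.z' * g p) ∧ (∀ p, h.t * g p * h.t = g (tauHom p)) ∧
      (∀ p q, InV1 p → InV2 q → h.f p * g q = g q * h.f p) ∧
      (∀ x ∈ h.X, ∃ p q : A5, ∃ n : ℤ, InV1 p ∧ InV2 q ∧ x = h.f p * g q * h.z ^ n) := by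
    intro θ hθ hc ht hτ hin hout
    let g : A5 →* G := (MulAut.conj h.i).toMonoidHom.comp (h.f.comp θ)
    have hg : ∀ p, g p = h.i * h.f (θ p) * h.i := fun p => by
      show h.i * h.f (θ p) * h.i⁻¹ = _
      rw [h.i_inv]
    have hinj : Function.Injective g := (MulAut.conj h.i).injective.comp
      (h.f_inj.comp (Function.LeftInverse.injective (g := θ) hθ))
    have hcomm : ∀ p q, InV1 p → InV2 q → h.f p * g q = g q * h.f p := by
      intro p q hp hq
      obtain ⟨e1, e3⟩ := h.mem_X.1 (hWX ((hBmem _).1 (hin q hq)))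
      rw [hg]
      rcases hp with rfl | rfl | rfl | rfl
      · simp
      · exact e1.symm
      · rw [← a1_inV1.2.2, map_mul]
        exact ((show Commute _ _ from e1.symm).mul_left e3.symm).eq
      · exact e3.symm
    refine ⟨g, hg, hinj, by rw [hg, hc]; exact h.i_z', by rw [hg, ht]; exact h.i_t_eq, ?_, ?_, hcomm, ?_⟩
    · intro p
      rw [hg, ← h.i_z_eq, ← h.i_mul, ← h.i_mul, h.z_f]
    · intro p
      have e : h.i * h.u * h.i = h.t := by rw [← h.i_t_eq, h.i_i]
      rw [hg, hg, ← e, ← h.i_mul, ← h.i_mul, h.u_f, hτ]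
    · let S1 : Subgroup G := V1.map h.f
      let S2 : Subgroup G := V2.map g
      have hS : (S1 : Set G) * (S2 : Set G) = ((S1 ⊔ S2 : Subgroup G) : Set G) := by
        refine (Subgroup.coe_mul_of_left_le_normalizer_right S1 S2 (fun s hs => ?_)).symm
        obtain ⟨p, hp, rfl⟩ := hs
        refine centralizer_le_normalizer (S2 : Set G) ?_
        rw [mem_centralizer_iff]
        rintro _ ⟨q, hq, rfl⟩
        exact (hcomm p q hp hq).symm
      intro x hx
      obtain ⟨w, hw, n, rfl⟩ := hWz x hx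
      have hwS : w ∈ (S1 ⊔ S2 : Subgroup G) := hgen (S1 ⊔ S2)
        (fun p hp => mem_sup_left (show h.f p ∈ S1 from ⟨p, hp, rfl⟩))
        (fun p hp => mem_sup_right (show h.i * h.f p * h.i ∈ S2 from ⟨θ p, hout p hp, by rw [hg, hθ]⟩)) hw
      rw [← SetLike.mem_coe, ← hS] at hwS
      obtain ⟨_, ⟨p, hp, rfl⟩, _, ⟨q, hq, rfl⟩, rfl⟩ := hwS
      exact ⟨p, q, n, hp, hq, rfl⟩
  have horb1 : ∀ p ∈ B, InV1 p → p ≠ 1 → a1 ∈ B := by
    intro p hp hv h1
    rcases orbit_V1 p hv h1 with e | e | e <;> rw [e]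
    · exact hp
    · exact hBc p hp
    · exact hBc _ (hBc p hp)
  have horb2 : ∀ p ∈ B, InV2 p → p ≠ 1 → b1 ∈ B := by
    intro p hp hv h1
    rcases orbit_V2 p hv h1 with e | e | e <;> rw [e]
    · exact hp
    · exact hBc p hp
    · exact hBc _ (hBc p hp)
  have hmixB : ∀ p ∈ B, ∀ q ∈ B, InV1 p → InV2 q → p = 1 ∨ q = 1 := by
    intro p hp q hq hp' hq'
    rcases klein_mixed p hp' q hq' with e | e | ⟨e1, e2⟩
    · exact Or.inl e
    · exact Or.inr e
    · exact absurd (hB12 _ (mul_mem hp hq)) (by tauto)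
  rcases hB12 p0 hp0 with hv | hv
  · have ha1 := horb1 p0 hp0 hv hp01
    have ha2 : c5 * a1 * c5⁻¹ ∈ B := hBc _ ha1
    have hall : ∀ p, InV1 p → p ∈ B := by
      have hdec : ∀ p, InV1 p → p = 1 ∨ p = a1 ∨ p = c5 * a1 * c5⁻¹ ∨ p = a1 * (c5 * a1 * c5⁻¹) := by decide +kernel
      intro p hp
      rcases hdec p hp with e | e | e | e <;> rw [e]
      · exact one_mem _
      · exact ha1
      · exact ha2
      · exact mul_mem ha1 ha2
    have hout : ∀ p ∈ B, InV1 p := by
      intro p hp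
      rcases hB12 p hp with e | e
      · exact e
      · rcases hmixB p0 hp0 p hp hv e with e' | e'
        · exact absurd e' hp01
        · exact Or.inl e'
    obtain ⟨g, hg, h1, h2, h3, h4, h5, h6, h7⟩ := main tauHom tauHom_sq tau_values.1 tau_values.2.1
      (fun p => rfl) (fun q hq => hall _ ((tau_V q).2 hq)) (fun p hp => (tau_V p).1 (hout p hp))
    exact ⟨g, h1, h2, h3, h4, h5, h6, h7, Or.inr hg⟩
  · have hb1 := horb2 p0 hp0 hv hp01
    have hb2 : c5 * b1 * c5⁻¹ ∈ B := hBc _ hb1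
    have hall : ∀ p, InV2 p → p ∈ B := by
      have hdec : ∀ p, InV2 p → p = 1 ∨ p = b1 ∨ p = c5 * b1 * c5⁻¹ ∨ p = b1 * (c5 * b1 * c5⁻¹) := by decide +kernel
      intro p hp
      rcases hdec p hp with e | e | e | e <;> rw [e]
      · exact one_mem _
      · exact hb1
      · exact hb2
      · exact mul_mem hb1 hb2
    have hout : ∀ p ∈ B, InV2 p := by
      intro p hp
      rcases hB12 p hp with e | e
      · rcases hmixB p hp p0 hp0 e hv with e' | e'
        · exact Or.inl e'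
        · exact absurd e' hp01
      · exact e
    obtain ⟨g, hg, h1, h2, h3, h4, h5, h6, h7⟩ := main (MonoidHom.id A5) (fun _ => rfl) rfl rfl
      (fun p => rfl) (fun q hq => hall _ hq) (fun p hp => hout p hp)
    exact ⟨g, h1, h2, h3, h4, h5, h6, h7, Or.inl hg⟩

end Hyp

end Cfsg.Agent.A8ThreeLocal
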