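import Cfsg.Agent.A8ThreeLocal.Code

/-!
Computations in the alternating group of degree eight.
-/

set_option autoImplicit false
set_option maxRecDepth 100000
set_option synthInstance.maxSize 2000
set_option synthInstance.maxHeartbeats 400000

namespace Cfsg.Agent.A8ThreeLocal

open Equiv Equiv.Perm Subgroup

/-- Four moved points. -/
def Sup4 (m : A8) : Prop := ((m : Perm (Fin 8))).support.card = 4

instance : DecidablePred Sup4 := fun m => by unfold Sup4; infer_instance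

/-- The image of `z`. -/
def zA : A8 := iG c5
/-- The image of the partner of `z`. -/
def zB : A8 := iF c5
/-- The short involution. -/
def tA : A8 := iF a1
/-- The second generator of the four group. -/
def vA : A8 := iF a3
/-- An element centralising `tA` and moving `vA` to `tA * vA`. -/
def xA : A8 := ⟨swap 0 1 * swap 5 6, mem_alternatingGroup.2 (by decide)⟩
/-- The long involution. -/
def iA : A8 := ⟨swap 0 3 * swap 1 4 * (swap 2 5 * swap 6 7), mem_alternatingGroup.2 (by decide)⟩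

/-- The elementary abelian group of order sixteen. -/
def WL : List A8 :=
  [1, iF a1, iF a2, iF a3].flatMap fun p => [1, iG b1, iG b2, iG b3].map fun q => p * q

/-- A Sylow 2-subgroup of the centraliser of `tA`, as a list. -/
def TL : List A8 := WL ++ WL.map (fun w => w * xA)

/-- The centraliser of `{tA, vA}`, as a list. -/
def XL : List A8 := WL ++ WL.map (fun w => w * zA) ++ WL.map (fun w => w * zA⁻¹)

theorem codes : WL.map enc = WLc ∧ TL.map enc = TLc ∧ XL.map enc = XLc ∧ enc (1 : A8) = idc ∧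
    enc tA = tc ∧ enc vA = vc ∧ enc xA = xc ∧ enc iA = ic := by decide +kernel

theorem WL_code : WL.map enc = WLc := codes.1
theorem TL_code : TL.map enc = TLc := codes.2.1
theorem XL_code : XL.map enc = XLc := codes.2.2.1

theorem enc_eq {m n : A8} : m = n ↔ enc m = enc n := enc_injective.eq_iff.symm

theorem comm_code {m n : A8} : m * n = n * m ↔ cmp (enc m) (enc n) = cmp (enc n) (enc m) := by
  rw [enc_eq, enc_mul, enc_mul]

theorem sup4_code {m : A8} : Sup4 m ↔ mov (enc m) = 4 := by rw [mov_enc]; rfl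

/-- The subgroup of order thirty-two. -/
def TA : Subgroup A8 where
  carrier := {m | m ∈ TL}
  one_mem' := by show (1 : A8) ∈ TL; rw [mem_iff_code TL_code, codes.2.2.2.1]; decide +kernel
  mul_mem' ha hb := mul_closed TL_code (by decide +kernel) ha hb
  inv_mem' {a} ha := by
    have h4 : ∀ c ∈ TLc, cmp c (cmp c (cmp c c)) = idc ∧ TLc.contains (cmp c (cmp c c)) = true := by decide +kernel
    show a⁻¹ ∈ TL
    obtain ⟨e, h⟩ := h4 _ ((mem_iff_code TL_code).1 ha)
    have e' : a⁻¹ = a * (a * a) := inv_eq_of_mul_eq_one_right (by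
      rw [enc_eq, enc_mul, enc_mul, enc_mul, codes.2.2.2.1]; exact e)
    rw [e', mem_iff_code TL_code, enc_mul, enc_mul]
    simpa using h

theorem TA_card : Nat.card TA = 32 := by
  have e : Nat.card TA = TL.toFinset.card := Nat.subtype_card _ (fun x => List.mem_toFinset)
  rw [e, finset_card_code TL_code]
  decide +kernel

theorem TL_prop : ∀ m ∈ TL, m * tA = tA * m ∧ m ^ 4 = 1 := by
  have key : ∀ c ∈ TLc, cmp c tc = cmp tc c ∧ cmp c (cmp c (cmp c c)) = idc := by decide +kernel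
  intro m hm
  obtain ⟨a, b⟩ := key _ ((mem_iff_code TL_code).1 hm)
  refine ⟨?_, ?_⟩
  · rw [comm_code, codes.2.2.2.2.1]; exact a
  · rw [show m ^ 4 = m * (m * (m * m)) by simp [pow_succ, mul_assoc], enc_eq, enc_mul, enc_mul, enc_mul, codes.2.2.2.1]
    exact b

theorem T_mem : tA ∈ TL ∧ vA ∈ WL ∧ tA ∈ WL := by
  rw [mem_iff_code TL_code, mem_iff_code WL_code, mem_iff_code WL_code, codes.2.2.2.2.1, codes.2.2.2.2.2.1]
  decide +kernel

theorem WL_TL : ∀ m ∈ WL, m ∈ TL := fun m hm => by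
  simp only [TL, List.mem_append]
  exact Or.inl hm

theorem T_facts : tA * tA = 1 ∧ tA ≠ 1 ∧ vA ≠ 1 ∧ vA ≠ tA ∧ vA * vA = 1 ∧
    xA * vA * xA = tA * vA ∧ xA * tA * xA = tA ∧ xA * xA = 1 ∧ Sup4 tA ∧ Sup4 vA ∧ Sup4 (tA * vA) ∧
    tA * vA = vA * tA := by
  decide +kernel

theorem X_prop : ∀ m ∈ XL, m ^ 6 = 1 ∧ m * tA = tA * m ∧ m * vA = vA * m := by
  have key : ∀ c ∈ XLc, cmp c (cmp c (cmp c (cmp c (cmp c c)))) = idc ∧ cmp c tc = cmp tc c ∧
      cmp c vc = cmp vc c := by decide +kernel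
  intro m hm
  obtain ⟨a, b, d⟩ := key _ ((mem_iff_code XL_code).1 hm)
  refine ⟨?_, ?_, ?_⟩
  · rw [show m ^ 6 = m * (m * (m * (m * (m * m)))) by simp [pow_succ, mul_assoc], enc_eq, enc_mul, enc_mul, enc_mul, enc_mul,
      enc_mul, codes.2.2.2.1]
    exact a
  · rw [comm_code, codes.2.2.2.2.1]; exact b
  · rw [comm_code, codes.2.2.2.2.2.1]; exact d

theorem X_invol : ∀ m ∈ XL, m * m = 1 → m ∈ WL := by
  have key : ∀ c ∈ XLc, cmp c c = idc → c ∈ WLc := by decide +kernel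
  intro m hm h2
  rw [mem_iff_code WL_code]
  exact key _ ((mem_iff_code XL_code).1 hm) (by rw [← enc_mul, h2, codes.2.2.2.1])

theorem W_pairs : ∀ w ∈ WL, Sup4 w → Sup4 (tA * w) → w = vA ∨ w = tA * vA := by
  have key : ∀ c ∈ WLc, mov c = 4 → mov (cmp tc c) = 4 → c = vc ∨ c = cmp tc vc := by decide +kernel
  intro w hw h1 h2
  rw [sup4_code] at h1 h2
  rw [enc_mul, codes.2.2.2.2.1] at h2
  rw [enc_eq, enc_eq (n := tA * vA), enc_mul, codes.2.2.2.2.1, codes.2.2.2.2.2.1]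
  exact key _ ((mem_iff_code WL_code).1 hw) h1 h2

theorem W_unique : ∀ e ∈ TL, e ∉ WL →
    (TL.filter fun s => s * s = 1 ∧ s * e = e * s).toFinset.card < 16 := by
  have key : ∀ c ∈ TLc, c ∉ WLc →
      (TLc.filter fun d => decide (cmp d d = idc ∧ cmp d c = cmp c d)).toFinset.card < 16 := by decide +kernel
  intro e he hw
  rw [filter_card_code TL_code _ (fun d => decide (cmp d d = idc ∧ cmp d (enc e) = cmp (enc e) d))
    (fun m => by simp only [enc_eq (m := m * m), comm_code, enc_mul, codes.2.2.2.1])]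
  exact key _ ((mem_iff_code TL_code).1 he) (fun h => hw ((mem_iff_code WL_code).2 h))

theorem W_count : (WL.filter fun s => Sup4 s ∧ Sup4 (vA * s)).toFinset.card ≤ 2 := by
  rw [filter_card_code WL_code _ (fun d => decide (mov d = 4 ∧ mov (cmp vc d) = 4))
    (fun m => by simp only [sup4_code, enc_mul, codes.2.2.2.2.2.1])]
  decide +kernel

theorem T_count : ∀ u ∈ TL, u ∉ WL → u * u = 1 → Sup4 u → Sup4 (tA * u) →
    3 ≤ (TL.filter fun s => s * s = 1 ∧ s * u = u * s ∧ Sup4 s ∧ Sup4 (u * s)).toFinset.card := by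
  have key : ∀ c ∈ TLc, c ∉ WLc → cmp c c = idc → mov c = 4 → mov (cmp tc c) = 4 →
      3 ≤ (TLc.filter fun d => decide (cmp d d = idc ∧ cmp d c = cmp c d ∧ mov d = 4 ∧ mov (cmp c d) = 4)).toFinset.card := by
    decide +kernel
  intro u hu hw h2 h4 h4'
  rw [filter_card_code TL_code _
    (fun d => decide (cmp d d = idc ∧ cmp d (enc u) = cmp (enc u) d ∧ mov d = 4 ∧ mov (cmp (enc u) d) = 4))
    (fun m => by simp only [enc_eq (m := m * m), comm_code, sup4_code, enc_mul, codes.2.2.2.1])]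
  rw [sup4_code] at h4 h4'
  rw [enc_mul, codes.2.2.2.2.1] at h4'
  exact key _ ((mem_iff_code TL_code).1 hu) (fun h => hw ((mem_iff_code WL_code).2 h))
    (by rw [← enc_mul, h2, codes.2.2.2.1]) h4 h4'

theorem X_three : ∀ m ∈ XL, m ^ 3 = 1 → m ≠ 1 →
    (iG b1 * m * (iG b1)⁻¹ * m⁻¹) ≠ 1 ∧ (iG b1 * m * (iG b1)⁻¹ * m⁻¹) ≠ tA ∧
      (iG b1 * m * (iG b1)⁻¹ * m⁻¹) ^ 2 = 1 := by
  have key : ∀ c ∈ XLc, cmp c (cmp c c) = idc → c ≠ idc →
      cmp (cmp (enc (iG b1)) c) (cmp (enc (iG b1)) (cmp c c)) ≠ idc ∧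
      cmp (cmp (enc (iG b1)) c) (cmp (enc (iG b1)) (cmp c c)) ≠ tc ∧
      cmp (cmp (cmp (enc (iG b1)) c) (cmp (enc (iG b1)) (cmp c c)))
        (cmp (cmp (enc (iG b1)) c) (cmp (enc (iG b1)) (cmp c c))) = idc := by decide +kernel
  intro m hm h3 h1
  have hb : (iG b1)⁻¹ = iG b1 := inv_eq_of_mul_eq_one_right (by decide +kernel)
  have hm3 : m⁻¹ = m * m := inv_eq_of_mul_eq_one_right (by rw [← h3]; simp [pow_succ, mul_assoc])
  have hc3 : cmp (enc m) (cmp (enc m) (enc m)) = idc := by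
    rw [← enc_mul, ← enc_mul, show m * (m * m) = m ^ 3 by simp [pow_succ, mul_assoc], h3, codes.2.2.2.1]
  obtain ⟨a, b, d⟩ := key _ ((mem_iff_code XL_code).1 hm) hc3
    (fun e => h1 (enc_injective (e.trans codes.2.2.2.1.symm)))
  have he : iG b1 * m * (iG b1)⁻¹ * m⁻¹ = (iG b1 * m) * (iG b1 * (m * m)) := by
    rw [hb, hm3]; group
  rw [he, pow_two]
  refine ⟨fun e => a ?_, fun e => b ?_, enc_injective ?_⟩
  · rw [← enc_mul, ← enc_mul, ← enc_mul, ← enc_mul, e, codes.2.2.2.1]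
  · rw [← enc_mul, ← enc_mul, ← enc_mul, ← enc_mul, e, codes.2.2.2.2.1]
  · rw [codes.2.2.2.1]
    simp only [enc_mul]
    exact d

/-- The first long involution in the centraliser of `tA`. -/
def dA1 : A8 := vA * iG b1
/-- The second one. -/
def dA2 : A8 := tA * vA * iG b2

theorem d_mem : dA1 ∈ TL ∧ dA2 ∈ TL ∧ iG b1 ∈ TL := by
  rw [mem_iff_code TL_code, mem_iff_code TL_code, mem_iff_code TL_code]
  decide +kernel

theorem d_facts : ¬ Sup4 dA1 ∧ ¬ Sup4 dA2 ∧ ¬ Sup4 (dA1 * dA2) ∧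
    dA1 * dA1 = 1 ∧ dA2 * dA2 = 1 ∧ dA1 * dA2 = dA2 * dA1 ∧ dA1 ≠ dA2 ∧ dA1 ≠ 1 ∧ dA2 ≠ 1 ∧
    dA1 ≠ tA ∧ dA2 ≠ tA ∧ dA1 * dA2 ≠ tA := by decide +kernel

/-- Moved points of `tA`. -/
abbrev Mv := {x : Fin 8 // 3 ≤ x.val ∧ x.val ≤ 6}

theorem tA_moves : ∀ x : Fin 8, (3 ≤ x.val ∧ x.val ≤ 6) ↔ (tA : Perm (Fin 8)) x ≠ x := by decide +kernel

theorem cent_Mv : ∀ p : Perm Mv, (∀ x y : Mv, (tA : Perm (Fin 8)) x.1 = y.1 → (tA : Perm (Fin 8)) (p x).1 = (p y).1) →
    p ^ 8 = 1 := by decide +kernel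

/-- A Sylow 2-subgroup of the centraliser of `iA`, as a list. -/
def SL : List A8 :=
  let u1 : A8 := ⟨swap 0 3 * swap 1 4, mem_alternatingGroup.2 (by decide)⟩
  let u2 : A8 := ⟨swap 0 3 * swap 2 5, mem_alternatingGroup.2 (by decide)⟩
  let u3 : A8 := ⟨swap 0 3 * swap 6 7, mem_alternatingGroup.2 (by decide)⟩
  let p1 : A8 := ⟨swap 0 1 * swap 3 4, mem_alternatingGroup.2 (by decide)⟩
  let p2 : A8 := ⟨swap 2 6 * swap 5 7, mem_alternatingGroup.2 (by decide)⟩
  let p3 : A8 := ⟨swap 0 2 * swap 3 5 * (swap 1 6 * swap 4 7), mem_alternatingGroup.2 (by decide)⟩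
  let base : List A8 := [1, u1, u2, u3, u1 * u2, u1 * u3, u2 * u3, u1 * u2 * u3]
  base.flatMap fun b => [1, p1, p2, p1 * p2, p3, p1 * p3, p2 * p3, p1 * p2 * p3].map fun q => b * q

theorem SL_code : SL.map enc = SLc := by decide +kernel

/-- The subgroup of order sixty-four. -/
def SA : Subgroup A8 where
  carrier := {m | m ∈ SL}
  one_mem' := by show (1 : A8) ∈ SL; rw [mem_iff_code SL_code, codes.2.2.2.1]; decide +kernel
  mul_mem' ha hb := mul_closed SL_code (by decide +kernel) ha hb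
  inv_mem' {a} ha := by
    have h4 : ∀ c ∈ SLc, cmp c (cmp c (cmp c (cmp c (cmp c (cmp c (cmp c c)))))) = idc ∧
        SLc.contains (cmp c (cmp c (cmp c (cmp c (cmp c (cmp c c)))))) = true := by decide +kernel
    show a⁻¹ ∈ SL
    obtain ⟨e, h⟩ := h4 _ ((mem_iff_code SL_code).1 ha)
    have e' : a⁻¹ = a * (a * (a * (a * (a * (a * a))))) := inv_eq_of_mul_eq_one_right (by
      simp only [enc_eq, enc_mul, codes.2.2.2.1]; exact e)
    rw [e', mem_iff_code SL_code]
    simp only [enc_mul]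
    simpa using h

theorem SA_card : Nat.card SA = 64 := by
  have e : Nat.card SA = SL.toFinset.card := Nat.subtype_card _ (fun x => List.mem_toFinset)
  rw [e, finset_card_code SL_code]
  decide +kernel

/-- A distinguished short involution. -/
def sA : A8 := ⟨swap 0 3 * swap 1 4, mem_alternatingGroup.2 (by decide)⟩
/-- Its companion. -/
def sB : A8 := ⟨swap 2 5 * swap 6 7, mem_alternatingGroup.2 (by decide)⟩
/-- The block exchange. -/
def pA : A8 := ⟨swap 0 2 * swap 3 5 * (swap 1 6 * swap 4 7), mem_alternatingGroup.2 (by decide)⟩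

theorem SL_comm : ∀ m ∈ SL, m * iA = iA * m := by
  have key : ∀ c ∈ SLc, cmp c ic = cmp ic c := by decide +kernel
  intro m hm
  rw [comm_code, codes.2.2.2.2.2.2.2]
  exact key _ ((mem_iff_code SL_code).1 hm)

theorem S_mem : sA ∈ SL ∧ pA ∈ SL ∧ iA ∈ SL := by
  rw [mem_iff_code SL_code, mem_iff_code SL_code, mem_iff_code SL_code]
  decide +kernel

theorem S_facts : Sup4 sA ∧ sA * sA = 1 ∧ pA * sB * pA⁻¹ = sA ∧ Sup4 sB := by decide +kernel

theorem S_short : ∀ s ∈ SL, Sup4 s → s * s = 1 →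
    32 ≤ (SL.filter fun m => m * s = s * m).toFinset.card → s = sA ∨ s = sB := by
  have key : ∀ c ∈ SLc, mov c = 4 → cmp c c = idc →
      32 ≤ (SLc.filter fun d => decide (cmp d c = cmp c d)).toFinset.card → c = enc sA ∨ c = enc sB := by
    decide +kernel
  intro s hs h4 h2 hc
  rw [filter_card_code SL_code _ (fun d => decide (cmp d (enc s) = cmp (enc s) d))
    (fun m => by simp only [comm_code])] at hc
  rw [sup4_code] at h4
  exact (key _ ((mem_iff_code SL_code).1 hs) h4 (by rw [← enc_mul, h2, codes.2.2.2.1]) hc).imp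
    (fun e => enc_injective e) (fun e => enc_injective e)

theorem sA_cent : (SL.filter fun m => m * sA = sA * m).toFinset.card = 32 := by
  rw [filter_card_code SL_code _ (fun d => decide (cmp d (enc sA) = cmp (enc sA) d))
    (fun m => by simp only [comm_code])]
  decide +kernel

/-- The mixed element of order three. -/
def yA : A8 := zA * zB
/-- An element inverting it inside the centraliser of `iA`. -/
def rA : A8 := ⟨swap 1 2 * swap 4 5, mem_alternatingGroup.2 (by decide)⟩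

theorem y_facts : yA * iA = iA * yA ∧ rA * iA = iA * rA ∧ rA * yA * rA⁻¹ = yA⁻¹ ∧ yA ^ 3 = 1 ∧ yA ≠ 1 ∧
    iA * zA * iA = zB ∧ iA * zB * iA = zA ∧ iA * iA = 1 ∧ iA ≠ 1 ∧ ¬ Sup4 iA := by decide +kernel

/-- The eighteen elements of the centraliser of `yA`. -/
def CY : List A8 :=
  ([0, 1, 2] : List ℕ).flatMap fun a => ([0, 1, 2] : List ℕ).flatMap fun b =>
    [zA ^ a * zB ^ b, zA ^ a * zB ^ b * iA]

theorem CY_code : CY.map enc = CYc ∧ enc yA = yc := by decide +kernel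

theorem CY_card : CY.toFinset.card = 18 := by
  rw [finset_card_code CY_code.1]; decide +kernel

theorem CY_comm : ∀ m ∈ CY, m * yA = yA * m := by
  have key : ∀ c ∈ CYc, cmp c yc = cmp yc c := by decide +kernel
  intro m hm
  rw [comm_code, CY_code.2]
  exact key _ ((mem_iff_code CY_code.1).1 hm)

theorem CY_iA : ∀ m ∈ CY, m * iA = iA * m → m ∈ [1, yA, yA⁻¹, iA, yA * iA, yA⁻¹ * iA] := by
  have hL : [1, yA, yA⁻¹, iA, yA * iA, yA⁻¹ * iA].map enc =
      [idc, yc, cmp yc yc, ic, cmp yc ic, cmp (cmp yc yc) ic] := by decide +kernel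
  have key : ∀ c ∈ CYc, cmp c ic = cmp ic c →
      c ∈ [idc, yc, cmp yc yc, ic, cmp yc ic, cmp (cmp yc yc) ic] := by decide +kernel
  intro m hm h
  rw [comm_code, codes.2.2.2.2.2.2.2] at h
  exact (mem_iff_code hL).2 (key _ ((mem_iff_code CY_code.1).1 hm) h)

/-- The commutator data. -/
def ab : A8 := sA
/-- The commutator data. -/
def ac : A8 := ⟨swap 0 3 * swap 2 5, mem_alternatingGroup.2 (by decide)⟩
/-- The commutator data. -/
def dA : A8 := ⟨swap 0 1 * swap 3 4 * (swap 2 6 * swap 5 7), mem_alternatingGroup.2 (by decide)⟩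
/-- The commutator data. -/
def hA : A8 := ⟨swap 1 3 * swap 5 6, mem_alternatingGroup.2 (by decide)⟩
/-- The commutator data. -/
def p1A : A8 := ⟨swap 0 1 * swap 3 4, mem_alternatingGroup.2 (by decide)⟩
/-- The commutator data. -/
def p2A : A8 := ⟨swap 2 6 * swap 5 7, mem_alternatingGroup.2 (by decide)⟩
/-- The commutator data. -/
def q1A : A8 := ⟨swap 0 2 * swap 3 5, mem_alternatingGroup.2 (by decide)⟩
/-- The commutator data. -/
def mA : A8 := ⟨swap 2 3 * swap 4 6, mem_alternatingGroup.2 (by decide)⟩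

theorem comm_facts : q1A * ab * q1A⁻¹ * ab⁻¹ ≠ 1 ∧
    (∃ s1 s2 : A8, s1 * iA = iA * s1 ∧ s2 * iA = iA * s2 ∧ s1 * s2 * s1⁻¹ * s2⁻¹ = ac) ∧
    (∃ s1 s2 : A8, s1 * iA = iA * s1 ∧ s2 * iA = iA * s2 ∧ s1 * s2 * s1⁻¹ * s2⁻¹ = dA) ∧
    ac * ac = 1 ∧ dA * dA = 1 ∧ hA * iA * hA⁻¹ = dA ∧
    (let r := ac * (hA * ac * hA⁻¹);
     mA * r * mA⁻¹ = yA ∨ mA * r * mA⁻¹ = yA⁻¹) := by
  refine ⟨by decide +kernel, ?_, ?_, by decide +kernel, by decide +kernel, by decide +kernel, by decide +kernel⟩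
  · exact ⟨q1A, ab, by decide +kernel⟩
  · exact ⟨⟨swap 2 6 * swap 5 7, mem_alternatingGroup.2 (by decide)⟩,
      ⟨swap 0 2 * swap 3 5 * (swap 1 6 * swap 4 7), mem_alternatingGroup.2 (by decide)⟩, by decide +kernel⟩

end Cfsg.Agent.A8ThreeLocal
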