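import Cfsg.Agent.A8ThreeLocal.Small

/-!
The normal form of the hypotheses of the 3-local characterisation of the alternating group of
degree eight.
-/

set_option autoImplicit false
set_option synthInstance.maxSize 2000
set_option synthInstance.maxHeartbeats 400000

namespace Cfsg.Agent.A8ThreeLocal

open Equiv Equiv.Perm Subgroup

/-- The pairs of permutations of degrees three and five with equal signs. -/
abbrev KK : Subgroup (Perm (Fin 3) × Perm (Fin 5)) :=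
  (((sign).comp (MonoidHom.fst (Perm (Fin 3)) (Perm (Fin 5)))) *
    ((sign).comp (MonoidHom.snd (Perm (Fin 3)) (Perm (Fin 5))))).ker

theorem mem_KK {k : Perm (Fin 3) × Perm (Fin 5)} : k ∈ KK ↔ sign k.1 = sign k.2 := by
  rw [MonoidHom.mem_ker, MonoidHom.mul_apply]
  simp only [MonoidHom.coe_comp, MonoidHom.coe_fst, MonoidHom.coe_snd, Function.comp_apply]
  rcases Int.units_eq_one_or (sign k.1) with h | h <;>
    rcases Int.units_eq_one_or (sign k.2) with h' | h' <;> rw [h, h'] <;> decide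

/-- An element of `KK`. -/
def mk' (σ : Perm (Fin 3)) (π : Perm (Fin 5)) (h : sign σ = sign π) : KK := ⟨(σ, π), mem_KK.2 h⟩

/-- The three-cycle of the first factor in `KK`. -/
def z0 : KK := mk' r3 1 (by decide)
/-- The odd involution in `KK`. -/
def u0 : KK := mk' s3 tau (by decide)

/-- The second factor. -/
def inA : A5 →* KK where
  toFun p := mk' 1 p.1 (by rw [map_one, mem_alternatingGroup.1 p.2])
  map_one' := Subtype.ext rfl
  map_mul' p q := Subtype.ext (Prod.ext (one_mul 1).symm rfl)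

theorem inA_injective : Function.Injective inA := fun _ _ h =>
  Subtype.ext (congrArg (fun k : KK => k.1.2) h)

theorem cube_five : ∀ p : Perm (Fin 5), p ^ 3 = 1 →
    (finRotate 5 * p * (finRotate 5)⁻¹ = p ∨ finRotate 5 * p * (finRotate 5)⁻¹ = p⁻¹) → p = 1 := by
  decide +kernel

theorem cube_s3 : ∀ p : Perm (Fin 3), p ^ 3 = 1 → p = 1 ∨ p = r3 ∨ p = r3⁻¹ := by decide +kernel

theorem comm_c5 : ∀ p : A5, p * c5 = c5 * p → p = 1 ∨ p = c5 ∨ p = c5⁻¹ := by decide +kernel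

/-- The centraliser of `z0` in `KK`. -/
theorem cent_z0 (k : KK) (h : k * z0 = z0 * k) :
    ∃ (p : A5), k = inA p ∨ k = z0 * inA p ∨ k = z0⁻¹ * inA p := by
  have h1 : k.1.1 * r3 = r3 * k.1.1 := congrArg (fun x : KK => x.1.1) h
  have hk := mem_KK.1 k.2
  rcases sign_three_central _ h1 with e | e | e
  · refine ⟨⟨k.1.2, mem_alternatingGroup.2 ?_⟩, Or.inl ?_⟩
    · rw [← hk, e, map_one]
    · exact Subtype.ext (Prod.ext e rfl)
  · refine ⟨⟨k.1.2, mem_alternatingGroup.2 ?_⟩, Or.inr (Or.inl ?_)⟩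
    · rw [← hk, e]; decide
    · exact Subtype.ext (Prod.ext (e.trans (mul_one r3).symm) (one_mul k.1.2).symm)
  · refine ⟨⟨k.1.2, mem_alternatingGroup.2 ?_⟩, Or.inr (Or.inr ?_)⟩
    · rw [← hk, e]; decide
    · refine Subtype.ext (Prod.ext (e.trans (mul_one r3⁻¹).symm) ?_)
      show k.1.2 = (1 : Perm (Fin 5))⁻¹ * k.1.2
      rw [inv_one, one_mul]

variable {G : Type*} [Group G]

/-- The normal form. -/
structure Hyp (G : Type*) [Group G] where
  /-- An embedding of the normaliser of `⟨z⟩`. -/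
  psi : KK →* G
  psi_inj : Function.Injective psi
  norm_z : ∀ g : G, (g * psi z0 * g⁻¹ = psi z0 ∨ g * psi z0 * g⁻¹ = (psi z0)⁻¹) → g ∈ psi.range
  /-- An involution exchanging `z` and its partner. -/
  i : G
  i_sq : i * i = 1
  i_ne : i ≠ 1
  i_z : i * psi z0 * i = psi (inA c5)
  i_t : i * psi (inA t5) * i = psi u0
  D : Subgroup G
  z_mem : psi z0 ∈ D
  z'_mem : psi (inA c5) ∈ D
  card_D : Nat.card D = 9
  D_comm : ∀ a ∈ D, ∀ b ∈ D, a * b = b * a
  cent_D : ∀ g : G, g * psi z0 = psi z0 * g → g * psi (inA c5) = psi (inA c5) * g → g ∈ D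
  conj_D : ∀ Q : Subgroup G, Nat.card Q = 9 → ∃ k : G, ∀ a, a ∈ Q → k * a * k⁻¹ ∈ D
  not_27 : ¬ 27 ∣ Nat.card G
  norm_D : Nat.card (normalizer (D : Set G)) = 72
  cent_y : Nat.card (centralizer ({psi z0 * psi (inA c5)} : Set G)) = 18
  cent_y_le : centralizer ({psi z0 * psi (inA c5)} : Set G) ≤ normalizer (D : Set G)
  card_cz : Nat.card (centralizer ({psi z0} : Set G)) = 180

/-- Coordinates on a group of order nine. -/
def dd (ψ : KK →* G) (a b : Fin 3) : G := ψ (z0 ^ (a : ℕ) * inA c5 ^ (b : ℕ))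

theorem dd_inj : Function.Injective (fun p : Fin 3 × Fin 3 => z0 ^ (p.1 : ℕ) * inA c5 ^ (p.2 : ℕ)) := by
  decide +kernel

/-- Any of the four mixed pairs is moved to `(1, 1)`. -/
theorem mixed_conj : ∀ a b : Fin 3, a ≠ 0 → b ≠ 0 → ∃ k ∈ [1, inA t5, u0, inA t5 * u0],
    k * (z0 ^ (a : ℕ) * inA c5 ^ (b : ℕ)) * k⁻¹ = z0 * inA c5 ∧ k * z0 * k⁻¹ ∈ [z0, z0⁻¹] ∧
      k * inA c5 * k⁻¹ ∈ [inA c5, (inA c5)⁻¹] := by decide +kernel

theorem pair_cases : ∀ a b a' b' : Fin 3, (a = 0 ↔ ¬ b = 0) → (a' = 0 ↔ ¬ b' = 0) →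
    (z0 ^ (a : ℕ) * inA c5 ^ (b : ℕ)) * (z0 ^ (a' : ℕ) * inA c5 ^ (b' : ℕ)) = z0 * inA c5 →
    (a = 1 ∧ b = 0 ∧ a' = 0 ∧ b' = 1) ∨ (a = 0 ∧ b = 1 ∧ a' = 1 ∧ b' = 0) := by decide +kernel

theorem centralizer_card_conj (g a : G) :
    Nat.card (centralizer ({g * a * g⁻¹} : Set G)) = Nat.card (centralizer ({a} : Set G)) := by
  have h : centralizer ({g * a * g⁻¹} : Set G) =
      (centralizer ({a} : Set G)).map (MulAut.conj g).toMonoidHom := by
    ext x
    simp only [mem_map, MulEquiv.coe_toMonoidHom, MulAut.conj_apply, mem_centralizer_singleton_iff]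
    constructor
    · intro hx
      refine ⟨g⁻¹ * x * g, ?_, by group⟩
      calc g⁻¹ * x * g * a = g⁻¹ * (x * (g * a * g⁻¹)) * g := by group
        _ = g⁻¹ * ((g * a * g⁻¹) * x) * g := by rw [hx]
        _ = a * (g⁻¹ * x * g) := by group
    · rintro ⟨w, hw, rfl⟩
      calc g * w * g⁻¹ * (g * a * g⁻¹) = g * (w * a) * g⁻¹ := by group
        _ = g * (a * w) * g⁻¹ := by rw [hw]
        _ = g * a * g⁻¹ * (g * w * g⁻¹) := by group
  rw [h, card_map_of_injective (MulAut.conj g).injective]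

theorem cases_pow_three {a g : G} (ha : a ^ 3 = 1) (hg : g ∈ zpowers a) : g = 1 ∨ g = a ∨ g = a⁻¹ := by
  obtain ⟨n, rfl⟩ := mem_zpowers_iff.1 hg
  have h3 : a ^ (3 : ℤ) = 1 := by rw [show (3 : ℤ) = ((3 : ℕ) : ℤ) by rfl, zpow_natCast, ha]
  rw [show n = n % 3 + 3 * (n / 3) from (Int.emod_add_mul_ediv n 3).symm, zpow_add, zpow_mul, h3,
    one_zpow, mul_one]
  rcases (show n % 3 = 0 ∨ n % 3 = 1 ∨ n % 3 = 2 by omega) with e | e | e <;> rw [e]
  · exact Or.inl (zpow_zero a)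
  · exact Or.inr (Or.inl (zpow_one a))
  · refine Or.inr (Or.inr (eq_inv_of_mul_eq_one_left ?_))
    rw [show (2 : ℤ) = ((2 : ℕ) : ℤ) by rfl, zpow_natCast, ← pow_succ, ha]

end Cfsg.Agent.A8ThreeLocal
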