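import Cfsg.Agent.A8ThreeLocal.Setup

/-!
The hypotheses give the normal form.
-/

set_option autoImplicit false
set_option synthInstance.maxSize 2000
set_option synthInstance.maxHeartbeats 400000
set_option maxHeartbeats 1000000

namespace Cfsg.Agent.A8ThreeLocal

open Equiv Equiv.Perm Subgroup

variable {G : Type*} [Group G]

/-- A five-cycle in `KK`. -/
def g5 : KK := mk' 1 (finRotate 5) (by decide)

theorem normal_order_three (k : KK) (h3 : k ^ 3 = 1) (h1 : k ≠ 1)
    (hn : g5 * k * g5⁻¹ = k ∨ g5 * k * g5⁻¹ = k⁻¹) : k = z0 ∨ k = z0⁻¹ := by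
  have e3 : k.1 ^ 3 = 1 := congrArg Subtype.val h3
  have hp : k.1.2 = 1 := cube_five _ (congrArg Prod.snd e3)
    (hn.imp (fun e => congrArg (fun x : KK => x.1.2) e) (fun e => congrArg (fun x : KK => x.1.2) e))
  rcases cube_s3 _ (congrArg Prod.fst e3) with e | e | e
  · exact absurd (Subtype.ext (Prod.ext e hp)) h1
  · exact Or.inl (Subtype.ext (Prod.ext e hp))
  · exact Or.inr (Subtype.ext (Prod.ext e (hp.trans inv_one.symm)))

theorem u0_z0 : u0 * z0 * u0⁻¹ = z0⁻¹ := by decide +kernel

/-- The parametrisation of `N(⟨z⟩)` with `z` at `z0`. -/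
structure Pre (z : G) where
  psi : KK →* G
  inj : Function.Injective psi
  val : psi z0 = z
  norm : ∀ g : G, (g * z * g⁻¹ = z ∨ g * z * g⁻¹ = z⁻¹) → g ∈ psi.range

theorem Pre.twist {z : G} (P : Pre z) (k : KK) (hk : k * z0 * k⁻¹ = z0) :
    ∃ P' : Pre z, ∀ x, P'.psi x = P.psi (k * x * k⁻¹) :=
  ⟨⟨P.psi.comp (MulAut.conj k).toMonoidHom, P.inj.comp (MulAut.conj k).injective,
    (congrArg P.psi hk).trans P.val, fun g hg => by
      obtain ⟨x, hx⟩ := P.norm g hg
      exact ⟨k⁻¹ * x * k, (congrArg P.psi (show k * (k⁻¹ * x * k) * k⁻¹ = x by group)).trans hx⟩⟩,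
    fun _ => rfl⟩

theorem exists_pre [Finite G] (z : G) (hz3 : z ^ 3 = 1) (hz1 : z ≠ 1)
    (eL : normalizer (zpowers z : Set G) ≃* KK) : Nonempty (Pre z) := by
  set N := normalizer (zpowers z : Set G)
  have hzN : z ∈ N := le_normalizer (mem_zpowers z)
  have hmem : ∀ g : G, (g * z * g⁻¹ = z ∨ g * z * g⁻¹ = z⁻¹) → g ∈ N := by
    intro g hg
    have hle : ∀ x ∈ zpowers z, g * x * g⁻¹ ∈ zpowers z := by
      intro x hx
      obtain ⟨n, rfl⟩ := mem_zpowers_iff.1 hx
      rw [← conj_zpow]
      rcases hg with e | e <;> rw [e]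
      · exact zpow_mem (mem_zpowers z) n
      · exact zpow_mem (inv_mem (mem_zpowers z)) n
    exact (Subgroup.mem_normalizer_iff).2 fun x => ⟨hle x, fun hx => by
      have hmap : (zpowers z).map (MulAut.conj g).toMonoidHom = zpowers z :=
        eq_of_le_of_card_ge (by rintro _ ⟨w, hw, rfl⟩; exact hle w hw)
          (card_map_of_injective (MulAut.conj g).injective).ge
      obtain ⟨w, hw, e⟩ : g * x * g⁻¹ ∈ (zpowers z).map (MulAut.conj g).toMonoidHom := hmap.symm ▸ hx
      exact (MulAut.conj g).injective e ▸ hw⟩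
  let ψ : KK →* G := N.subtype.comp eL.symm.toMonoidHom
  have hinj : Function.Injective ψ := Subtype.val_injective.comp eL.symm.injective
  have hr : ∀ g ∈ N, g ∈ ψ.range := fun g hg => ⟨eL ⟨g, hg⟩, by simp [ψ]⟩
  obtain ⟨k, hk⟩ := hr z hzN
  have hk3 : k ^ 3 = 1 := hinj (by rw [map_pow, hk, hz3, map_one])
  have hk1 : k ≠ 1 := fun e => hz1 (by rw [← hk, e, map_one])
  have hgN : ψ g5 ∈ N := (eL.symm g5).2
  have hz' : ψ g5 * z * (ψ g5)⁻¹ ∈ zpowers z := (Subgroup.mem_normalizer_iff.1 hgN z).1 (mem_zpowers z)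
  have hn : g5 * k * g5⁻¹ = k ∨ g5 * k * g5⁻¹ = k⁻¹ := by
    rcases cases_pow_three hz3 hz' with e | e | e
    · exact absurd (conj_eq_one_iff.1 e) hz1
    · exact Or.inl (hinj (by rw [map_mul, map_mul, map_inv, hk, e]))
    · exact Or.inr (hinj (by rw [map_mul, map_mul, map_inv, hk, e, map_inv, hk]))
  rcases normal_order_three k hk3 hk1 hn with e | e
  · exact ⟨⟨ψ, hinj, by rw [← e, hk], fun g hg => hr g (hmem g hg)⟩⟩
  · refine ⟨⟨ψ.comp (MulAut.conj u0).toMonoidHom, hinj.comp (MulAut.conj u0).injective, ?_, fun g hg => ?_⟩⟩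
    · show ψ (u0 * z0 * u0⁻¹) = z
      rw [u0_z0, ← e, hk]
    · obtain ⟨x, hx⟩ := hr g (hmem g hg)
      exact ⟨u0⁻¹ * x * u0, (congrArg ψ (show u0 * (u0⁻¹ * x * u0) * u0⁻¹ = x by group)).trans hx⟩

theorem inA_z0 (p : A5) : inA p * z0 = z0 * inA p :=
  Subtype.ext (Prod.ext ((one_mul r3).trans (mul_one r3).symm) ((mul_one p.1).trans (one_mul p.1).symm))

theorem z0_cube : z0 ^ 3 = 1 := by decide +kernel

theorem sign_c5_conj : (inA t5) * inA c5 * (inA t5)⁻¹ = (inA c5)⁻¹ ∧ inA t5 * z0 * (inA t5)⁻¹ = z0 ∧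
    u0 * inA c5 * u0⁻¹ = inA c5 := by decide +kernel

theorem mixed_one : z0 * inA c5 ≠ 1 ∧ z0 * inA c5 ≠ z0 := by decide +kernel

theorem u_shape (k : KK) (h2 : k * k = 1) (hz : k * z0 * k⁻¹ = z0⁻¹) (hc : k * inA c5 = inA c5 * k) :
    ∃ a : Perm (Fin 3), ∃ h : sign a = sign (1 : Perm (Fin 5)),
      mk' a 1 h * u0 * (mk' a 1 h)⁻¹ = k ∧ mk' a 1 h * z0 * (mk' a 1 h)⁻¹ = z0 := by
  obtain ⟨hs, -, a, ha, har, hconj⟩ := inverts_r3 k.1.1 (congrArg (fun x : KK => x.1.1) hz)
  have hp : k.1.2 = tau := odd_inv_c5 _ (congrArg (fun x : KK => x.1.2) h2)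
    (by rw [← mem_KK.1 k.2]; exact hs) (congrArg (fun x : KK => x.1.2) hc)
  refine ⟨a, by rw [ha, map_one], Subtype.ext (Prod.ext hconj ?_), Subtype.ext (Prod.ext ?_ ?_)⟩
  · show (1 : Perm (Fin 5)) * tau * (1 : Perm (Fin 5))⁻¹ = k.1.2
    rw [hp, inv_one, one_mul, mul_one]
  · show a * r3 * a⁻¹ = r3
    rw [har, mul_inv_cancel_right]
  · show (1 : Perm (Fin 5)) * 1 * (1 : Perm (Fin 5))⁻¹ = 1
    simp

theorem mk_fix_inA (a : Perm (Fin 3)) (h : sign a = sign (1 : Perm (Fin 5))) (p : A5) :
    mk' a 1 h * inA p * (mk' a 1 h)⁻¹ = inA p :=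
  Subtype.ext (Prod.ext (show a * 1 * a⁻¹ = 1 by simp) (show (1 : Perm (Fin 5)) * p.1 * (1 : Perm (Fin 5))⁻¹ = p.1 by simp))

theorem inA_c5_conj (s : A5) (p : A5) (hs : s * c5 * s⁻¹ = p) :
    inA s * inA c5 * (inA s)⁻¹ = inA p := by
  rw [← map_inv, ← map_mul, ← map_mul, hs]

theorem exists_hyp [Finite G] (P : Sylow 3 G) (D : Subgroup G) (hDP : D = P) (y z : G)
    (hgen : closure {y, z} = D) (hcomm : IsMulCommutative D) (hcard : Nat.card D = 9)
    (hexp : ∀ a ∈ D, a ^ 3 = 1) (hC : centralizer (D : Set G) = D)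
    (hNcard : Nat.card (normalizer (D : Set G) ⧸ D.subgroupOf (normalizer (D : Set G))) = 8)
    (hyn : (D.subgroupOf (centralizer ({y} : Set G))).Normal)
    (hycard : Nat.card (centralizer ({y} : Set G)) = 18)
    (hzcard : Nat.card (centralizer ({z} : Set G)) = 180)
    (eL : normalizer (zpowers z : Set G) ≃* KK) : Nonempty (Hyp G) := by
  classical
  have : Fact (Nat.Prime 3) := ⟨Nat.prime_three⟩
  have hyD : y ∈ D := hgen ▸ subset_closure (Set.mem_insert _ _)
  have hzD : z ∈ D := hgen ▸ subset_closure (Set.mem_insert_of_mem _ rfl)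
  have hDc : ∀ a ∈ D, ∀ b ∈ D, a * b = b * a := fun a ha b hb =>
    congrArg Subtype.val (hcomm.is_comm.comm (⟨a, ha⟩ : D) ⟨b, hb⟩)
  have hz3 : z ^ 3 = 1 := hexp z hzD
  have hz1 : z ≠ 1 := by
    rintro rfl
    have e1 : centralizer ({1} : Set G) = ⊤ := top_unique fun g _ =>
      mem_centralizer_singleton_iff.2 (by simp)
    rw [e1, card_top] at hzcard
    have h8 : Nat.card (normalizer (D : Set G) ⧸ D.subgroupOf (normalizer (D : Set G))) ∣ Nat.card G :=
      (card_quotient_dvd_card _).trans (card_subgroup_dvd_card _)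
    rw [hNcard, hzcard] at h8
    omega
  obtain ⟨P0⟩ := exists_pre z hz3 hz1 eL
  have hmix : ∀ {Q : Pre z} {d : G}, d ∈ D → ∃ p : A5, d = Q.psi (inA p) ∨ d = z * Q.psi (inA p) ∨
      d = z⁻¹ * Q.psi (inA p) := by
    intro Q d hd
    have hcd : d * z * d⁻¹ = z := by rw [hDc d hd z hzD, mul_inv_cancel_right]
    obtain ⟨k, hk⟩ := Q.norm d (Or.inl hcd)
    have hk0 : k * z0 = z0 * k := Q.inj (by rw [map_mul, map_mul, hk, Q.val]; exact hDc d hd z hzD)
    obtain ⟨p, hp⟩ := cent_z0 k hk0
    refine ⟨p, ?_⟩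
    rcases hp with e | e | e <;> rw [← hk, e]
    · exact Or.inl rfl
    · exact Or.inr (Or.inl (by rw [map_mul, Q.val]))
    · exact Or.inr (Or.inr (by rw [map_mul, map_inv, Q.val]))
  obtain ⟨d, hd, hdz⟩ : ∃ d ∈ D, d ∉ zpowers z := by
    by_contra! hle
    have := card_le_card_group (zpowers z)
    have h2 := Subgroup.card_le_of_le (show D ≤ zpowers z from hle)
    rw [Nat.card_zpowers, orderOf_eq_prime hz3 hz1, hcard] at h2
    omega
  obtain ⟨p, hp⟩ := hmix (Q := P0) hd
  have hfp : P0.psi (inA p) ∈ D ∧ p ≠ 1 := by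
    rcases hp with e | e | e
    · exact ⟨e ▸ hd, fun h1 => hdz (by rw [e, h1, map_one, map_one]; exact one_mem _)⟩
    · exact ⟨by rw [← inv_mul_cancel_left z (P0.psi (inA p)), ← e]; exact mul_mem (inv_mem hzD) hd,
        fun h1 => hdz (by rw [e, h1, map_one, map_one, mul_one]; exact mem_zpowers z)⟩
    · exact ⟨by rw [← mul_inv_cancel_left z (P0.psi (inA p)), ← e]; exact mul_mem hzD hd,
        fun h1 => hdz (by rw [e, h1, map_one, map_one, mul_one]; exact inv_mem (mem_zpowers z))⟩
  obtain ⟨s, hs⟩ := cube_conj p (inA_injective (P0.inj (by rw [map_pow, map_pow, hexp _ hfp.1, map_one, map_one]))) hfp.2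
  obtain ⟨P1, hP1⟩ := P0.twist (inA s) (by rw [inA_z0, mul_inv_cancel_right])
  have hz'D : P1.psi (inA c5) ∈ D := by rw [hP1, inA_c5_conj s p hs]; exact hfp.1
  -- coordinates
  have hdd : ∀ x ∈ D, ∃ a b : Fin 3, x = dd P1.psi a b := by
    intro x hx
    obtain ⟨q, hq⟩ := hmix (Q := P1) hx
    have hqc : q * c5 = c5 * q := by
      have hqD : P1.psi (inA q) ∈ D := by
        rcases hq with e | e | e
        · exact e ▸ hx
        · rw [← inv_mul_cancel_left z (P1.psi (inA q)), ← e]; exact mul_mem (inv_mem hzD) hx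
        · rw [← mul_inv_cancel_left z (P1.psi (inA q)), ← e]; exact mul_mem hzD hx
      exact inA_injective (P1.inj (by rw [map_mul, map_mul, map_mul, map_mul]; exact hDc _ hqD _ hz'D))
    have he : ∃ b : Fin 3, q = c5 ^ (b : ℕ) := by
      rcases comm_c5 q hqc with e | e | e
      · exact ⟨0, by rw [e]; rfl⟩
      · exact ⟨1, by rw [e]; simp⟩
      · exact ⟨2, by rw [e]; decide +kernel⟩
    obtain ⟨b, rfl⟩ := he
    rcases hq with e | e | e
    · exact ⟨0, b, by rw [e]; simp [dd]⟩
    · exact ⟨1, b, by rw [e]; simp [dd, P1.val]⟩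
    · refine ⟨2, b, by rw [e]; simp only [dd, map_mul, map_pow, P1.val]; congr 1; exact inv_eq_of_mul_eq_one_right (by rw [show (((2 : Fin 3) : ℕ)) = 2 from rfl, ← pow_succ', hz3])⟩
  have hmemD : ∀ a b, dd P1.psi a b ∈ D := fun a b => by
    simp only [dd, map_mul, map_pow, P1.val]; exact mul_mem (pow_mem hzD _) (pow_mem hz'D _)
  have hcentD : ∀ g : G, g * z = z * g → g * P1.psi (inA c5) = P1.psi (inA c5) * g → g ∈ D := by
    intro g h1 h2
    rw [← hC, mem_centralizer_iff]
    intro x hx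
    obtain ⟨a, b, rfl⟩ := hdd x hx
    simp only [dd, map_mul, map_pow, P1.val]
    exact ((Commute.pow_right h1 _).mul_right (Commute.pow_right h2 _)).eq.symm
  have hN72 : Nat.card (normalizer (D : Set G)) = 72 := by
    rw [card_eq_card_quotient_mul_card_subgroup (D.subgroupOf (normalizer (D : Set G))), hNcard,
      Nat.card_congr (subgroupOfEquivOfLe le_normalizer).toEquiv, hcard]
  have htN : ∀ k ∈ [(1 : KK), inA t5, u0, inA t5 * u0], P1.psi k ∈ normalizer (D : Set G) := by
    have key : ∀ k : KK, (∃ a b : Fin 3, k * z0 * k⁻¹ = z0 ^ (a : ℕ) * inA c5 ^ (b : ℕ)) →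
        (∃ a b : Fin 3, k * inA c5 * k⁻¹ = z0 ^ (a : ℕ) * inA c5 ^ (b : ℕ)) →
        P1.psi k ∈ normalizer (D : Set G) := by
      rintro k ⟨a, b, h1⟩ ⟨a', b', h2⟩
      have hle : D.map (MulAut.conj (P1.psi k)).toMonoidHom ≤ D := by
        rintro _ ⟨x, hx, rfl⟩
        obtain ⟨c, e, rfl⟩ := hdd x hx
        simp only [MulEquiv.coe_toMonoidHom, MulAut.conj_apply, dd]
        rw [← map_inv, ← map_mul, ← map_mul, show k * (z0 ^ (c : ℕ) * inA c5 ^ (e : ℕ)) * k⁻¹ = (k * z0 * k⁻¹) ^ (c : ℕ) * (k * inA c5 * k⁻¹) ^ (e : ℕ) by rw [conj_pow, conj_pow]; group, h1, h2, map_mul, map_pow, map_pow]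
        exact mul_mem (pow_mem (hmemD a b) _) (pow_mem (hmemD a' b') _)
      have heq := eq_of_le_of_card_ge hle (card_map_of_injective (MulAut.conj (P1.psi k)).injective).ge
      rw [Subgroup.mem_normalizer_iff]
      intro x
      refine ⟨fun hx => hle ⟨x, hx, rfl⟩, fun hx => ?_⟩
      obtain ⟨w, hw, e⟩ : P1.psi k * x * (P1.psi k)⁻¹ ∈ D.map (MulAut.conj (P1.psi k)).toMonoidHom := heq.symm ▸ hx
      exact (MulAut.conj (P1.psi k)).injective e ▸ hw
    intro k hk
    fin_cases hk <;> refine key _ ?_ ?_ <;> decide +kernel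
  -- the mixed elements
  have hmixcard : ∀ a b : Fin 3, a ≠ 0 → b ≠ 0 →
      Nat.card (centralizer ({dd P1.psi a b} : Set G)) = Nat.card (centralizer ({z * P1.psi (inA c5)} : Set G)) := by
    intro a b ha hb
    obtain ⟨k, -, hk, -, -⟩ := mixed_conj a b ha hb
    rw [← centralizer_card_conj (P1.psi k), show z * P1.psi (inA c5) = P1.psi (z0 * inA c5) by rw [map_mul, P1.val], ← hk]
    simp [dd, map_mul, map_inv]
  -- the partner of `z` has a large centraliser
  have hz'card : Nat.card (centralizer ({P1.psi (inA c5)} : Set G)) = 180 := by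
    by_contra hne
    have h2card : Nat.card (centralizer ({P1.psi (inA c5) ^ 2} : Set G)) = Nat.card (centralizer ({P1.psi (inA c5)} : Set G)) := by
      congr 2
      ext g
      simp only [mem_centralizer_singleton_iff]
      constructor
      · intro h
        have h3 : P1.psi (inA c5) ^ 3 = 1 := hexp _ hz'D
        have := Commute.pow_right h 2
        rwa [← pow_mul, pow_succ, h3, one_mul] at this
      · exact fun h => Commute.pow_right h 2
    let O : Set G := {w | ∃ g ∈ normalizer (D : Set G), g * z * g⁻¹ = w}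
    have hOcard : ∀ w ∈ O, Nat.card (centralizer ({w} : Set G)) = 180 := by
      rintro w ⟨g, -, rfl⟩; rw [centralizer_card_conj, hzcard]
    by_cases hmixO : ∃ g ∈ normalizer (D : Set G), g * z * g⁻¹ ≠ z ∧ g * z * g⁻¹ ≠ z⁻¹
    · obtain ⟨g, hg, hg1, hg2⟩ := hmixO
      obtain ⟨a, b, hab⟩ := hdd _ ((Subgroup.mem_normalizer_iff.1 hg z).1 hzD)
      have hb : b ≠ 0 := by
        rintro rfl
        fin_cases a
        · exact absurd (conj_eq_one_iff.1 (hab.trans (by simp [dd]))) hz1
        · exact hg1 (hab.trans (by simp [dd, P1.val]))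
        · exact hg2 (hab.trans (by
            simp only [dd, map_mul, map_pow, P1.val]
            simpa using (inv_eq_of_mul_eq_one_right (by rw [← pow_succ', hz3] : z * z ^ 2 = 1)).symm))
      have ha : a ≠ 0 := by
        rintro rfl
        have h180 := hOcard _ ⟨g, hg, hab⟩
        fin_cases b
        · exact hb rfl
        · exact hne (by simpa [dd] using h180)
        · exact hne (h2card ▸ (by simpa [dd, map_pow] using h180))
      -- the orbit of `z` has exactly six elements
      have hO6 : O = {z, z⁻¹} ∪ Set.range (fun p : Fin 2 × Fin 2 =>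
          dd P1.psi (p.1.succ) (p.2.succ)) := by
        apply Set.Subset.antisymm
        · rintro w ⟨g', hg', rfl⟩
          obtain ⟨a', b', hab'⟩ := hdd _ ((Subgroup.mem_normalizer_iff.1 hg' z).1 hzD)
          have h180 := hOcard _ ⟨g', hg', rfl⟩
          by_cases hb' : b' = 0
          · subst hb'
            fin_cases a'
            · exact absurd (conj_eq_one_iff.1 (hab'.trans (by simp [dd]))) hz1
            · exact Or.inl (Or.inl (hab'.trans (by simp [dd, P1.val])))
            · exact Or.inl (Or.inr (hab'.trans (by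
                simp only [dd, map_mul, map_pow, P1.val]
                simpa using (inv_eq_of_mul_eq_one_right (by rw [← pow_succ', hz3] : z * z ^ 2 = 1)).symm)))
          · by_cases ha' : a' = 0
            · subst ha'
              rw [hab'] at h180
              fin_cases b'
              · exact absurd rfl hb'
              · exact absurd (by simpa [dd] using h180) hne
              · exact absurd (h2card ▸ (by simpa [dd, map_pow] using h180)) hne
            · exact Or.inr ⟨(a'.pred ha', b'.pred hb'), by simp [hab']⟩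
        · have hOconj : ∀ k : KK, k ∈ [(1 : KK), inA t5, u0, inA t5 * u0] → ∀ w ∈ O,
              P1.psi k * w * (P1.psi k)⁻¹ ∈ O ∧ (P1.psi k)⁻¹ * w * P1.psi k ∈ O := by
            rintro k hk w ⟨g', hg', rfl⟩
            refine ⟨⟨P1.psi k * g', mul_mem (htN k hk) hg', by group⟩,
              ⟨(P1.psi k)⁻¹ * g', mul_mem (inv_mem (htN k hk)) hg', by group⟩⟩
          have hzO : z ∈ O := ⟨1, one_mem _, by simp⟩
          have hpair : ∀ a b : Fin 3, a ≠ 0 → b ≠ 0 → dd P1.psi a b ∈ O := by
            intro a' b' ha' hb'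
            obtain ⟨k, hk, h1, -⟩ := mixed_conj a b ha hb
            obtain ⟨k', hk', h1', -⟩ := mixed_conj a' b' ha' hb'
            have h11 := (hOconj k hk _ ⟨g, hg, hab⟩).1
            rw [dd, ← map_inv, ← map_mul, ← map_mul, h1] at h11
            have h12 := (hOconj k' hk' _ h11).2
            rw [← map_inv, ← map_mul, ← map_mul] at h12
            rwa [dd, show z0 ^ (a' : ℕ) * inA c5 ^ (b' : ℕ) = k'⁻¹ * (z0 * inA c5) * k' by rw [← h1']; group]
          rintro w ((rfl | rfl) | ⟨p, rfl⟩)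
          · exact hzO
          · refine ⟨P1.psi u0, htN u0 (by simp), ?_⟩
            simpa [map_mul, map_inv, P1.val] using congrArg P1.psi u0_z0
          · exact hpair _ _ (Fin.succ_ne_zero _) (Fin.succ_ne_zero _)
      let N := normalizer (D : Set G)
      letI : MulAction N G := MulAction.compHom G (MulAut.conj.comp N.subtype)
      have horb : MulAction.orbit N z = O := by
        ext w
        exact ⟨fun ⟨g', e⟩ => ⟨g'.1, g'.2, e⟩, fun ⟨g', hg', e⟩ => ⟨⟨g', hg'⟩, e⟩⟩
      have hst : D.subgroupOf N ≤ MulAction.stabilizer N z := fun g' hg' => by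
        show (g' : G) * z * (g' : G)⁻¹ = z
        rw [hDc (g' : G) (mem_subgroupOf.1 hg') z hzD, mul_inv_cancel_right]
      have hdvd := index_dvd_of_le hst
      rw [MulAction.index_stabilizer, horb, index_eq_card, hNcard, hO6] at hdvd
      have hcard6 : ({z, z⁻¹} ∪ Set.range (fun p : Fin 2 × Fin 2 =>
          dd P1.psi (p.1.succ) (p.2.succ)) : Set G).ncard = 6 := by
        have hz2 : ({z, z⁻¹} : Set G) = Set.range (fun p : Fin 2 => dd P1.psi p.succ 0) := by
          ext w
          simp only [Set.mem_insert_iff, Set.mem_singleton_iff, Set.mem_range, Fin.exists_fin_two]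
          simp [dd, P1.val, eq_comm, show z ^ 2 = z⁻¹ from eq_inv_of_mul_eq_one_left (by rw [← pow_succ, hz3])]
        have hinj : Function.Injective (fun p : Fin 3 × Fin 3 => dd P1.psi p.1 p.2) :=
          P1.inj.comp dd_inj
        have hrw : ({z, z⁻¹} ∪ Set.range (fun p : Fin 2 × Fin 2 => dd P1.psi (p.1.succ) (p.2.succ)) : Set G) =
            Set.range (fun p : Fin 2 × Fin 3 => dd P1.psi p.1.succ p.2) := by
          rw [hz2]
          ext w
          simp only [Set.mem_union, Set.mem_range, Prod.exists]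
          constructor
          · rintro (⟨a, rfl⟩ | ⟨a, b, rfl⟩)
            · exact ⟨a, 0, rfl⟩
            · exact ⟨a, b.succ, rfl⟩
          · rintro ⟨a, b, rfl⟩
            rcases Fin.eq_zero_or_eq_succ b with rfl | ⟨j, rfl⟩
            · exact Or.inl ⟨a, rfl⟩
            · exact Or.inr ⟨a, j, rfl⟩
        rw [hrw, ← Nat.card_coe_set_eq, Nat.card_range_of_injective]
        · simp
        · intro p q h
          have := hinj (a₁ := (p.1.succ, p.2)) (a₂ := (q.1.succ, q.2)) h
          simpa [Prod.ext_iff] using this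
      rw [hcard6] at hdvd
      omega
    · push Not at hmixO
      -- every element of the normaliser fixes the two lines
      have hfix : ∀ g ∈ normalizer (D : Set G), ∃ k : KK, P1.psi k = g := fun g hg =>
        P1.norm g (or_iff_not_imp_left.2 (hmixO g hg))
      have hsub : ∀ g ∈ normalizer (D : Set G), ∃ k : KK, P1.psi k = g ∧
          (k * inA c5 * k⁻¹ = inA c5 ∨ k * inA c5 * k⁻¹ = inA c5 ^ 2) := by
        intro g hg
        obtain ⟨k, rfl⟩ := hfix g hg
        refine ⟨k, rfl, ?_⟩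
        obtain ⟨a, b, hab⟩ := hdd _ ((Subgroup.mem_normalizer_iff.1 hg _).1 hz'D)
        have e : k * inA c5 * k⁻¹ = z0 ^ (a : ℕ) * inA c5 ^ (b : ℕ) :=
          P1.inj (by rw [map_mul, map_mul, map_inv]; exact hab)
        have e1 : (1 : Perm (Fin 3)) = r3 ^ (a : ℕ) * 1 ^ (b : ℕ) := by
          have := congrArg (fun x : KK => x.1.1) e
          have e' : k.1.1 * 1 * k.1.1⁻¹ = r3 ^ (a : ℕ) * 1 ^ (b : ℕ) := this
          simpa using e'
        fin_cases a
        · fin_cases b
          · exact absurd (conj_eq_one_iff.1 (e.trans (by simp))) (by decide +kernel)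
          · exact Or.inl (e.trans (by simp))
          · exact Or.inr (e.trans (by simp))
        · exact absurd e1 (by simp; decide +kernel)
        · exact absurd e1 (by simp; decide +kernel)
      let S : Type := {k : KK // k * inA c5 * k⁻¹ = inA c5 ∨ k * inA c5 * k⁻¹ = inA c5 ^ 2}
      have hle : Nat.card (normalizer (D : Set G)) ≤ Nat.card S := by
        choose F hF using hsub
        refine Nat.card_le_card_of_injective (fun g => (⟨F g.1 g.2, (hF g.1 g.2).2⟩ : S)) fun g g' h => ?_
        have h' := congrArg (fun x : S => P1.psi x.1) h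
        simp only [(hF g.1 g.2).1, (hF g'.1 g'.2).1] at h'
        exact Subtype.ext h'
      have hS : Nat.card S ≤ 36 := by
        have key : ∀ p : Perm (Fin 5), (p * c5 * p⁻¹ = (c5 : Perm (Fin 5)) ∨ p * c5 * p⁻¹ = (c5 : Perm (Fin 5)) ^ 2) →
            p ∈ (Finset.univ.filter fun p : Perm (Fin 5) =>
              p * c5 * p⁻¹ = (c5 : Perm (Fin 5)) ∨ p * c5 * p⁻¹ = (c5 : Perm (Fin 5)) ^ 2) := fun p hp => by simp [hp]
        let E : Finset (Perm (Fin 3) × Perm (Fin 5)) := Finset.univ.filter fun q =>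
          sign q.1 = sign q.2 ∧ (q.2 * c5 * q.2⁻¹ = (c5 : Perm (Fin 5)) ∨ q.2 * c5 * q.2⁻¹ = (c5 : Perm (Fin 5)) ^ 2)
        have hE : E.card = 36 := by decide +kernel
        rw [← hE, ← Nat.card_eq_finsetCard]
        refine Nat.card_le_card_of_injective (fun x : S => (⟨x.1.1, ?_⟩ : E)) fun x y h => ?_
        · simp only [E, Finset.mem_filter, Finset.mem_univ, true_and]
          exact ⟨mem_KK.1 x.1.2, x.2.imp (fun e => congrArg (fun w : KK => w.1.2) e)
            (fun e => congrArg (fun w : KK => w.1.2) e)⟩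
        · exact Subtype.ext (Subtype.ext (congrArg (fun w : E => w.1) h))
      omega
  -- `y` is mixed
  obtain ⟨ya, yb, hy⟩ := hdd y hyD
  have hymix : ya ≠ 0 ∧ yb ≠ 0 := by
    constructor
    · rintro rfl
      rw [hy] at hycard
      fin_cases yb
      · simp [dd] at hycard
        have : centralizer ({1} : Set G) = ⊤ := top_unique fun g _ => mem_centralizer_singleton_iff.2 (by simp)
        rw [this, card_top] at hycard
        have h := card_subgroup_dvd_card (centralizer ({z} : Set G))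
        rw [hzcard, hycard] at h
        omega
      · simp [dd, hz'card] at hycard
      · have e : centralizer ({P1.psi (inA c5) ^ 2} : Set G) = centralizer ({P1.psi (inA c5)} : Set G) := by
          ext g
          simp only [mem_centralizer_singleton_iff]
          exact ⟨fun h => by
            have := Commute.pow_right h 2
            rwa [← pow_mul, pow_succ, hexp _ hz'D, one_mul] at this, fun h => Commute.pow_right h 2⟩
        simp [dd, map_pow, e, hz'card] at hycard
    · rintro rfl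
      rw [hy] at hycard
      fin_cases ya
      · simp [dd] at hycard
        have : centralizer ({1} : Set G) = ⊤ := top_unique fun g _ => mem_centralizer_singleton_iff.2 (by simp)
        rw [this, card_top] at hycard
        have h := card_subgroup_dvd_card (centralizer ({z} : Set G))
        rw [hzcard, hycard] at h
        omega
      · simp [dd, P1.val, hzcard] at hycard
      · have e : centralizer ({z ^ 2} : Set G) = centralizer ({z} : Set G) := by
          ext g
          simp only [mem_centralizer_singleton_iff]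
          exact ⟨fun h => by
            have := Commute.pow_right h 2
            rwa [← pow_mul, pow_succ, hz3, one_mul] at this, fun h => Commute.pow_right h 2⟩
        simp [dd, map_pow, P1.val, e, hzcard] at hycard
  set w := z * P1.psi (inA c5)
  have hwcard : Nat.card (centralizer ({w} : Set G)) = 18 := by
    rw [← hmixcard ya yb hymix.1 hymix.2, ← hy, hycard]
  have hwN : centralizer ({w} : Set G) ≤ normalizer (D : Set G) := by
    have hDy : D ≤ centralizer ({y} : Set G) := fun a ha =>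
      mem_centralizer_singleton_iff.2 (hDc a ha y hyD)
    have hCy : centralizer ({y} : Set G) ≤ normalizer (D : Set G) := by
      intro g hg
      rw [Subgroup.mem_normalizer_iff]
      intro x
      constructor
      · intro hx
        exact hyn.conj_mem ⟨x, hDy hx⟩ hx ⟨g, hg⟩
      · intro hx
        have := hyn.conj_mem ⟨g * x * g⁻¹, hDy hx⟩ hx ⟨g⁻¹, inv_mem hg⟩
        have e : g⁻¹ * (g * x * g⁻¹) * g = x := by group
        simpa [mem_subgroupOf, e] using this
    obtain ⟨k, hk, h1, -⟩ := mixed_conj ya yb hymix.1 hymix.2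
    intro g hg
    have hky : P1.psi k * y * (P1.psi k)⁻¹ = w := by
      rw [hy, dd, ← map_inv, ← map_mul, ← map_mul, h1, map_mul, P1.val]
    have hg' : (P1.psi k)⁻¹ * g * P1.psi k ∈ centralizer ({y} : Set G) := by
      rw [mem_centralizer_singleton_iff, show y = (P1.psi k)⁻¹ * w * P1.psi k by rw [← hky]; group]
      calc (P1.psi k)⁻¹ * g * P1.psi k * ((P1.psi k)⁻¹ * w * P1.psi k) = (P1.psi k)⁻¹ * (g * w) * P1.psi k := by group
        _ = (P1.psi k)⁻¹ * (w * g) * P1.psi k := by rw [mem_centralizer_singleton_iff.1 hg]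
        _ = _ := by group
    have := mul_mem (mul_mem (htN k hk) (hCy hg')) (inv_mem (htN k hk))
    simpa [mul_assoc] using this
  -- the exchanging involution
  obtain ⟨i, hi⟩ := exists_prime_orderOf_dvd_card' (G := centralizer ({w} : Set G)) 2 (by rw [hwcard]; norm_num)
  have hi2 : (i : G) * i = 1 := by
    rw [← pow_two, ← hi, ← orderOf_coe, pow_orderOf_eq_one]
  have hi1 : (i : G) ≠ 1 := by
    intro e
    rw [← orderOf_coe, e, orderOf_one] at hi
    omega
  have hinv : (i : G)⁻¹ = i := inv_eq_of_mul_eq_one_right hi2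
  have himg : ∀ x ∈ D, (i : G) * x * i ∈ D := fun x hx => by
    have := (Subgroup.mem_normalizer_iff.1 (hwN i.2) x).1 hx
    rwa [hinv] at this
  obtain ⟨a, b, hab⟩ := hdd _ (himg z hzD)
  obtain ⟨a', b', hab'⟩ := hdd _ (himg _ hz'D)
  have hpure : ∀ a b : Fin 3, Nat.card (centralizer ({dd P1.psi a b} : Set G)) = 180 →
      dd P1.psi a b ≠ 1 → (a = 0 ↔ ¬ b = 0) := by
    intro a b h180 hne
    by_cases ha : a = 0 <;> by_cases hb : b = 0
    · subst ha hb; exact absurd (by simp [dd]) hne
    · simp [ha, hb]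
    · simp [ha, hb]
    · rw [hmixcard a b ha hb, hwcard] at h180; omega
  have h1 := hpure a b (by rw [← hab]; nth_rw 2 [← hinv]; rw [centralizer_card_conj, hzcard]) (by
    rw [← hab]; nth_rw 2 [← hinv]; exact fun e => hz1 (conj_eq_one_iff.1 e))
  have hz'1 : P1.psi (inA c5) ≠ 1 := fun e => by
    rw [← map_one P1.psi] at e
    exact (show (inA c5 : KK) ≠ 1 by decide +kernel) (P1.inj e)
  have h2 := hpure a' b' (by rw [← hab']; nth_rw 2 [← hinv]; rw [centralizer_card_conj, hz'card]) (by
    rw [← hab']; nth_rw 2 [← hinv]; exact fun e => hz'1 (conj_eq_one_iff.1 e))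
  have hprod : dd P1.psi a b * dd P1.psi a' b' = w := by
    rw [← hab, ← hab']
    calc (i : G) * z * i * (i * P1.psi (inA c5) * i) = i * z * (i * i) * P1.psi (inA c5) * i := by group
      _ = i * w * i := by rw [hi2]; simp [w, mul_assoc]
      _ = w * (i * i) := by rw [mem_centralizer_singleton_iff.1 i.2, mul_assoc]
      _ = w := by rw [hi2, mul_one]
  have hprod' : (z0 ^ (a : ℕ) * inA c5 ^ (b : ℕ)) * (z0 ^ (a' : ℕ) * inA c5 ^ (b' : ℕ)) = z0 * inA c5 :=
    P1.inj (by rw [map_mul, map_mul P1.psi z0, P1.val]; exact hprod)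
  have hiz : (i : G) * z * i = P1.psi (inA c5) ∧ (i : G) * P1.psi (inA c5) * i = z := by
    rcases pair_cases a b a' b' h1 h2 hprod' with ⟨rfl, rfl, rfl, rfl⟩ | ⟨rfl, rfl, rfl, rfl⟩
    · refine absurd (hcentD i ?_ ?_) fun hiD => ?_
      · calc (i : G) * z = i * z * i * i := by rw [mul_assoc _ (i : G) i, hi2, mul_one]
          _ = z * i := by rw [hab]; simp [dd, P1.val]
      · calc (i : G) * P1.psi (inA c5) = i * P1.psi (inA c5) * i * i := by rw [mul_assoc _ (i : G) i, hi2, mul_one]
          _ = P1.psi (inA c5) * i := by rw [hab']; simp [dd]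
      · have h3 := hexp _ hiD
        rw [pow_succ, pow_two, hi2, one_mul] at h3
        exact hi1 h3
    · exact ⟨hab.trans (by simp [dd]), hab'.trans (by simp [dd, P1.val])⟩
  -- the image of `t` under the exchange
  have hswap : ∀ x : G, (i : G) * ((i : G) * x * i) * i = x := fun x => by
    calc (i : G) * ((i : G) * x * i) * i = (i * i) * x * (i * i) := by group
      _ = x := by rw [hi2, one_mul, mul_one]
  set t := P1.psi (inA t5)
  set u := (i : G) * t * i with hu
  have hu_conj : ∀ x, u * x * u⁻¹ = i * (t * (i * x * i) * t⁻¹) * i := by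
    intro x
    rw [hu, mul_inv_rev, mul_inv_rev, hinv]
    group
  obtain ⟨ht1, ht2, -⟩ := sign_c5_conj
  have huz : u * z * u⁻¹ = z⁻¹ := by
    rw [hu_conj, hiz.1, ← map_inv, ← map_mul, ← map_mul, ht1, map_inv]
    calc (i : G) * (P1.psi (inA c5))⁻¹ * i = (i * P1.psi (inA c5) * i)⁻¹ := by
          rw [mul_inv_rev, mul_inv_rev, hinv, mul_assoc]
      _ = z⁻¹ := by rw [hiz.2]
  have huz' : u * P1.psi (inA c5) = P1.psi (inA c5) * u := by
    have e := congrArg P1.psi ht2
    simp only [map_mul, map_inv, P1.val] at e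
    rw [← mul_inv_eq_iff_eq_mul, hu_conj, hiz.2, e, hiz.1]
  obtain ⟨k, hk⟩ := P1.norm u (Or.inr huz)
  have hu2 : u * u = 1 := by
    calc u * u = i * t * (i * i) * t * i := by rw [hu]; group
      _ = i * (t * t) * i := by rw [hi2]; group
      _ = 1 := by
        rw [← map_mul, show inA t5 * inA t5 = 1 by decide +kernel, map_one, mul_one, hi2]
  obtain ⟨av, hav, hconj, hfix0⟩ := u_shape k (P1.inj (by rw [map_mul, hk, hu2, map_one]))
    (P1.inj (by rw [map_mul, map_mul, map_inv, hk, map_inv, P1.val, huz]))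
    (P1.inj (by rw [map_mul, map_mul, hk, huz']))
  obtain ⟨P2, hP2⟩ := P1.twist (mk' av 1 hav) hfix0
  have hfA : ∀ p, P2.psi (inA p) = P1.psi (inA p) := fun p => by rw [hP2, mk_fix_inA]
  refine ⟨{ psi := P2.psi, psi_inj := P2.inj, norm_z := fun g hg => P2.norm g (by rwa [P2.val] at hg),
            i := (i : G), i_sq := hi2, i_ne := hi1, i_z := ?_, i_t := ?_, D := D, z_mem := ?_,
            z'_mem := ?_, card_D := hcard, D_comm := hDc, cent_D := fun g h1 h2 => ?_,
            conj_D := fun Q hQ => ?_, not_27 := ?_, norm_D := hN72, cent_y := ?_, cent_y_le := ?_,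
            card_cz := ?_ }⟩
  · rw [P2.val, hfA]; exact hiz.1
  · rw [hfA, hP2, hconj, hk]
  · rw [P2.val]; exact hzD
  · rw [hfA]; exact hz'D
  · rw [P2.val] at h1
    rw [hfA] at h2
    exact hcentD g h1 h2
  · obtain ⟨S, hS⟩ := (IsPGroup.of_card (p := 3) (n := 2) hQ).exists_le_sylow
    obtain ⟨k, hk⟩ := MulAction.exists_smul_eq G S P
    refine ⟨k, fun a ha => ?_⟩
    rw [hDP, ← hk]
    exact ⟨a, hS ha, rfl⟩
  · intro h27
    obtain ⟨H, hH⟩ := Sylow.exists_subgroup_card_pow_prime 3 (show 3 ^ 3 ∣ Nat.card G by norm_num; exact h27)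
    obtain ⟨S, hS⟩ := (IsPGroup.of_card hH).exists_le_sylow
    have h := card_dvd_of_le hS
    rw [hH, Nat.card_congr (S.equiv P).toEquiv, ← hDP, hcard] at h
    norm_num at h
  · rw [P2.val, hfA]; exact hwcard
  · rw [P2.val, hfA]; exact hwN
  · rw [P2.val]; exact hzcard

end Cfsg.Agent.A8ThreeLocal
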