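import Mathlib

/-!
Computations in permutation groups of degree three and five used in the 3-local characterisation
of the alternating group of degree eight.
-/

set_option autoImplicit false
set_option maxRecDepth 100000

namespace Cfsg.Agent.A8ThreeLocal

open Equiv Equiv.Perm

abbrev A5 := alternatingGroup (Fin 5)

/-- The three-cycle `(0 1 2)`. -/
def c5 : A5 := ⟨swap 0 1 * swap 1 2, mem_alternatingGroup.2 (by decide)⟩
/-- The double transposition `(0 1)(3 4)`. -/
def t5 : A5 := ⟨swap 0 1 * swap 3 4, mem_alternatingGroup.2 (by decide)⟩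
/-- The double transposition `(0 1)(2 3)`. -/
def a1 : A5 := ⟨swap 0 1 * swap 2 3, mem_alternatingGroup.2 (by decide)⟩
/-- The double transposition `(0 2)(1 3)`. -/
def a2 : A5 := ⟨swap 0 2 * swap 1 3, mem_alternatingGroup.2 (by decide)⟩
/-- The double transposition `(0 3)(1 2)`. -/
def a3 : A5 := ⟨swap 0 3 * swap 1 2, mem_alternatingGroup.2 (by decide)⟩
/-- The double transposition `(0 1)(2 4)`. -/
def b1 : A5 := ⟨swap 0 1 * swap 2 4, mem_alternatingGroup.2 (by decide)⟩
/-- The double transposition `(0 2)(1 4)`. -/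
def b2 : A5 := ⟨swap 0 2 * swap 1 4, mem_alternatingGroup.2 (by decide)⟩
/-- The double transposition `(0 4)(1 2)`. -/
def b3 : A5 := ⟨swap 0 4 * swap 1 2, mem_alternatingGroup.2 (by decide)⟩
/-- The double transposition `(1 2)(3 4)`. -/
def e5 : A5 := ⟨swap 1 2 * swap 3 4, mem_alternatingGroup.2 (by decide)⟩

/-- The odd involution of the first factor. -/
def s3 : Perm (Fin 3) := swap 0 1
/-- The three-cycle of the first factor. -/
def r3 : Perm (Fin 3) := swap 0 1 * swap 1 2
/-- The odd involution of the second factor. -/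
def tau : Perm (Fin 5) := swap 3 4

theorem tau_sq : tau * tau = 1 := by decide +kernel
theorem s3_sq : s3 * s3 = 1 := by decide +kernel
theorem r3_cube : r3 ^ 3 = 1 := by decide +kernel

theorem sign_three_central : ∀ σ : Perm (Fin 3), σ * r3 = r3 * σ →
    σ = 1 ∨ σ = r3 ∨ σ = r3⁻¹ := by decide +kernel

theorem inverts_r3 : ∀ σ : Perm (Fin 3), σ * r3 * σ⁻¹ = r3⁻¹ →
    sign σ = -1 ∧ σ * σ = 1 ∧ ∃ a : Perm (Fin 3), sign a = 1 ∧ a * r3 = r3 * a ∧ a * s3 * a⁻¹ = σ := by
  decide +kernel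

theorem odd_three : ∀ σ : Perm (Fin 3), sign σ = -1 →
    ∃ a : Perm (Fin 3), sign a = 1 ∧ a * s3 * a⁻¹ = σ := by decide +kernel

theorem cube_conj : ∀ p : A5, p ^ 3 = 1 → p ≠ 1 → ∃ s : A5, s * c5 * s⁻¹ = p := by decide +kernel

theorem odd_inv_c5 : ∀ p : Perm (Fin 5), p * p = 1 → sign p = -1 →
    p * (c5 : Perm (Fin 5)) = c5 * p → p = tau := by decide +kernel

theorem cent_klein : ∀ p : A5, p * a1 = a1 * p → p * a3 = a3 * p →
    p = 1 ∨ p = a1 ∨ p = a2 ∨ p = a3 := by decide +kernel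

theorem cent_klein_even : ∀ p : Perm (Fin 5), p * (a1 : Perm (Fin 5)) = a1 * p →
    p * (a3 : Perm (Fin 5)) = a3 * p → sign p = 1 := by decide +kernel

theorem odd_transp : ∀ p : Perm (Fin 5), p * p = 1 → sign p = -1 →
    ∃ b : Perm (Fin 5), sign b = 1 ∧ b * tau * b⁻¹ = p := by decide +kernel

theorem klein_swap_odd : ∀ p : Perm (Fin 5), p * p = 1 →
    (p * (a1 : Perm (Fin 5)) * p⁻¹ = a2 ∨ p * (a1 : Perm (Fin 5)) * p⁻¹ = a3) →
    sign p = -1 := by decide +kernel

theorem invol_conj : ∀ p : A5, p * p = 1 → p ≠ 1 → ∃ s : A5, s * a1 * s⁻¹ = p := by decide +kernel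

theorem invol_commute : ∀ p : A5, p * p = 1 → p ≠ 1 → p ≠ a1 → p * a1 = a1 * p →
    p = a2 ∨ p = a3 := by decide +kernel

/-- The first four group of the fixed partition. -/
def InV1 (p : A5) : Prop := p = 1 ∨ p = a1 ∨ p = a2 ∨ p = a3
/-- The second four group of the fixed partition. -/
def InV2 (p : A5) : Prop := p = 1 ∨ p = b1 ∨ p = b2 ∨ p = b3

instance : DecidablePred InV1 := fun p => by unfold InV1; infer_instance
instance : DecidablePred InV2 := fun p => by unfold InV2; infer_instance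

/-- An element of order three. -/
def O3 (p : A5) : Prop := p ≠ 1 ∧ p ^ 3 = 1

instance : DecidablePred O3 := fun p => by unfold O3; infer_instance

theorem three_word : ∀ h : A5, InV1 h ∨ InV2 h ∨
    (let k := c5 * h * c5⁻¹; let l := c5 * k * c5⁻¹
     O3 (h * k * h * k⁻¹) ∨ O3 (h * k * h * l)) := by decide +kernel

theorem klein_mixed : ∀ h1 : A5, InV1 h1 → ∀ h2 : A5, InV2 h2 →
    h1 = 1 ∨ h2 = 1 ∨ (¬ InV1 (h1 * h2) ∧ ¬ InV2 (h1 * h2)) := by decide +kernel

/-- Carmichael generators `(3 4 j)`. -/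
def x0 : A5 := ⟨swap 3 0 * swap 3 4, mem_alternatingGroup.2 (by decide)⟩
/-- Carmichael generators `(3 4 j)`. -/
def x1 : A5 := ⟨swap 3 1 * swap 3 4, mem_alternatingGroup.2 (by decide)⟩
/-- Carmichael generators `(3 4 j)`. -/
def x2 : A5 := ⟨swap 3 2 * swap 3 4, mem_alternatingGroup.2 (by decide)⟩

theorem c5_word : c5 = x0 * x2⁻¹ * x1 * x0⁻¹ := by decide +kernel

end Cfsg.Agent.A8ThreeLocal
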